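import Cfsg.Agent.H56.FSKit

/-!
From the pair conditions and the shape of solvable subgroups to the inductive class.
-/

set_option autoImplicit false

namespace Cfsg.Agent.H21.FsCL

open Subgroup Cfsg.Agent.H56.FS
open scoped commutatorElement

universe u

section AB

theorem iter_mk {R : Type u} [Group R] (α : R →* R) (M : Subgroup R) [M.Normal]
    (hM : M ≤ M.comap α) (k : ℕ) (x : R) :
    (QuotientGroup.map M M α hM)^[k] (x : R ⧸ M) = ((α^[k] x : R) : R ⧸ M) := by
  induction k with
  | zero => rfl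
  | succ k ih => rw [Function.iterate_succ_apply', ih, Function.iterate_succ_apply']; rfl

theorem ab_aux {p r : ℕ} (hp : p.Prime) (p2 : p ≠ 2) (hr : r.Prime) (rp : r ≠ p) :
    ∀ (n : ℕ) (R : Type u) [Group R] [Finite R], Nat.card R = n → IsPGroup r R →
      ∀ α : R →* R, (∀ x, α^[p] x = x) → closure (Set.range fun u => u⁻¹ * α u) = ⊤ →
      (∀ u, Commute (u⁻¹ * α u) (α (u⁻¹ * α u))) → ∀ c, α c = c → c = 1 := by
  intro n
  induction n using Nat.strong_induction_on with
  | _ n ih =>
  intro R _ _ hn hR α hα hcl hst c hc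
  have := Fact.mk hr
  -- quotient step
  have Q : ∀ M : Subgroup R, M.Normal → M ≠ ⊥ → M ≤ M.comap α → ∀ x, x⁻¹ * α x ∈ M → x ∈ M := by
    intro M hMn hM0 hM x hx
    have hlt : Nat.card (R ⧸ M) < n := by
      rw [← hn, card_eq_card_quotient_mul_card_subgroup M]
      have h1 : 1 < Nat.card M := (one_lt_card_iff_ne_bot M).2 hM0
      have h2 : 0 < Nat.card (R ⧸ M) := Nat.card_pos
      nlinarith
    have key := ih _ hlt (R ⧸ M) rfl (hR.to_quotient M) (QuotientGroup.map M M α hM)
      (fun q => by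
        obtain ⟨y, rfl⟩ := QuotientGroup.mk_surjective q
        rw [iter_mk, hα])
      (by
        rw [eq_top_iff]
        intro q _
        obtain ⟨y, rfl⟩ := QuotientGroup.mk_surjective q
        have hy : y ∈ closure (Set.range fun u => u⁻¹ * α u) := hcl ▸ mem_top y
        have hle : closure (Set.range fun u => u⁻¹ * α u) ≤
            (closure (Set.range fun u => u⁻¹ * QuotientGroup.map M M α hM u)).comap
              (QuotientGroup.mk' M) := by
          rw [closure_le]
          rintro _ ⟨u, rfl⟩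
          exact subset_closure ⟨(u : R ⧸ M), rfl⟩
        exact hle hy)
      (fun q => by
        obtain ⟨y, rfl⟩ := QuotientGroup.mk_surjective q
        exact (hst y).map (QuotientGroup.mk' M))
      (x : R ⧸ M) (QuotientGroup.eq.2 hx).symm
    exact (QuotientGroup.eq_one_iff x).1 key
  have hsurj : Function.Surjective α := fun x => by
    obtain ⟨k, hk⟩ := Nat.exists_eq_succ_of_ne_zero hp.ne_zero
    refine ⟨α^[k] x, ?_⟩
    have := hα x
    rwa [hk, Function.iterate_succ_apply'] at this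
  have hZ : ∀ z ∈ center R, α z ∈ center R := fun z hz => by
    rw [mem_center_iff]
    intro g
    obtain ⟨y, rfl⟩ := hsurj g
    rw [← map_mul, ← map_mul, mem_center_iff.1 hz y]
  have hpow : ∀ x : R, x ^ p = 1 → x = 1 := fun x hx => by
    obtain ⟨k, hk⟩ := hR x
    have h1 : orderOf x ∣ Nat.gcd p (r ^ k) :=
      Nat.dvd_gcd (orderOf_dvd_of_pow_eq_one hx) (orderOf_dvd_of_pow_eq_one hk)
    have h2 : Nat.Coprime p (r ^ k) := ((Nat.coprime_primes hp hr).2 rp.symm).pow_right k
    rw [h2.gcd_eq_one, Nat.dvd_one] at h1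
    exact orderOf_eq_one_iff.1 h1
  rcases subsingleton_or_nontrivial R with hs | hnt
  · exact Subsingleton.elim _ _
  have hZ0 : center R ≠ ⊥ := (nontrivial_iff_ne_bot _).1 hR.center_nontrivial
  -- the subgroup `[Z, α]`
  let M : Subgroup R :=
    { carrier := {m | ∃ z ∈ center R, m = z⁻¹ * α z}
      one_mem' := ⟨1, one_mem _, by simp⟩
      mul_mem' := by
        rintro _ _ ⟨a, ha, rfl⟩ ⟨b, hb, rfl⟩
        refine ⟨a * b, mul_mem ha hb, ?_⟩
        rw [map_mul, mul_inv_rev]
        have := mem_center_iff.1 (inv_mem hb) (a⁻¹ * α a)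
        calc a⁻¹ * α a * (b⁻¹ * α b) = (a⁻¹ * α a * b⁻¹) * α b := by group
          _ = _ := by rw [this]; group
      inv_mem' := by
        rintro _ ⟨a, ha, rfl⟩
        refine ⟨a⁻¹, inv_mem ha, ?_⟩
        rw [map_inv, mul_inv_rev, inv_inv]
        exact mem_center_iff.1 ha _ }
  have hMZ : M ≤ center R := by
    rintro _ ⟨z, hz, rfl⟩
    exact mul_mem (inv_mem hz) (hZ z hz)
  by_cases hM0 : M = ⊥
  · have hfix : ∀ z ∈ center R, α z = z := fun z hz => by
      have : z⁻¹ * α z ∈ M := ⟨z, hz, rfl⟩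
      rw [hM0, mem_bot, inv_mul_eq_one] at this
      exact this.symm
    have hq := Q (center R) inferInstance hZ0 (fun z hz => hZ z hz)
    -- the map `q ↦ q⁻¹ α q` is onto `R / Z`
    have hle : center R ≤ (center R).comap α := fun z hz => hZ z hz
    let β := QuotientGroup.map (center R) (center R) α hle
    have hinj : Function.Injective fun q : R ⧸ center R => q⁻¹ * β q := by
      intro q s h
      obtain ⟨x, rfl⟩ := QuotientGroup.mk_surjective q
      obtain ⟨y, rfl⟩ := QuotientGroup.mk_surjective s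
      have h1 : (((x * y⁻¹ : R)) : R ⧸ center R) = β ((x * y⁻¹ : R) : R ⧸ center R) := by
        rw [QuotientGroup.mk_mul, QuotientGroup.mk_inv, map_mul, map_inv]
        have h' : (x : R ⧸ center R)⁻¹ * β x = (y : R ⧸ center R)⁻¹ * β y := h
        calc (x : R ⧸ center R) * (y : R ⧸ center R)⁻¹
            = x * ((y : R ⧸ center R)⁻¹ * β y) * (β y)⁻¹ := by group
          _ = _ := by rw [← h']; group
      have h2 := hq (x * y⁻¹) (QuotientGroup.eq.1 h1)
      have h3 : (((x * y⁻¹ : R)) : R ⧸ center R) = 1 := (QuotientGroup.eq_one_iff _).2 h2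
      rwa [QuotientGroup.mk_mul, QuotientGroup.mk_inv, mul_inv_eq_one] at h3
    have hall : ∀ x : R, Commute x (α x) := fun x => by
      obtain ⟨q, hq'⟩ := Finite.surjective_of_injective hinj (x : R ⧸ center R)
      obtain ⟨u, rfl⟩ := QuotientGroup.mk_surjective q
      have h1 : (u⁻¹ * α u)⁻¹ * x ∈ center R := QuotientGroup.eq.1 hq'
      have h2 : x = (u⁻¹ * α u) * ((u⁻¹ * α u)⁻¹ * x) := by group
      generalize (u⁻¹ * α u)⁻¹ * x = z at h1 h2
      have h3 := hst u
      generalize u⁻¹ * α u = y at h2 h3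
      rw [h2, map_mul, hfix z h1]
      have c1 : ∀ g : R, Commute g z := fun g => mem_center_iff.1 h1 g
      exact (h3.mul_right (c1 y)).mul_left (c1 _).symm
    by_cases hZt : center R = ⊤
    · have : closure (Set.range fun u => u⁻¹ * α u) ≤ ⊥ := by
        rw [closure_le]
        rintro _ ⟨u, rfl⟩
        have := hfix u (hZt ▸ mem_top u)
        simp [this]
      rw [hcl] at this
      exact mem_bot.1 (this (mem_top c))
    · exfalso
      have hnt' : Nontrivial (R ⧸ center R) := QuotientGroup.nontrivial_iff.2 hZt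
      have hcn := (hR.to_quotient (center R)).center_nontrivial
      obtain ⟨⟨q, hqc⟩, hq1⟩ := exists_ne (1 : center (R ⧸ center R))
      obtain ⟨w, rfl⟩ := QuotientGroup.mk_surjective q
      have hw : w ∉ center R := fun h => hq1 (Subtype.ext ((QuotientGroup.eq_one_iff w).2 h))
      have hcm : ∀ y : R, w⁻¹ * y⁻¹ * w * y ∈ center R := fun y => by
        have := mem_center_iff.1 hqc (y : R ⧸ center R)
        rw [← QuotientGroup.mk_mul, ← QuotientGroup.mk_mul, QuotientGroup.eq] at this
        simpa [mul_assoc] using this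
      have hcm' : ∀ y : R, (α w)⁻¹ * y⁻¹ * α w * y ∈ center R := fun y => by
        obtain ⟨v, rfl⟩ := hsurj y
        have := hZ _ (hcm v)
        simpa [map_mul] using this
      have hV : α (α w) * w⁻¹ ∈ center R := by
        rw [mem_center_iff]
        intro g
        obtain ⟨x, hx⟩ := hsurj g⁻¹
        have e1 := (hall x).eq
        have e2 := (hall w).eq
        have e3 := (hall (x * w)).eq
        rw [map_mul] at e3
        have s1 := hcm (α x)
        have t1 := hcm' x
        have t2 := hfix _ t1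
        simp only [map_mul, map_inv] at t2
        set s := w⁻¹ * (α x)⁻¹ * w * α x with hs
        set t := (α w)⁻¹ * x⁻¹ * α w * x with ht
        have hs' : w * α x = α x * w * s := by rw [hs]; group
        have ht' : α w * x = x * α w * t := by rw [ht]; group
        have l1 : x * w * (α x * α w) = x * α x * w * α w * s := by
          calc x * w * (α x * α w) = x * (w * α x) * α w := by group
            _ = x * α x * w * (s * α w) := by rw [hs']; group
            _ = _ := by rw [← mem_center_iff.1 s1 (α w)]; group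
        have l2 : α x * α w * (x * w) = x * α x * w * α w * t := by
          calc α x * α w * (x * w) = α x * (α w * x) * w := by group
            _ = (α x * x) * α w * (t * w) := by rw [ht']; group
            _ = (x * α x) * (α w * w) * t := by rw [← mem_center_iff.1 t1 w, e1]; group
            _ = _ := by rw [← e2]; group
        have st : s = t := mul_left_cancel (l1.symm.trans (e3.trans l2))
        rw [← t2, hs, hx] at st
        have st' : w⁻¹ * g * w = (α (α w))⁻¹ * g * α (α w) := by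
          have := mul_right_cancel st
          simpa using this
        calc g * (α (α w) * w⁻¹) = α (α w) * ((α (α w))⁻¹ * g * α (α w)) * w⁻¹ := by group
          _ = _ := by rw [← st']; group
      have hit : ∀ k : ℕ, α^[2 * k] w = (α (α w) * w⁻¹) ^ k * w := by
        intro k
        induction k with
        | zero => simp
        | succ k ih2 =>
          rw [show 2 * (k + 1) = 2 * k + 1 + 1 by ring, Function.iterate_succ_apply',
            Function.iterate_succ_apply', ih2, map_mul, map_mul, hfix _ (pow_mem hV k),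
            hfix _ (pow_mem hV k), pow_succ]
          group
      obtain ⟨k, hk⟩ := hp.odd_of_ne_two p2
      have h1 : α w = (α (α w) * w⁻¹) ^ (k + 1) * w := by
        rw [← hit, show 2 * (k + 1) = p + 1 by omega, Function.iterate_succ_apply', hα]
      refine hw (hq w ?_)
      rw [h1, ← mem_center_iff.1 (pow_mem hV (k + 1)) w, inv_mul_cancel_left]
      exact pow_mem hV (k + 1)
  · have hMn : M.Normal := ⟨fun m hm g => by
      rw [mem_center_iff.1 (hMZ hm) g, mul_inv_cancel_right]; exact hm⟩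
    have hcM : c ∈ M := Q M hMn hM0 (by
      rintro _ ⟨z, hz, rfl⟩
      exact ⟨α z, hZ z hz, by rw [map_mul, map_inv]⟩) c (by rw [hc, inv_mul_cancel]; exact one_mem _)
    obtain ⟨z, -, hz⟩ := hcM
    have h1 : α z = z * c := by rw [hz]; group
    have h2 : ∀ k : ℕ, α^[k] z = z * c ^ k := by
      intro k
      induction k with
      | zero => simp
      | succ k ih2 =>
        rw [Function.iterate_succ_apply', ih2, map_mul, map_pow, hc, h1, pow_succ']; group
    have h3 := h2 p
    rw [hα] at h3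
    exact hpow c (by simpa using h3.symm)

end AB

section Main

variable {G : Type u} [Group G] {p r : ℕ} {D : Set (Subgroup G)}

theorem comm_sup_le {V B : Subgroup G} (hn : B ≤ normalizer (V : Set G))
    (hB : B ≤ centralizer (B : Set G)) : ⁅V ⊔ B, V ⊔ B⁆ ≤ V := by
  rw [commutator_le]
  intro x hx y hy
  obtain ⟨v1, hv1, b1, hb1, rfl⟩ := mem_sup_of_norm hn hx
  obtain ⟨v2, hv2, b2, hb2, rfl⟩ := mem_sup_of_norm hn hy
  have e : b1 * b2 = b2 * b1 := hB hb2 b1 hb1
  have : ⁅v1 * b1, v2 * b2⁆ = v1 * (b1 * v2 * b1⁻¹) * (b2 * v1⁻¹ * b2⁻¹) * v2⁻¹ := by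
    rw [commutatorElement_def]
    calc v1 * b1 * (v2 * b2) * (v1 * b1)⁻¹ * (v2 * b2)⁻¹
        = v1 * (b1 * v2 * b1⁻¹) * ((b1 * b2) * b1⁻¹ * v1⁻¹ * b2⁻¹) * v2⁻¹ := by group
      _ = _ := by rw [e]; group
  rw [this]
  exact mul_mem (mul_mem (mul_mem hv1 ((mem_normalizer_iff.1 (hn hb1) _).1 hv2))
    ((mem_normalizer_iff.1 (hn hb2) _).1 (inv_mem hv1))) (inv_mem hv2)

theorem solv_of_comm [Finite G] (hr : r.Prime) {F : Subgroup G} (h : IsPGroup r ↥⁅F, F⁆) :
    Group.IsSolvable F := by
  have := Fact.mk hr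
  have h1 : Group.IsSolvable ↥⁅F, F⁆ := H4.isSolvable_of_isPGroup h
  refine Group.isSolvable_of_ker_le_range (inclusion (commutator_le_self F))
    (Abelianization.of (G := F)) ?_
  intro x hx
  rw [Abelianization.ker_of] at hx
  have h2 : (x : G) ∈ ⁅F, F⁆ := by
    rw [← map_subtype_commutator]
    exact mem_map_of_mem _ hx
  exact ⟨⟨x, h2⟩, rfl⟩

variable [Finite G] (h : Bs p r D) (hS : Sh p r D) {X : Subgroup G}
  (hX : Group.IsSolvable ↥(LL D X))
include h hS hX

theorem comm_RA {A : Subgroup G} (hA : A ∈ D) (hAX : A ≤ X) : ⁅RR D X, A⁆ = RR D X := by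
  refine le_antisymm (commutator_mono (RR_le X) (le_LL hA hAX)) ?_
  have nR : RR D X ≤ normalizer ((⁅RR D X, A⁆ : Subgroup G) : Set G) :=
    normalizer_commutator_ge_left _ _
  have nA : A ≤ normalizer ((⁅RR D X, A⁆ : Subgroup G) : Set G) :=
    normalizer_commutator_ge_right _ _
  have key : LL D X ≤ ⁅RR D X, A⁆ ⊔ A := by
    refine LL_le_of fun B hB hBX b hb => ?_
    have hbL : b ∈ RR D X ⊔ A := hS.sup X hX A hA hAX ▸ le_LL hB hBX hb
    obtain ⟨u, hu, a, ha, e⟩ := mem_sup_of_norm ((le_LL hA hAX).trans (LL_le_norm_RR X)) hbL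
    have h1 : ∀ n : ℕ, (u * a) ^ n * (a ^ n)⁻¹ * (u ^ n)⁻¹ ∈ ⁅RR D X, A⁆ := by
      intro n
      induction n with
      | zero => simp
      | succ n ih =>
        have h2 : ⁅a ^ n, u⁆ ∈ ⁅RR D X, A⁆ := by
          rw [commutator_comm]; exact commutator_mem_commutator (pow_mem ha n) hu
        have h3 := (mem_normalizer_iff.1 (nR (pow_mem hu n)) _).1 h2
        have : (u * a) ^ (n + 1) * (a ^ (n + 1))⁻¹ * (u ^ (n + 1))⁻¹ =
            (u * a) ^ n * (a ^ n)⁻¹ * (u ^ n)⁻¹ * (u ^ n * ⁅a ^ n, u⁆ * (u ^ n)⁻¹) := by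
          rw [commutatorElement_def, pow_succ (u * a), pow_succ a, pow_succ u]
          simp only [mul_inv_rev, mul_assoc, mul_inv_cancel_left, inv_mul_cancel_left]
        rw [this]
        exact mul_mem ih h3
    have h4 := h1 p
    rw [← e, h.pow_p hB hb, h.pow_p hA ha, one_mul, inv_one, one_mul, inv_mem_iff] at h4
    have h5 : u ∈ ⁅RR D X, A⁆ := by
      obtain ⟨k, hk⟩ := hS.pg X hX ⟨u, hu⟩
      have hk' : u ^ r ^ k = 1 := congrArg Subtype.val hk
      have h6 : Nat.Coprime p (orderOf u) :=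
        (((Nat.coprime_primes h.pp h.pr).2 h.rp.symm).pow_right k).coprime_dvd_right
          (orderOf_dvd_of_pow_eq_one hk')
      obtain ⟨m, hm⟩ := exists_pow_eq_self_of_coprime h6
      rw [← hm]
      exact pow_mem h4 m
    rw [e]
    exact mul_mem_sup h5 ha
  exact (commutator_mono key key).trans (comm_sup_le nA (h.comm hA))

omit [Finite G] h hS hX in
theorem cent_LL {v : G} (hv : ∀ B ∈ D, B ≤ X → v ∈ centralizer (B : Set G)) :
    v ∈ centralizer (LL D X : Set G) :=
  le_Ce_iff.1 (LL_le_of fun B hB hBX => le_Ce_iff.2 (hv B hB hBX))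

theorem na1 (hna : ∀ A ∈ D, ∀ B ∈ D, A ≠ B → ¬ IsMulCommutative ↥⁅A ⊔ B, A ⊔ B⁆)
    {V : Subgroup G} (hV : V ≤ RR D X) (hab : V ≤ centralizer (V : Set G))
    (hn : LL D X ≤ normalizer (V : Set G)) : V ≤ centralizer (LL D X : Set G) := by
  intro v hv
  refine cent_LL fun B hB hBX => ?_
  have nB : B ≤ normalizer (V : Set G) := (le_LL hB hBX).trans hn
  have e : B = cj v B := by
    by_contra ne
    refine hna B hB _ (h.inv B hB v) ne ⟨⟨fun x y => Subtype.ext ?_⟩⟩
    have hle : B ⊔ cj v B ≤ V ⊔ B :=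
      sup_le le_sup_right (cj_le_of_mem (mem_sup_left hv) le_sup_right)
    have h1 := (commutator_mono hle hle).trans (comm_sup_le nB (h.comm hB))
    exact hab (h1 y.2) x (h1 x.2)
  intro b hb
  have h1 : v * b * v⁻¹ * b⁻¹ ∈ RR D X ⊓ B := by
    refine mem_inf.2 ⟨hV ?_, mul_mem (e ▸ conj_mem_cj hb) (inv_mem hb)⟩
    have := (mem_normalizer_iff.1 (nB hb) v⁻¹).1 (inv_mem hv)
    simpa [mul_assoc] using mul_mem hv this
  rw [h.inf_bot hB (hS.pg X hX), mem_bot] at h1
  calc b * v = (v * b * v⁻¹ * b⁻¹) * (b * v) := by rw [h1, one_mul]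
    _ = v * b := by group

theorem na2 (hna : ∀ A ∈ D, ∀ B ∈ D, A ≠ B → ¬ IsMulCommutative ↥⁅A ⊔ B, A ⊔ B⁆) :
    ⁅RR D X, RR D X⁆ ≤ centralizer (LL D X : Set G) := by
  have := Fact.mk h.pr
  obtain ⟨n, hn⟩ := (isNilpotent_iff_lowerCentralSeries (RR D X)).1 (hS.pg X hX).isNilpotent
  have nm : ∀ i, LL D X ≤ normalizer ((RR D X).lowerCentralSeries i : Set G) := by
    intro i
    induction i with
    | zero => exact LL_le_norm_RR X
    | succ i ih => exact H4.le_normalizer_commutator ih (LL_le_norm_RR X)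
  have step : ∀ i, (RR D X).lowerCentralSeries (i + 2) ≤ centralizer (LL D X : Set G) →
      (RR D X).lowerCentralSeries (i + 1) ≤ centralizer (LL D X : Set G) := by
    intro i hi
    have a1 : (RR D X).lowerCentralSeries (i + 1) ≤ ⁅RR D X, RR D X⁆ :=
      (RR D X).lowerCentralSeries_antitone (show 1 ≤ i + 1 by omega)
    have a0 : (RR D X).lowerCentralSeries (i + 1) ≤ RR D X :=
      (RR D X).lowerCentralSeries_antitone (show 0 ≤ i + 1 by omega)
    have h2 : ⁅⁅(RR D X).lowerCentralSeries (i + 1), RR D X⁆, RR D X⁆ = ⊥ :=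
      commutator_eq_bot_iff_le_centralizer.2 (hi.trans (centralizer_le (RR_le X)))
    have h3 : ⁅⁅RR D X, RR D X⁆, (RR D X).lowerCentralSeries (i + 1)⁆ = ⊥ :=
      commutator_commutator_eq_bot_of_rotate (by rw [commutator_comm (RR D X)]; exact h2) h2
    exact na1 h hS hX hna a0 (a1.trans (commutator_eq_bot_iff_le_centralizer.1 h3)) (nm _)
  have down : ∀ k, (RR D X).lowerCentralSeries (k + 1) ≤ centralizer (LL D X : Set G) →
      (RR D X).lowerCentralSeries 1 ≤ centralizer (LL D X : Set G) := by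
    intro k
    induction k with
    | zero => exact id
    | succ k ih => exact fun hk => ih (step k hk)
  refine down n ?_
  exact ((RR D X).lowerCentralSeries_antitone (Nat.le_succ n)).trans (hn.le.trans bot_le)

theorem cen_na (hna : ∀ A ∈ D, ∀ B ∈ D, A ≠ B → ¬ IsMulCommutative ↥⁅A ⊔ B, A ⊔ B⁆)
    {A : Subgroup G} (hA : A ∈ D) (hAX : A ≤ X) :
    RR D X ⊓ centralizer (A : Set G) ≤ centralizer (LL D X : Set G) := by
  have h1 : ⁅A, RR D X ⊓ centralizer (A : Set G)⁆ = ⊥ := by
    rw [commutator_comm]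
    exact commutator_eq_bot_iff_le_centralizer.2 inf_le_right
  have h2 : ⁅⁅RR D X ⊓ centralizer (A : Set G), RR D X⁆, A⁆ = ⊥ :=
    commutator_eq_bot_iff_le_centralizer.2 ((commutator_mono inf_le_left le_rfl).trans
      ((na2 h hS hX hna).trans (centralizer_le (le_LL hA hAX))))
  have h3 : ⁅⁅RR D X, A⁆, RR D X ⊓ centralizer (A : Set G)⁆ = ⊥ :=
    commutator_commutator_eq_bot_of_rotate (by rw [h1, commutator_bot_left]) h2
  rw [comm_RA h hS hX hA hAX, commutator_comm, commutator_eq_bot_iff_le_centralizer] at h3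
  intro c hc
  rw [hS.sup X hX A hA hAX]
  exact le_Ce_iff.1 (sup_le (le_Ce_iff.2 (h3 hc)) (le_Ce_iff.2 hc.2))

theorem cen_ab (hps : ∀ A ∈ D, ∀ B ∈ D, A ⊔ B = ⁅A ⊔ B, A ⊔ B⁆ ⊔ A)
    (hab : ∀ A ∈ D, ∀ B ∈ D, IsMulCommutative ↥⁅A ⊔ B, A ⊔ B⁆)
    {A : Subgroup G} (hA : A ∈ D) (hAX : A ≤ X) :
    RR D X ⊓ centralizer (A : Set G) = ⊥ := by
  obtain ⟨a, ha, -, hz⟩ := h.exists_gen hA
  have nA : A ≤ normalizer (RR D X : Set G) := (le_LL hA hAX).trans (LL_le_norm_RR X)
  let α : RR D X →* RR D X :=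
    { toFun := fun u => ⟨a * u * a⁻¹, (mem_normalizer_iff.1 (nA ha) _).1 u.2⟩
      map_one' := Subtype.ext (by simp)
      map_mul' := fun x y => Subtype.ext (by simp [mul_assoc]) }
  have hα : ∀ u, ((α u : RR D X) : G) = a * u * a⁻¹ := fun u => rfl
  have hit : ∀ (k : ℕ) (u : RR D X), ((α^[k] u : RR D X) : G) = a ^ k * u * (a ^ k)⁻¹ := by
    intro k u
    induction k with
    | zero => simp
    | succ k ih => rw [Function.iterate_succ_apply', hα, ih, pow_succ']; group
  have key := ab_aux h.pp h.p2 h.pr h.rp _ (RR D X) rfl (hS.pg X hX) α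
    (fun x => Subtype.ext (by rw [hit, h.pow_p hA ha]; simp))
    (by
      rw [eq_top_iff]
      have t : ∀ (k : ℕ) (u : RR D X), u⁻¹ * α^[k] u ∈ closure (Set.range fun u => u⁻¹ * α u) := by
        intro k u
        induction k with
        | zero => simp
        | succ k ih =>
          have : u⁻¹ * α^[k + 1] u = (u⁻¹ * α^[k] u) * ((α^[k] u)⁻¹ * α (α^[k] u)) := by
            rw [Function.iterate_succ_apply']; group
          rw [this]
          exact mul_mem ih (subset_closure ⟨_, rfl⟩)
      have hle : ⁅RR D X, A⁆ ≤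
          (closure (Set.range fun u => u⁻¹ * α u)).map (RR D X).subtype := by
        rw [commutator_le]
        intro u hu b hb
        rw [← hz, ← mem_powers_iff_mem_zpowers] at hb
        obtain ⟨k, rfl⟩ := hb
        refine ⟨_, t k (⟨u, hu⟩ : RR D X)⁻¹, ?_⟩
        simp [hit, commutatorElement_def, mul_assoc]
      rw [comm_RA h hS hX hA hAX] at hle
      intro u _
      obtain ⟨y, hy, e⟩ := hle u.2
      rwa [show y = u from Subtype.ext e] at hy)
    (fun u => by
      have hB := h.inv A hA (u : G)⁻¹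
      have hFL : A ⊔ cj (u : G)⁻¹ A ≤ LL D X :=
        sup_le (le_LL hA hAX) (cj_le_of_mem (inv_mem (RR_le X u.2)) (le_LL hA hAX))
      have nF : A ⊔ cj (u : G)⁻¹ A ≤
          normalizer ((⁅A ⊔ cj (u : G)⁻¹ A, A ⊔ cj (u : G)⁻¹ A⁆ : Subgroup G) : Set G) :=
        normalizer_commutator_ge_left _ _
      have hx : ((u⁻¹ * α u : RR D X) : G) ∈ A ⊔ cj (u : G)⁻¹ A := by
        have h1 := conj_mem_cj (g := (u : G)⁻¹) ha
        have : ((u⁻¹ * α u : RR D X) : G) = ((u : G)⁻¹ * a * (u : G)⁻¹⁻¹) * a⁻¹ := by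
          simp [hα, mul_assoc]
        rw [this]
        exact mul_mem (mem_sup_right h1) (mem_sup_left (inv_mem ha))
      rw [hps A hA _ hB] at hx
      obtain ⟨f, hf, b, hb, e⟩ := mem_sup_of_norm (le_sup_left.trans nF) hx
      have hfR : f ∈ RR D X := commutator_mono hFL hFL hf
      have hb1 : b ∈ RR D X ⊓ A := by
        refine mem_inf.2 ⟨?_, hb⟩
        have : b = f⁻¹ * ((u⁻¹ * α u : RR D X) : G) := by rw [e]; group
        rw [this]
        exact mul_mem (inv_mem hfR) (u⁻¹ * α u).2
      rw [h.inf_bot hA (hS.pg X hX), mem_bot] at hb1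
      rw [hb1, mul_one] at e
      have hf' := (mem_normalizer_iff.1 (nF (mem_sup_left ha)) f).1 hf
      have hc := (hab A hA _ hB).is_comm.comm ⟨f, hf⟩ ⟨_, hf'⟩
      refine Subtype.ext ?_
      generalize u⁻¹ * α u = y at e
      rw [coe_mul, coe_mul, hα y, e]
      exact congrArg Subtype.val hc)
  rw [eq_bot_iff]
  intro c hc
  have := key ⟨c, hc.1⟩ (Subtype.ext (by rw [hα]; simp [hc.2 a ha]))
  exact congrArg Subtype.val this

end Main

theorem cl : ClStmt.{u} := by
  intro G _ _ p r D hP hS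
  refine { hP.toBs, hS with
    pair := fun A hA B hB => solv_of_comm hP.pr (hP.ppg A hA B hB)
    cen := fun X hX A hA hAX => ?_
    flag := ?_ }
  · rcases hP.pflag with hab | hna
    · rw [cen_ab hP.toBs hS hX hP.psup hab hA hAX]; exact bot_le
    · exact cen_na hP.toBs hS hX hna hA hAX
  · rcases hP.pflag with hab | hna
    · exact Or.inl fun X hX A hA hAX => cen_ab hP.toBs hS hX hP.psup hab hA hAX
    · exact Or.inr fun X hX => na2 hP.toBs hS hX hna

end Cfsg.Agent.H21.FsCL
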