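import Cfsg.Agent.H21.L3A
import Cfsg.Agent.H87.Transfer
import Cfsg.Agent.H9.Taussky
import Cfsg.Agent.H10.Isolated
import Cfsg.Agent.H11.GroupUtil
import Cfsg.Agent.H8.Wreath

/-! Two criteria for an involution to be isolated. -/

set_option autoImplicit false

namespace Cfsg.Agent.H21.L3

open Subgroup Cfsg Cfsg.Agent.H63 Cfsg.Agent.H67 Cfsg.Agent.H57

variable {G : Type*} [Group G]

theorem cjm (g x y : G) : g * (x * y) * g⁻¹ = g * x * g⁻¹ * (g * y * g⁻¹) := by group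

theorem cjc (g h x : G) : g * h * x * (g * h)⁻¹ = g * (h * x * h⁻¹) * g⁻¹ := by group

theorem cje {g x : G} : g * x * g⁻¹ = x ↔ g * x = x * g := mul_inv_eq_iff_eq_mul

theorem mem_zp2 {z y : G} (h : z * z = 1) (hy : y ∈ zpowers z) : y = 1 ∨ y = z := by
  obtain ⟨i, rfl⟩ := hy
  have e : z ^ (2 : ℤ) = 1 := by rw [zpow_two, h]
  obtain ⟨j, rfl | rfl⟩ := Int.even_or_odd' i
  · left; simp only [zpow_mul, e, one_zpow]
  · right; simp only [zpow_add, zpow_mul, e, one_zpow, one_mul, zpow_one]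

theorem mem_zp3 {z y : G} (h : z ^ 3 = 1) (hy : y ∈ zpowers z) : y = 1 ∨ y = z ∨ y = z⁻¹ := by
  obtain ⟨i, rfl⟩ := hy
  have e : z ^ (3 : ℤ) = 1 := by exact_mod_cast h
  obtain ⟨j, rfl | rfl | rfl⟩ : ∃ j, i = 3 * j ∨ i = 3 * j + 1 ∨ i = 3 * j + -1 :=
    ⟨(i + 1) / 3, by omega⟩ <;>
  simp only [zpow_add, zpow_mul, e, one_zpow, one_mul, zpow_one, zpow_neg, true_or, or_true]

theorem eq_one_of_cube {Q : Subgroup G} (hQ : IsPGroup 2 Q) {r : G} (hr : r ∈ Q) (h : r ^ 3 = 1) :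
    r = 1 := by
  obtain ⟨n, hn⟩ := hQ ⟨r, hr⟩
  exact orderOf_eq_one_iff.1 (Nat.eq_one_of_dvd_coprimes (Nat.Coprime.pow_left n (by norm_num))
    (orderOf_dvd_of_pow_eq_one (congrArg Subtype.val hn)) (orderOf_dvd_of_pow_eq_one h))

variable [Finite G]

/-- If `t` fixes a unique coset of `H` then `H` has odd index, locally. -/
theorem syl_star {H M R : Subgroup G} {t : G} (hs : ∀ g, g * t * g⁻¹ ∈ H → g ∈ H)
    (hR : IsSyl 2 R (H ⊓ M)) (ht : t ∈ R) : IsSyl 2 R M :=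
  syl_of_normalizer_le hR inf_le_right fun g hg =>
    ⟨hs g (hall_le hR (conj_mem_of_mem_normalizer hg.2 ht)).1, hg.1⟩

theorem iso_star {H : Subgroup G} {t z : G} (hs : ∀ g, g * t * g⁻¹ ∈ H → g ∈ H) (t2 : t * t = 1)
    (tH : t ∈ H) (z2 : orderOf z = 2) (tz : t * z = z * t)
    (h1 : ∀ y ∈ H, y * y = 1 → ∃ n ∈ H, n * t * n⁻¹ * y = y * (n * t * n⁻¹))
    (h2 : ∀ n ∈ H, Commute z (n * z * n⁻¹) → n * z * n⁻¹ = z) : IsIsolatedInvolution z := by
  obtain ⟨R, hR, tR⟩ := exists_syl_ge (p := 2) (K := zpowers t) (M := H ⊓ C1[z])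
    (zpowers_le.2 ⟨tH, mem_centralizer_singleton_iff.2 tz⟩)
    (isPGroup_zpowers_of_pow (by rw [pow_two, t2]))
  have hR' := syl_star hs hR (tR (mem_zpowers t))
  have zz : z * z = 1 := by rw [← pow_two, ← z2, pow_orderOf_eq_one]
  have key : ∀ {y}, y * y = 1 → y * z = z * y → ∃ c, c * z = z * c ∧ c * y * c⁻¹ ∈ H ⊓ C1[z] :=
    fun {y} y2 e => by
      obtain ⟨c, hc, h⟩ := exists_cj_le_syl hR' (K := zpowers y)
        (zpowers_le.2 (mem_centralizer_singleton_iff.2 e))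
        (isPGroup_zpowers_of_pow (by rw [pow_two, y2]))
      exact ⟨c, mem_centralizer_singleton_iff.1 hc, hall_le hR (h (conj_mem_cj (mem_zpowers y)))⟩
  refine ⟨z2, fun g hg => ?_⟩
  obtain ⟨c, hc, e⟩ := key (y := g * z * g⁻¹) (by rw [← cjm, zz]; group) hg.eq.symm
  rw [← cjc] at e
  obtain ⟨n, nH, hn⟩ := h1 _ e.1 (by rw [← cjm, zz]; group)
  obtain ⟨d, hd, e'⟩ := key (y := (c * g)⁻¹ * (n * t * n⁻¹) * (c * g)⁻¹⁻¹)
    (by rw [← cjm, ← cjm, t2]; group) (by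
      calc _ = (c * g)⁻¹ * (n * t * n⁻¹ * (c * g * z * (c * g)⁻¹)) * (c * g) := by group
        _ = _ := by rw [hn]; group)
  rw [← cjc, ← cjc] at e'
  have h3 := inv_mem ((mul_mem_cancel_right nH).1 (hs _ e'.1))
  have h4 : (d * (c * g)⁻¹)⁻¹ * z * (d * (c * g)⁻¹)⁻¹⁻¹ = c * g * z * (c * g)⁻¹ := by
    calc _ = c * g * (d⁻¹ * (z * d)) * (c * g)⁻¹ := by group
      _ = _ := by rw [← hd]; group
  have h5 := h2 _ h3 (h4 ▸ (mem_centralizer_singleton_iff.1 e.2).symm)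
  rw [h4, cjc] at h5
  calc _ = c⁻¹ * (c * (g * z * g⁻¹) * c⁻¹) * c := by group
    _ = _ := by rw [h5, mul_assoc, ← hc, inv_mul_cancel_left]

theorem iso_max {t z c g₀ : G} (t2 : orderOf t = 2) (z2 : orderOf z = 2) (tz : Commute t z)
    (hV : ∀ y, y * t = t * y → (y * z * y⁻¹ * z⁻¹) ^ 3 = 1)
    (hV' : ∀ y, y * t = t * y → y * z = z * y → y = 1 ∨ y = t ∨ y = z ∨ y = t * z)
    (hg : g₀ * t * g₀⁻¹ = t * z) (nz : ∀ g, g * t * g⁻¹ ≠ z) (c3 : orderOf c = 3)
    (cz : c * z = z * c) (ct : t * c * t⁻¹ = c⁻¹)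
    (hc : ∀ y, y * c = c * y → y * z = z * y → y ∈ zpowers c ∨ y * z ∈ zpowers c) :
    IsIsolatedInvolution z := by
  have tt : t * t = 1 := by rw [← pow_two, ← t2, pow_orderOf_eq_one]
  have zz : z * z = 1 := by rw [← pow_two, ← z2, pow_orderOf_eq_one]
  have cc : c ^ 3 = 1 := by rw [← c3, pow_orderOf_eq_one]
  have t1 : t ≠ 1 := fun e => by simp [e] at t2
  have z1 : z ≠ 1 := fun e => by simp [e] at z2
  have c4 := (H8.isKleinFour_closure t2 z2 (by simpa using nz 1) tz).card_four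
  have hV2 := H10.isPGroup_closure_pair tt zz tz
  have tV : t ∈ closure {t, z} := subset_closure (by simp)
  have zV : z ∈ closure {t, z} := subset_closure (by simp)
  have Vt : closure {t, z} ≤ C1[t] ⊓ C1[z] := (closure_le _).2 (by
    rintro _ (rfl | rfl) <;> exact ⟨mem_centralizer_singleton_iff.2 (by simp [tz.eq]),
      mem_centralizer_singleton_iff.2 (by simp [tz.eq])⟩)
  generalize closure {t, z} = V at c4 hV2 tV zV Vt
  have key : ∀ Q : Subgroup G, IsPGroup 2 Q → z ∈ Q → Q ⊓ C1[t] ≤ V := fun Q hQ hz y hy => by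
    have e := mem_centralizer_singleton_iff.1 hy.2
    have := eq_one_of_cube hQ (mul_mem (mul_mem (mul_mem hy.1 hz) (inv_mem hy.1)) (inv_mem hz))
      (hV y e)
    rcases hV' y e (by rwa [mul_inv_eq_one, mul_inv_eq_iff_eq_mul] at this) with
      rfl | rfl | rfl | rfl
    exacts [one_mem _, tV, zV, mul_mem tV zV]
  have sV : IsSyl 2 V C1[t] := syl_of_maximal (Vt.trans inf_le_left) hV2 fun Q h1 h2 h3 =>
    le_antisymm ((le_inf le_rfl h1).trans (key Q h2 (h3 zV))) h3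
  obtain ⟨T, hT, VT⟩ := exists_syl_ge (M := ⊤) le_top hV2
  have T2 := syl_isPGroup hT
  obtain ⟨a, aT, ai, az, Tz⟩ : ∃ a ∈ T, (zpowers a).relIndex T = 2 ∧
      (∀ y ∈ zpowers a, orderOf y = 2 → y = z) ∧ T ≤ C1[z] := by
    by_cases hTV : T ≤ V
    · obtain rfl := le_antisymm hTV VT
      refine ⟨z, zV, ?_, fun y hy y2 => ?_, Vt.trans inf_le_right⟩
      · have := card_mul_relIndex (zpowers_le.2 zV)
        rw [Nat.card_zpowers, z2, c4] at this
        omega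
      · exact (mem_zp2 zz hy).resolve_left fun e => by simp [e] at y2
    obtain ⟨a, b, n, h⟩ := (H9.MC_of_card_centralizer T2 (x := ⟨t, VT tV⟩) (by
      rw [← c4, ← card_subgroupOf VT]
      congr 3
      ext y
      rw [mem_centralizer_singleton_iff, Subtype.ext_iff, mem_subgroupOf]
      exact ⟨fun e => key T T2 (VT zV) ⟨y.2, mem_centralizer_singleton_iff.2 e⟩,
        fun e => mem_centralizer_singleton_iff.1 (Vt e).1⟩)).resolve_left fun e =>
      hTV (eq_of_le_of_card_ge VT (by rw [e, c4])).ge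
    replace h := h.of_top
    have hz : T ≤ C1[(a : G) ^ 2 ^ n] := fun s hs =>
      mem_centralizer_singleton_iff.2 (h.commute_z hs).eq.symm
    have e : (a : G) ^ 2 ^ n = z := by
      rcases hV' _ (h.commute_z (VT tV)).eq (h.commute_z (VT zV)).eq with e | e | e | e
      · exact absurd e h.z_ne_one
      · exact absurd ((le_inf le_rfl (e ▸ hz)).trans (key T T2 (VT zV))) hTV
      · exact e
      · refine absurd (eq_of_le_of_card_ge VT ?_).ge hTV
        rw [← card_cj g₀⁻¹ T]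
        refine card_le_syl sV ?_ (isPGroup_cj T2 _)
        rw [show t = g₀⁻¹ * (t * z) * g₀⁻¹⁻¹ by rw [← hg]; group, ← cj_centralizer_singleton, ← e]
        exact cj_mono hz
    exact ⟨a, h.a_mem, h.relIndex_zpowers, fun y hy y2 => (h.eq_z_of_mem_zpowers hy y2).trans e,
      e ▸ hz⟩
  obtain ⟨S, rfl⟩ := exists_sylow_top hT
  obtain ⟨K, hK, K2, tK⟩ := H87.thompson_transfer_involution (H87.odd_index_sylow S) ai
    (x := t) (by rw [pow_two, tt]) fun g h => nz g (az _ h (by rw [orderOf_conj', t2]))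
  have zK : z ∈ K := by
    by_contra e
    exact tK ((hK.mem_comm_iff.1 (hg ▸ (mul_mem_iff_of_index_two K2).2 (iff_of_false tK e) :
      g₀ * t * g₀⁻¹ ∈ K) |> fun h => by simpa using h))
  have cK : c ∈ K := by
    rw [show c = c * c * (c * c) by rw [← pow_two c, ← pow_add, pow_succ', cc, mul_one]]
    exact mul_self_mem_of_index_two K2 _
  have cZ : zpowers c ≤ K ⊓ C1[z] := zpowers_le.2 ⟨cK, mem_centralizer_singleton_iff.2 cz⟩
  have hN : ∀ y ∈ K ⊓ C1[z] ⊓ N[zpowers c], y * c = c * y := fun y hy => by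
    rcases mem_zp3 cc (conj_mem_of_mem_normalizer hy.2 (mem_zpowers c)) with e | e | e
    · simp [conj_eq_one_iff.1 e] at c3
    · exact cje.1 e
    refine absurd ((mul_mem_cancel_right (show y ∈ K from hy.1.1)).1 ?_) tK
    rcases hc (t * y) (by rw [← cje, cjc, e, conj_inv_of ct, inv_inv]) (by
      rw [mul_assoc, mem_centralizer_singleton_iff.1 hy.1.2, ← mul_assoc, tz.eq, mul_assoc])
      with e | e
    exacts [(cZ e).1, (mul_mem_cancel_right zK).1 (cZ e).1]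
  have hS : IsSyl 3 (zpowers c) (K ⊓ C1[z]) := by
    by_contra hS
    obtain ⟨Q, h1, h2, h3⟩ := exists_lt_pgroup_normalizer cZ (isPGroup_zpowers_of_pow cc) hS
    refine h1.not_ge fun q hq => (hc q (hN q (h2 hq))
      (mem_centralizer_singleton_iff.1 (h2 hq).1.2)).resolve_right fun e => ?_
    obtain ⟨n, hn⟩ := h3 ⟨z, (mul_mem_cancel_left hq).1 (h1.le e)⟩
    have := orderOf_dvd_of_pow_eq_one (congrArg Subtype.val hn)
    rw [z2] at this
    exact absurd (Nat.Prime.dvd_of_dvd_pow Nat.prime_two this) (by norm_num)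
  have hL := (Burnside_normal_complement hS fun y hy =>
    (centralizer_zpowers c).ge (mem_centralizer_singleton_iff.2 (hN y hy))).hall
  have nL := piCoreOf_normalIn {3}ᶜ (K ⊓ C1[z])
  have hTK : IsSyl 2 ((S : Subgroup G) ⊓ K) K := hall_inf_normal hT ⟨le_top, le_normalizer_of_normal⟩
  have TZ : (S : Subgroup G) ⊓ K ≤ K ⊓ C1[z] := le_inf inf_le_right (inf_le_left.trans Tz)
  have hTL := hall_of_le hTK (le_of_normal_hall hL nL TZ (isPi_compl_of_isPGroup Nat.prime_two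
    (syl_isPGroup hTK) (by norm_num))) (nL.1.trans inf_le_left)
  have h1 := (isMul_iff_relIndex nL.1 inf_le_left).1 (frattini_isMul nL hTL)
  obtain ⟨R, hR⟩ := exists_syl 3 (K ⊓ C1[z] ⊓ N[(S ⊓ K : Subgroup G)])
  obtain ⟨g, gZ, h4⟩ := exists_cj_le_syl (hall_of_relIndex hR inf_le_left (by
    rw [← h1]; exact fun p hp hd => hall_isPi hL p hp (hd.trans (relIndex_dvd_card _ _)))) cZ (syl_isPGroup hS)
  have gz := mem_centralizer_singleton_iff.1 gZ.2
  have dN := (hall_le hR (h4 (conj_mem_cj (mem_zpowers c)))).2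
  have dz := mem_centralizer_singleton_iff.1 (hall_le hR (h4 (conj_mem_cj (mem_zpowers c)))).1.2
  have d3 : orderOf (g * c * g⁻¹) = 3 := by rw [orderOf_conj', c3]
  have hd : ∀ y ∈ (S : Subgroup G), Commute (g * c * g⁻¹) y → y = 1 ∨ y = z := fun y hy e => by
    have k : ∀ w ∈ (S : Subgroup G), g⁻¹ * w * g ∈ zpowers c → w = 1 := fun w hw ⟨i, hi⟩ =>
      eq_one_of_cube T2 hw (by
        rw [show w = g * c ^ i * g⁻¹ by simp only at hi; rw [hi]; group, conj_pow, ← zpow_natCast,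
          ← zpow_mul, mul_comm, zpow_mul, zpow_natCast, cc]; group)
    have yz := mem_centralizer_singleton_iff.1 (Tz hy)
    refine (hc (g⁻¹ * y * g) ?_ ?_).imp (k y hy) fun h => ?_
    · calc _ = g⁻¹ * (y * (g * c * g⁻¹)) * g := by group
        _ = _ := by rw [← e.eq]; group
    · calc _ = g⁻¹ * (y * z) * g := by rw [mul_assoc, gz]; group
        _ = g⁻¹ * (z * g) * (g⁻¹ * y * g) := by rw [yz]; group
        _ = _ := by rw [← gz]; group
    · rw [mul_assoc, gz, ← mul_assoc, mul_assoc g⁻¹] at h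
      rw [eq_inv_of_mul_eq_one_left (k _ (mul_mem hy (VT zV)) h), inv_eq_of_mul_eq_one_left zz]
  generalize g * c * g⁻¹ = d at dN dz d3 hd
  refine H10.Isolated.of_sylow S z2 fun u hu => ?_
  by_contra ne
  have P : ∀ {w}, w ∈ (S : Subgroup G) ⊓ K ∧ orderOf w = 2 ∧ w ≠ z →
      d * w * d⁻¹ ∈ (S : Subgroup G) ⊓ K ∧ orderOf (d * w * d⁻¹) = 2 ∧ d * w * d⁻¹ ≠ z :=
    fun ⟨h1, h2, h3⟩ => ⟨conj_mem_of_mem_normalizer dN h1, by rw [orderOf_conj', h2],
      fun e => h3 (by simpa using e.trans (cje.2 dz).symm)⟩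
  have Q : ∀ {w}, w ∈ (S : Subgroup G) ⊓ K ∧ orderOf w = 2 ∧ w ≠ z →
      w * (d * w * d⁻¹) ∈ zpowers a := fun {w} h =>
    (mul_mem_iff_of_index_two ai (a := ⟨w, h.1.1⟩) (b := ⟨_, (P h).1.1⟩)).2
      (iff_of_false (fun e => h.2.2 (az _ e h.2.1)) fun e => (P h).2.2 (az _ e (P h).2.1))
  have h0 : u * z * u⁻¹ ∈ (S : Subgroup G) ⊓ K ∧ orderOf (u * z * u⁻¹) = 2 ∧ u * z * u⁻¹ ≠ z :=
    ⟨⟨hu, hK.conj_mem _ zK u⟩, by rw [orderOf_conj', z2], ne⟩
  generalize u * z * u⁻¹ = y at h0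
  have yy : y * y = 1 := by rw [← pow_two, ← h0.2.1, pow_orderOf_eq_one]
  have rT := zpowers_le.2 aT (Q h0)
  obtain ⟨m, hm⟩ := (IsPGroup.iff_orderOf.1 T2) ⟨_, rT⟩
  rcases hd _ rT (H9.commute_of_odd_of_normalizes (m := m) (by rw [← hm, ← orderOf_coe])
    (by rw [d3]; decide) (H11.mem_zpowers_of_orderOf_dvd (zpowers a) (cjm d _ _ ▸ Q (P h0))
      (Q h0) (orderOf_conj' _ _).dvd)) with e | e
  · rw [← yy, mul_right_inj, cje] at e
    rcases hd y h0.1.1 e with e | e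
    · have := h0.2.1; simp [e] at this
    · exact h0.2.2 e
  · have e1 : d * y * d⁻¹ = y * z := by rw [← e, ← mul_assoc, yy, one_mul]
    have e2 : d * (y * z) * d⁻¹ = y := by
      rw [conj_mul_of e1 (cje.2 dz), mul_assoc, zz, mul_one]
    have e3 : d ^ 3 * y * (d ^ 3)⁻¹ = y * z := by
      rw [pow_succ', cjc, pow_two, conj_two e1 e2, e1]
    rw [← d3, pow_orderOf_eq_one, one_mul, inv_one, mul_one, left_eq_mul] at e3
    exact z1 e3

end Cfsg.Agent.H21.L3
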