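import Cfsg.Agent.H21.L3P
import Cfsg.Agent.H63.L3A8End

/-! A strongly `3`-embedded subgroup `A₉` or `S₉` is the whole group. -/

set_option autoImplicit false
set_option maxRecDepth 100000
set_option synthInstance.maxSize 4096
set_option synthInstance.maxHeartbeats 200000

universe u

namespace Cfsg.Agent.H21.L3

open Equiv Subgroup Cfsg Cfsg.Agent.H63 Cfsg.Agent.H67 Cfsg.Agent.H57
open H63.L3A (dt s8 y8 A8)

abbrev A9 := alternatingGroup (Fin 9)

/-- the embedding of `A₈` in `A₉` -/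
def up9 : A8 →* A9 :=
  ((Perm.extendDomainHom (⟨fun i => ⟨i.castSucc, i.2⟩, fun i => ⟨i.1.1, i.2⟩, fun _ => rfl,
    fun _ => rfl⟩ : Fin 8 ≃ {i : Fin 9 // i.1 < 8})).comp (alternatingGroup _).subtype).codRestrict _
    fun σ => Perm.mem_alternatingGroup.2 ((Perm.sign_extendDomain _ _).trans σ.2)

theorem up9_inj : Function.Injective up9 := fun _ _ e =>
  Subtype.ext (Perm.extendDomainHom_injective _ (congrArg Subtype.val e))

/-- `(03)(14)` -/
def v1 : A9 := dt 0 3 1 4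
/-- `(01)(34)` -/
def v2 : A9 := dt 0 1 3 4
/-- `(256)` -/
def w9 : A9 := dt 2 5 5 6
/-- `(25)(67)` -/
def z9 : A9 := dt 2 5 6 7
/-- `(012)(345)` -/
def y9 : A9 := dt 0 1 1 2 * dt 3 4 4 5

theorem of_swap {σ τ : A9} {a b : Fin 9} (h : a ≠ b) : σ.1 ≠ τ.1 * swap a b := fun e => by
  have := Perm.mem_alternatingGroup.1 σ.2
  rw [e, map_mul, Perm.mem_alternatingGroup.1 τ.2, Perm.sign_swap h] at this
  exact absurd this (by decide)

theorem cent_y (σ : A9) (h1 : Commute σ y9) (h3 : Commute σ (v1 * z9)) :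
    σ ∈ zpowers (y9 * (v1 * z9)) := by
  have key : ∀ a c d : Fin 9, ∀ F : Fin 9 → Fin 9, F = ![a, y9.1 a, y9.1 (y9.1 a),
      (v1 * z9).1 a, (v1 * z9).1 (y9.1 a), (v1 * z9).1 (y9.1 (y9.1 a)), c, (v1 * z9).1 c, d] →
      (v1 * z9).1 d = d → Function.Injective F →
      ∃ n : Fin 6, (∀ i, F i = ((y9 * (v1 * z9)) ^ n.1).1 i) ∨
        ∀ i, F i = (((y9 * (v1 * z9)) ^ n.1).1 * swap 6 7 : Perm (Fin 9)) i := by
    simp only [forall_eq]; decide +kernel
  have a1 : ∀ i, σ.1 (y9.1 i) = y9.1 (σ.1 i) := DFunLike.congr_fun (congrArg Subtype.val h1.eq)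
  have a3 : ∀ i, σ.1 ((v1 * z9).1 i) = (v1 * z9).1 (σ.1 i) :=
    DFunLike.congr_fun (congrArg Subtype.val h3.eq)
  have b2 : σ.1 2 = y9.1 (y9.1 (σ.1 0)) := (a1 1).trans (congrArg _ (a1 0))
  obtain ⟨n, h | h⟩ := key (σ.1 0) (σ.1 6) (σ.1 8) σ.1 (funext fun i => by
    fin_cases i
    exacts [rfl, a1 0, b2, a3 0, (a3 1).trans (congrArg _ (a1 0)), (a3 2).trans (congrArg _ b2),
      rfl, a3 6, rfl]) (a3 8).symm σ.1.injective
  · exact (Subtype.ext (Equiv.ext h) : σ = _) ▸ npow_mem_zpowers _ _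
  · exact absurd (Equiv.ext h) (of_swap (by decide))

theorem cent_w (σ : A9) (h1 : Commute σ v1) (h2 : Commute σ v2) (h3 : Commute σ w9) :
    ∃ (i j : Fin 2) (l : Fin 3), σ = v1 ^ i.1 * v2 ^ j.1 * w9 ^ l.1 := by
  have key : ∀ c : Fin 9, w9.1 c = c → v1.1 c = c → ∀ d : Fin 9, w9.1 d = d → v1.1 d = d →
      ∀ a b : Fin 9, ∀ F : Fin 9 → Fin 9, F = ![a, v2.1 a, b, v1.1 a, v1.1 (v2.1 a), w9.1 b,
        w9.1 (w9.1 b), c, d] → Function.Injective F → ∃ (i j : Fin 2) (l : Fin 3),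
      (∀ x, F x = (v1 ^ i.1 * v2 ^ j.1 * w9 ^ l.1).1 x) ∨
        ∀ x, F x = ((v1 ^ i.1 * v2 ^ j.1 * w9 ^ l.1).1 * swap 7 8 : Perm (Fin 9)) x := by
    simp only [forall_eq]; decide +kernel
  have a1 : ∀ i, σ.1 (v1.1 i) = v1.1 (σ.1 i) := DFunLike.congr_fun (congrArg Subtype.val h1.eq)
  have a2 : ∀ i, σ.1 (v2.1 i) = v2.1 (σ.1 i) := DFunLike.congr_fun (congrArg Subtype.val h2.eq)
  have a3 : ∀ i, σ.1 (w9.1 i) = w9.1 (σ.1 i) := DFunLike.congr_fun (congrArg Subtype.val h3.eq)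
  obtain ⟨i, j, l, h | h⟩ := key (σ.1 7) (a3 7).symm (a1 7).symm (σ.1 8) (a3 8).symm (a1 8).symm
    (σ.1 0) (σ.1 2) σ.1 (funext fun i => by
      fin_cases i
      exacts [rfl, a2 0, rfl, a1 0, (a1 1).trans (congrArg _ (a2 0)), a3 2,
        (a3 5).trans (congrArg _ (a3 2)), rfl, rfl]) σ.1.injective
  · exact ⟨i, j, l, Subtype.ext (Equiv.ext h)⟩
  · exact absurd (Equiv.ext h) (of_swap (by decide))

theorem a5_aux : ∀ a b : Perm (Fin 5), Perm.sign a = 1 → a * a = 1 → a ≠ 1 → Perm.sign b = 1 →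
    b * a = a * b → b * b = 1 := by decide +kernel

variable {G : Type u} [Group G] [Finite G]

omit [Finite G] in
theorem ft3_aux (h : Concl G) {c c' z q g : G} (c5 : c ^ 5 = 1) (c5' : c' ^ 5 = 1) (c1 : c ≠ 1)
    (c3 : (c * c') ^ 3 = 1) (c1' : c * c' ≠ 1) (z2 : z ^ 2 = 1) (z3 : (z * (q * z * q⁻¹)) ^ 3 = 1)
    (z1 : z * (q * z * q⁻¹) ≠ 1) (hg : Commute g z) : g ^ 4 = 1 := by
  rcases h with ⟨N, hn, -, h1, h2⟩ | ⟨N, hn, -, h1, ⟨e⟩⟩ | ⟨⟨e⟩⟩
  · have k : ∀ x, x ^ 5 = 1 → x ∈ N := fun x hx => by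
      have h6 : (x : G ⧸ N) ^ 6 = 1 := orderOf_dvd_iff_pow_eq_one.1
        ((_root_.orderOf_dvd_natCard _).trans (by
          rcases h2 with h2 | ⟨⟨e⟩⟩
          · rw [h2]; norm_num
          · rw [Nat.card_congr e.toEquiv, Nat.card_perm, Nat.card_fin]; norm_num [Nat.factorial]))
      rwa [pow_succ, ← QuotientGroup.mk_pow, hx, QuotientGroup.mk_one, one_mul,
        QuotientGroup.eq_one_iff] at h6
    exact absurd (orderOf_eq_one_iff.1 (Nat.eq_one_of_dvd_coprimes h1 (orderOf_dvd_card_of_mem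
      (mul_mem (k _ c5) (k _ c5'))) (orderOf_dvd_of_pow_eq_one c3))) c1'
  · obtain ⟨μ, kμ⟩ : ∃ μ : G →* alternatingGroup (Fin 5), ∀ x, μ x = 1 ↔ x ∈ N :=
      ⟨e.toMonoidHom.comp (QuotientGroup.mk' N), fun x =>
        e.map_eq_one_iff.trans (QuotientGroup.eq_one_iff x)⟩
    have h4 := a5_aux (μ z) (μ g) (Perm.mem_alternatingGroup.1 (μ z).2) (by
      rw [← Subgroup.coe_mul, ← pow_two, ← map_pow, z2, map_one, Subgroup.coe_one]) (fun h => by
        have h := (kμ z).1 (Subtype.ext h)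
        rw [pow_succ, h1 _ (mul_mem h (hn.conj_mem _ h q)), one_mul] at z3
        exact z1 z3) (Perm.mem_alternatingGroup.1 (μ g).2) (congrArg Subtype.val (hg.map μ))
    rw [show g ^ 4 = (g * g) ^ 2 by rw [← pow_two, ← pow_mul]]
    exact h1 _ ((kμ _).1 (Subtype.ext (by rw [map_mul]; exact h4)))
  · have : Fact (Nat.Prime 5) := ⟨by norm_num⟩
    have h5 := _root_.orderOf_dvd_natCard c
    rw [orderOf_eq_prime c5 c1, Nat.card_congr e.toEquiv, card_L27] at h5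
    exact absurd h5 (by norm_num)

theorem endA9 (φ : A9 →* G) (inj : Function.Injective φ)
    (h3 : ∀ y, y ^ 3 = 1 → y ≠ 1 → ∀ g, g * φ y * g⁻¹ ∈ φ.range → g ∈ φ.range)
    (h64 : ¬ 128 ∣ Nat.card G) : Function.Surjective φ := by
  have hc : ∀ y, y ^ 3 = 1 → y ≠ 1 → ∀ g, Commute g (φ y) → ∃ σ, φ σ = g := fun y a b g e =>
    h3 y a b g ⟨y, (cje.2 e).symm⟩
  have u1 : up9 s8 = v1 * z9 := by decide +kernel
  have u2 : up9 y8 = y9 := by decide +kernel
  have u3 : up9 (dt 0 3 1 4) = v1 := by decide +kernel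
  have u4 : up9 (dt 0 1 3 4) = v2 := by decide +kernel
  have cA : Nat.card A9 = 181440 := by rw [nat_card_alternatingGroup]; simp [Nat.factorial]
  have hd := card_dvd_of_injective φ inj
  refine ((Nat.bijective_iff_injective_and_card φ).2 ⟨inj, ?_⟩).2
  refine (H63.L3A.endCore (φ.comp up9) (inj.comp up9_inj)
    (fun e => h64 (e.trans (card_subgroup_dvd_card _))) (fun g a b => ?_) fun g a b c d => ?_).elim
    (fun ⟨e⟩ => ?_) fun ⟨e⟩ => (Nat.card_congr e.toEquiv).symm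
  · simp only [MonoidHom.comp_apply, map_mul up9, u1, u2] at a b ⊢
    obtain ⟨σ, rfl⟩ := hc _ (by decide) (by decide) g a
    exact MonoidHom.map_zpowers φ _ ▸ mem_map_of_mem φ (cent_y σ (a.of_map inj) (b.of_map inj))
  swap
  · rw [Nat.card_congr e.toEquiv, H63.L3A.card_A8, cA] at hd
    exact absurd hd (by norm_num)
  simp only [MonoidHom.comp_apply, u1, u3, u4] at a b c
  replace a : Commute g (φ z9) := by
    simpa only [map_mul, inv_mul_cancel_left] using b.inv_right.mul_right a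
  have mY : ∀ {y}, y ∈ C1[φ v1] ⊓ C1[φ v2] ↔ Commute y (φ v1) ∧ Commute y (φ v2) := by
    simp only [mem_inf, mem_centralizer_singleton_iff]; exact Iff.rfl
  have vv : Commute v1 v2 := by unfold Commute SemiconjBy; decide
  have B2 : ∀ r ∈ closure {φ v1, φ v2}, r * r = 1 ∧ ∀ y ∈ C1[φ v1] ⊓ C1[φ v2], Commute y r :=
    fun r hr => by
      induction hr using closure_induction with
      | mem x hx =>
        rcases hx with rfl | rfl
        · exact ⟨by rw [← map_mul, ← map_one φ]; congr 1; decide, fun y hy => (mY.1 hy).1⟩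
        · exact ⟨by rw [← map_mul, ← map_one φ]; congr 1; decide, fun y hy => (mY.1 hy).2⟩
      | one => exact ⟨one_mul _, fun _ _ => .one_right _⟩
      | mul x y hx _ a b => exact ⟨by
          rw [← pow_two, (b.2 x ((closure_le _).2 (by
            rintro _ (rfl | rfl)
            exacts [mY.2 ⟨.refl _, vv.map φ⟩, mY.2 ⟨(vv.map φ).symm, .refl _⟩]) hx)).mul_pow,
            pow_two, pow_two, a.1, b.1, one_mul], fun z hz => (a.2 z hz).mul_right (b.2 z hz)⟩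
      | inv x _ a => exact ⟨by rw [← mul_inv_rev, a.1, inv_one], fun z hz => (a.2 z hz).inv_right⟩
  have b1 : φ v1 ∈ closure {φ v1, φ v2} := subset_closure (by simp)
  have b2 : φ v2 ∈ closure {φ v1, φ v2} := subset_closure (by simp)
  generalize closure {φ v1, φ v2} = B at B2 b1 b2
  have : (B.subgroupOf (C1[φ v1] ⊓ C1[φ v2])).Normal := ⟨fun n hn y => by
    rw [mem_subgroupOf, Subgroup.coe_mul, Subgroup.coe_mul, ((B2 n.1 hn).2 y y.2).eq]
    simpa [mem_subgroupOf] using hn⟩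
  let π := QuotientGroup.mk' (B.subgroupOf (C1[φ v1] ⊓ C1[φ v2]))
  have kπ : ∀ y, π y = 1 ↔ y.1 ∈ B := fun y => QuotientGroup.eq_one_iff y
  let m : ∀ σ : A9, (e : σ * v1 = v1 * σ ∧ σ * v2 = v2 * σ := by decide) → ↥(C1[v1] ⊓ C1[v2]) :=
    fun σ e => ⟨σ, mem_centralizer_singleton_iff.2 e.1, mem_centralizer_singleton_iff.2 e.2⟩
  let θ : ↥(C1[v1] ⊓ C1[v2]) →* ↥(C1[φ v1] ⊓ C1[φ v2]) :=
    (φ.comp (Subgroup.subtype _)).codRestrict _ fun σ => mY.2
      ⟨Commute.map (mem_centralizer_singleton_iff.1 σ.2.1) φ,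
        Commute.map (mem_centralizer_singleton_iff.1 σ.2.2) φ⟩
  have kθ : ∀ σ, π (θ σ) = 1 → σ.1 * σ.1 = 1 := fun σ h =>
    inj (by rw [map_mul, map_one]; exact (B2 _ ((kπ _).1 h)).1)
  have pθ : ∀ σ (n : ℕ), σ.1 ^ n = 1 → π (θ σ) ^ n = 1 := fun σ n h => by
    rw [← map_pow, ← map_pow, show σ ^ n = 1 from Subtype.ext h, map_one, map_one]
  have hS : SC3 (π (θ (m w9))) := ⟨orderOf_eq_three (pθ _ 3 (by decide))
    fun e => absurd (kθ _ e) (by decide), fun y hy => by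
      obtain ⟨y, rfl⟩ : ∃ z, π z = y := QuotientGroup.mk'_surjective _ y
      have h1 : y.1 * φ w9 * y.1⁻¹ * (φ w9)⁻¹ ∈ B := (kπ (y * θ (m w9) * y⁻¹ * (θ (m w9))⁻¹)).1 (by
        simp only [map_mul, map_inv]; rw [hy]; group)
      have h2 : φ w9 ^ 3 = 1 := by rw [← map_pow, ← map_one φ]; congr 1; decide
      have h4 := ((B2 _ h1).2 _ (θ (m w9)).2).symm.mul_pow 3
      rw [show ((θ (m w9) : ↥(C1[φ v1] ⊓ C1[φ v2])) : G) = φ w9 from rfl, inv_mul_cancel_right,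
        conj_pow, h2, pow_succ _ 2, pow_two, (B2 _ h1).1] at h4
      obtain ⟨σ, e⟩ := hc w9 (by decide) (by decide) y (cje.1 (mul_inv_eq_one.1 (by
        simpa using h4.symm)))
      obtain ⟨i, j, l, rfl⟩ := cent_w σ (Commute.of_map inj (e ▸ (mY.1 y.2).1))
        (Commute.of_map inj (e ▸ (mY.1 y.2).2)) (Commute.of_map inj (e ▸ cje.1 (mul_inv_eq_one.1 (by
          simpa using h4.symm))))
      refine mem_zp3 (pθ _ 3 (by decide)) ?_
      rw [show y = θ (m v1 ^ i.1 * m v2 ^ j.1 * m w9 ^ l.1) from Subtype.ext e.symm]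
      simp only [map_mul, map_pow]
      rw [(kπ (θ (m v1))).2 b1, (kπ (θ (m v2))).2 b2, one_pow, one_pow, one_mul, one_mul]
      exact npow_mem_zpowers _ _⟩
  have h5 := ft3_aux hS.concl (g := π ⟨g, mY.2 ⟨b, c⟩⟩) (q := π (θ (m (dt 2 5 7 8))))
    (pθ (m (dt 2 5 5 6 * dt 6 7 7 8)) 5 (by decide)) (pθ (m (dt 2 5 5 8 * dt 8 7 7 6)) 5 (by decide))
    (fun h => absurd (kθ _ h) (by decide)) (by rw [← map_mul, ← map_mul]; exact pθ _ 3 (by decide))
    (by rw [← map_mul, ← map_mul]; exact fun h => absurd (kθ _ h) (by decide))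
    (pθ (m z9) 2 (by decide)) (by simp only [← map_inv, ← map_mul]; exact pθ _ 3 (by decide))
    (by simp only [← map_inv, ← map_mul]; exact fun h => absurd (kθ _ h) (by decide))
    (Commute.map (show Commute (⟨g, _⟩ : ↥(C1[φ v1] ⊓ C1[φ v2])) (θ (m z9)) from Subtype.ext a) π)
  rw [← map_pow, kπ] at h5
  refine orderOf_eq_one_iff.1 (Nat.eq_one_of_dvd_coprimes (show (orderOf g).Coprime 8 from
    (d.pow_right 3).coprime_dvd_right (by norm_num)) dvd_rfl (orderOf_dvd_of_pow_eq_one ?_))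
  rw [← (B2 _ h5).1]
  exact pow_add g 4 4

theorem swap_base {α : Type*} [DecidableEq α] {p q s : α} (h1 : p ≠ q) (h2 : p ≠ s)
    (h : Commute (swap p q) (swap p s)) : swap p q = swap p s := by
  by_contra e
  have ne : q ≠ s := fun e' => e (by rw [e'])
  have := DFunLike.congr_fun h.eq p
  simp only [Perm.mul_apply, swap_apply_left] at this
  rw [swap_apply_of_ne_of_ne h2.symm ne.symm, swap_apply_of_ne_of_ne h1.symm ne] at this
  exact ne this.symm

theorem swap_disj {α : Type*} [DecidableEq α] {p q r s : α} (h1 : p ≠ q) (h2 : r ≠ s)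
    (h : Commute (swap p q) (swap r s)) (ne : swap p q ≠ swap r s) :
    p ≠ r ∧ p ≠ s ∧ q ≠ r ∧ q ≠ s := by
  refine ⟨?_, ?_, ?_, ?_⟩ <;> rintro rfl <;> refine ne ?_
  · exact swap_base h1 h2 h
  · rw [swap_comm r] at h ⊢; exact swap_base h1 h2.symm h
  · rw [swap_comm p] at h ⊢; exact swap_base h1.symm h2 h
  · rw [swap_comm p, swap_comm r] at h ⊢; exact swap_base h1.symm h2.symm h

theorem invol_three {y : Perm (Fin 9)} (hy : y * y = 1) : ∃ w, w ^ 3 = 1 ∧ w ≠ 1 ∧ Commute w y := by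
  have : Fact (Nat.Prime 2) := ⟨Nat.prime_two⟩
  have k : ∀ z w : Perm (Fin 9), z ^ 2 = 1 ∧ w ^ 3 = 1 ∧ w ≠ 1 ∧ w * z = z * w →
      z.support.card = y.support.card → ∃ w, w ^ 3 = 1 ∧ w ≠ 1 ∧ Commute w y :=
    fun z w ⟨a, b, c, d⟩ e => by
      obtain ⟨q, rfl⟩ := conj_rep a ((pow_two y).trans hy) e
      exact ⟨_, by rw [conj_pow, b, mul_one, mul_inv_cancel], mt conj_eq_one_iff.1 c, cmc d q⟩
  obtain ⟨⟨m, hm⟩, h9⟩ := dvd_supp ((pow_two y).trans hy)
  obtain rfl | rfl | rfl | rfl | rfl : m = 0 ∨ m = 1 ∨ m = 2 ∨ m = 3 ∨ m = 4 := by omega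
  · exact k 1 (swap 6 7 * swap 7 8) (by decide) (.trans (by decide) hm.symm)
  · exact k (swap 0 1) (swap 6 7 * swap 7 8) (by decide) (.trans (by decide) hm.symm)
  · exact k (swap 0 1 * swap 2 3) (swap 6 7 * swap 7 8) (by decide) (.trans (by decide) hm.symm)
  · exact k (swap 0 1 * swap 2 3 * swap 4 5) (swap 6 7 * swap 7 8) (by decide)
      (.trans (by decide) hm.symm)
  · exact k (v1 * z9).1 y9.1 (by decide) (.trans (by decide) hm.symm)

namespace E9

variable {ψ : Perm (Fin 9) →* G} (h : E9 ψ)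
include h

theorem fus {y z : Perm (Fin 9)} (hy : y * y = 1) {g : G} (e : g * ψ y * g⁻¹ = ψ z) :
    ∃ q, q * y * q⁻¹ = z := by
  obtain ⟨w, w3, w1, wy⟩ := invol_three hy
  obtain ⟨w', w3', w1', wz⟩ := invol_three (y := z) (h.inj (by
    rw [map_mul, ← e, ← cjm, ← map_mul, hy]; simp))
  obtain ⟨R, hR, wR⟩ := exists_syl_ge (p := 3) (K := zpowers (ψ w')) (M := ψ.range ⊓ C1[ψ z])
    (zpowers_le.2 ⟨⟨_, rfl⟩, mem_centralizer_singleton_iff.2 (wz.map ψ)⟩)
    (isPGroup_zpowers_of_pow (by rw [← map_pow, w3', map_one]))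
  have hR' : IsSyl 3 R C1[ψ z] := syl_of_normalizer_le hR inf_le_right fun g hg => ⟨h.h3 _ w3' w1' g
    (hall_le hR (conj_mem_of_mem_normalizer hg.2 (wR (mem_zpowers _)))).1, hg.1⟩
  obtain ⟨c, hc, h1⟩ := exists_cj_le_syl hR' (K := zpowers (g * ψ w * g⁻¹))
    (zpowers_le.2 (mem_centralizer_singleton_iff.2 (e ▸ cmc (wy.map ψ) g)))
    (isPGroup_zpowers_of_pow (by rw [conj_pow, ← map_pow, w3]; simp))
  obtain ⟨q, hq⟩ := h.h3 _ w3 w1 (c * g) (cjc c g _ ▸ (hall_le hR (h1 (conj_mem_cj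
    (mem_zpowers _)))).1)
  exact ⟨q, h.inj (by
    rw [map_mul, map_mul, map_inv, hq, cjc, e, cje, mem_centralizer_singleton_iff.1 hc])⟩

theorem surj : Function.Surjective ψ := by
  have : Fact (Nat.Prime 2) := ⟨Nat.prime_two⟩
  obtain ⟨T⟩ : Nonempty (Sylow 2 (Perm (Fin 9))) := inferInstance
  obtain ⟨T, hT, BT⟩ := exists_syl_ge (p := 2) (M := ψ.range)
    (K := (closure {swap 0 3, swap 1 4} ⊔ zpowers (swap 2 5)).map ψ) (map_le_range _ _)
    (IsPGroup.map (IsPGroup.to_sup_of_normal_right' (H10.isPGroup_closure_pair (swap_mul_self _ _)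
      (swap_mul_self _ _) (by unfold Commute SemiconjBy; decide))
      (isPGroup_zpowers_of_pow (by decide)) (le_normalizer_of_le_centralizer (by
        rw [centralizer_zpowers, closure_le]
        rintro _ (rfl | rfl) <;> exact mem_centralizer_singleton_iff.2 (by decide)))) ψ)
  obtain ⟨S, rfl⟩ := exists_sylow_top (syl_top_of_normalizer_le hT fun g hg => by
    have k : ∀ {a b}, a ≠ b → swap a b ∈ closure {swap 0 3, swap 1 4} ⊔ zpowers (swap 2 5) →
        ∃ c d, c ≠ d ∧ g * ψ (swap a b) * g⁻¹ = ψ (swap c d) := fun ne hm => by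
      obtain ⟨z, hz⟩ := hall_le hT (conj_mem_of_mem_normalizer hg (BT ⟨_, hm, rfl⟩))
      obtain ⟨q, rfl⟩ := h.fus (swap_mul_self _ _) hz.symm
      exact ⟨_, _, q.injective.ne ne, by rw [← hz, cj_swap]⟩
    obtain ⟨a, a', na, ea⟩ := k (by decide) (mem_sup_left (subset_closure (.inl rfl)))
    obtain ⟨b, b', nb, eb⟩ := k (by decide) (mem_sup_left (subset_closure (.inr rfl)))
    obtain ⟨c, c', nc, ec⟩ := k (by decide) (mem_sup_right (mem_zpowers _))
    have k2 : ∀ {x y x' y'}, g * ψ x * g⁻¹ = ψ x' → g * ψ y * g⁻¹ = ψ y' → x * y = y * x ∧ x ≠ y →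
        Commute x' y' ∧ x' ≠ y' := fun e e' ⟨u, v⟩ =>
      ⟨Commute.of_map h.inj (e ▸ e' ▸ cmc (Commute.map u ψ) g), fun f => v (h.inj (by
        rw [← f, ← e] at e'; simpa using e'.symm))⟩
    obtain ⟨d1, d2, d3, d4⟩ := (k2 ea eb (by decide)).elim (swap_disj na nb)
    obtain ⟨d5, d6, d7, d8⟩ := (k2 ea ec (by decide)).elim (swap_disj na nc)
    obtain ⟨d9, d10, d11, d12⟩ := (k2 eb ec (by decide)).elim (swap_disj nb nc)
    obtain ⟨r, hr⟩ := Perm.exists_extending_pair ![a, b, c, a', b', c'] ![0, 1, 2, 3, 4, 5]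
      (List.nodup_ofFn.1 (by simp [*, d3.symm, d7.symm, d11.symm])) (by decide)
    have k3 : ∀ {x x'}, g * ψ x * g⁻¹ = ψ x' → r * x' * r⁻¹ = x → Commute (ψ r * g) (ψ x) :=
      fun e e' => cje.1 (by rw [cjc, e, ← map_inv, ← map_mul, ← map_mul, e'])
    exact (mul_mem_cancel_left (show ψ r ∈ ψ.range from ⟨r, rfl⟩)).1 (h.hB _
      (k3 ea ((cj_swap _ _ _).trans (congrArg₂ swap (hr 0) (hr 3))))
      (k3 eb ((cj_swap _ _ _).trans (congrArg₂ swap (hr 1) (hr 4))))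
      (k3 ec ((cj_swap _ _ _).trans (congrArg₂ swap (hr 2) (hr 5))))))
  have odd := H87.odd_index_of_sylow_le S (hall_le hT)
  have mM : ∀ x, ψ x ∈ (alternatingGroup (Fin 9)).map ψ ↔ Perm.sign x = 1 := fun x =>
    mem_map_iff_mem h.inj
  obtain ⟨K, hK, K2, tK⟩ := H87.thompson_transfer_involution odd
    (M := (alternatingGroup (Fin 9)).map ψ)
    (index_eq_two_iff.2 ⟨⟨_, swap 0 1, rfl⟩, fun ⟨b, x, hb⟩ => by
      subst hb
      show Xor (ψ x * ψ (swap 0 1) ∈ (alternatingGroup _).map ψ) (ψ x ∈ (alternatingGroup _).map ψ)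
      rw [← map_mul, mM, mM]
      rcases Int.units_eq_one_or (Perm.sign x) with e | e <;> simp [e]⟩)
    (x := ψ (swap 0 1)) (by rw [← map_pow, pow_two, swap_mul_self, map_one]) fun g ⟨z, hz, e⟩ => by
      obtain ⟨q, rfl⟩ := h.fus (swap_mul_self _ _) e.symm
      simpa using Perm.mem_alternatingGroup.1 hz
  have eK : K.comap ψ = alternatingGroup (Fin 9) := Perm.eq_alternatingGroup_of_index_eq_two (by
    rw [index_comap]
    exact ((Nat.dvd_prime Nat.prime_two).1 (K2 ▸ relIndex_dvd_index_of_normal K _)).resolve_left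
      fun e => tK (relIndex_eq_one.1 e ⟨_, rfl⟩))
  have sj := endA9 ((ψ.comp (alternatingGroup (Fin 9)).subtype).codRestrict K fun σ => eK.ge σ.2)
    (fun a b e => Subtype.ext (h.inj (congrArg Subtype.val e))) (fun y y3 y1 g ⟨z, hz⟩ => by
      obtain ⟨σ, e⟩ := h.h3 y.1 (congrArg Subtype.val y3) (fun e => y1 (Subtype.ext e)) g
        ⟨z, congrArg Subtype.val hz⟩
      exact ⟨⟨σ, eK.le (show ψ σ ∈ K from e ▸ g.2)⟩, Subtype.ext e⟩) fun hd => by
      have h1 := K.card_mul_index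
      have h2 := ψ.range.card_mul_index
      rw [← Nat.card_congr (MonoidHom.ofInjective h.inj).toEquiv, Nat.card_perm, Nat.card_fin,
        ← h1, K2] at h2
      exact absurd ((Nat.Coprime.pow_left 8 (Nat.coprime_two_left.2 odd)).dvd_of_dvd_mul_right
        (h2 ▸ Nat.mul_dvd_mul_right hd 2)) (by decide)
  have KR : K ≤ ψ.range := fun g hg => by
    obtain ⟨σ, e⟩ := sj ⟨g, hg⟩
    exact ⟨σ, congrArg Subtype.val e⟩
  intro g
  by_cases hg : g ∈ K
  · exact KR hg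
  · exact (mul_mem_cancel_right (show ψ (swap 0 1) ∈ ψ.range from ⟨_, rfl⟩)).1
      (KR ((mul_mem_iff_of_index_two K2).2 (iff_of_false hg tK)))

end E9

theorem main {x : G} (hx : orderOf x = 3) (eC : C1[x] ≃* C1[a9]) {J : Subgroup G} (hJC : J ≤ C1[x])
    (hc : IsMulCommutative J) (h3 : ∀ j ∈ J, j ^ 3 = 1) (h27 : Nat.card J = 27) (hs : Sig J ⊤) :
    J.Normal ∨ Nonempty (G ≃* Perm (Fin 9)) := by
  obtain ⟨k, ν, h⟩ := exists_St hx eC hJC hc h3 h27 hs
  by_cases hC : ∀ w ∈ J, w ≠ 1 → C1[w] ≤ N[J]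
  · exact .inl (h.caseI hC)
  push Not at hC
  obtain ⟨w, hw, w1, hn⟩ := hC
  obtain ⟨rfl, n, nN, rfl⟩ := (h.tri hw w1).resolve_left hn
  obtain ⟨ψ, hψ⟩ := h.exists_E9 fun e => hn (cj_centralizer_singleton n _ ▸
    cj_le_of_mem_normalizer (le_normalizer nN) e)
  exact .inr ⟨(MulEquiv.ofBijective ψ ⟨hψ.inj, hψ.surj⟩).symm⟩

end Cfsg.Agent.H21.L3
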