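import Cfsg.Agent.H17.KnDef2
import Cfsg.Agent.S0051

/-!
# The group over the wreath product of order `2 ^ 15 * 315`
-/

set_option autoImplicit false

namespace Cfsg.Agent.H21.KnM1a

open Equiv Subgroup Cfsg.Agent.H11.A16 Cfsg.Agent.H63 Cfsg.Agent.H8.GD
open Cfsg.Agent.H89.Rec (Syl)
open Cfsg.Agent.H17.Kn

universe u

theorem mem_PP {u : N2} : u ∈ PP ↔ u.σ = 1 := Iff.rfl

theorem mem_S2 {u : N2} : u ∈ S2 ↔ u.σ ∈ T' := Iff.rfl

theorem sec_σ (γ : Perm P) : (sec2 γ).σ = γ := rfl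

theorem PP_le : PP ≤ S2 := fun u hu => by
  rw [mem_S2, mem_PP.1 hu]; exact one_mem _

theorem PP_nrm (m : N2) {u : N2} (hu : u ∈ PP) : m * u * m⁻¹ ∈ PP := by
  rw [mem_PP, N2.mul_σ, N2.mul_σ, mem_PP.1 hu, N2.inv_σ, mul_one, mul_inv_cancel]

theorem tail_mem (m : N2) : m * (sec2 m.σ)⁻¹ ∈ PP := by
  rw [mem_PP, N2.mul_σ, N2.inv_σ, sec_σ, mul_inv_cancel]

theorem π2_sur : Function.Surjective π2 := fun γ => ⟨sec2 γ, rfl⟩

section

variable {G : Type u} [Group G] {J : N2 → G}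

theorem ex_congr (h2 : Mod2) {g : G} {m m' : N2} (h : Ex J g m PP) (e : m.σ = m'.σ) :
    Ex J g m' PP := fun u hu => by
  have k : m⁻¹ * m' ∈ PP := by rw [mem_PP, N2.mul_σ, N2.inv_σ, e, inv_mul_cancel]
  have c := (h2.ab.1 _ k u hu).eq
  have : m' * u * m'⁻¹ = m * u * m⁻¹ := by
    calc m' * u * m'⁻¹ = m * (m⁻¹ * m' * u) * m'⁻¹ := by group
      _ = m * (u * (m⁻¹ * m')) * m'⁻¹ := by rw [c]
      _ = m * u * m⁻¹ := by group
  rw [this]; exact h u hu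

theorem ex_uniq (h3 : Mod3) (hJ : Em J S2) {g : G} {m m' : N2} (h : Ex J g m PP)
    (h' : Ex J g m' PP) : m.σ = m'.σ := by
  have k : m⁻¹ * m' ∈ PP := h3.cEE _ fun e he => by
    have := hJ.inj _ (PP_le (PP_nrm m he.1)) _ (PP_le (PP_nrm m' he.1))
      (Eq.trans (Eq.symm (h e he.1)) (h' e he.1))
    change m⁻¹ * m' * e = e * (m⁻¹ * m')
    calc m⁻¹ * m' * e = m⁻¹ * (m' * e * m'⁻¹) * m' := by group
      _ = m⁻¹ * (m * e * m⁻¹) * m' := by rw [this]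
      _ = e * (m⁻¹ * m') := by group
  rw [mem_PP, N2.mul_σ, N2.inv_σ, inv_mul_eq_one] at k
  exact k

theorem ex_mul {g g' : G} {m m' : N2} (h : Ex J g m PP) (h' : Ex J g' m' PP) :
    Ex J (g * g') (m * m') PP := fun u hu => by
  have := (h' u hu).trans (h _ (PP_nrm m' hu))
  rwa [show m * (m' * u * m'⁻¹) * m⁻¹ = m * m' * u * (m * m')⁻¹ by group] at this

theorem ex_inv {g : G} {m : N2} (h : Ex J g m PP) : Ex J g⁻¹ m⁻¹ PP := fun u hu => by
  have := (h _ (PP_nrm m⁻¹ hu)).symm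
  rwa [show m * (m⁻¹ * u * m⁻¹⁻¹) * m⁻¹ = u by group] at this

theorem ex_one : Ex J 1 1 PP := fun u _ => by simp [R]

theorem ex_one_iff (hJ : Em J S2) {g : G} : Ex J g 1 PP ↔ g ∈ C[im J PP] := by
  constructor
  · intro h
    refine mem_centralizer_iff.2 fun a ha => ?_
    obtain ⟨u, hu, rfl⟩ := (hJ.mono PP_le).mem.1 ha
    have := h u hu
    rw [R, one_mul, inv_one, mul_one, mul_inv_eq_iff_eq_mul] at this
    exact this.symm
  · intro h u hu
    rw [R, one_mul, inv_one, mul_one, mul_inv_eq_iff_eq_mul]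
    exact (mem_centralizer_iff.1 h _ (mem_im hu)).symm

/-- The elements that act on the sign changes as an element of the model. -/
def HP (J : N2 → G) : Subgroup G where
  carrier := {g | ∃ m, Ex J g m PP}
  one_mem' := ⟨1, ex_one⟩
  mul_mem' := fun ⟨_, h⟩ ⟨_, h'⟩ => ⟨_, ex_mul h h'⟩
  inv_mem' := fun ⟨_, h⟩ => ⟨_, ex_inv h⟩

theorem HP_le (hJ : Em J S2) : HP J ≤ N[im J PP] := by
  have k : ∀ g ∈ HP J, ∀ a ∈ im J PP, g * a * g⁻¹ ∈ im J PP := by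
    rintro g ⟨m, h⟩ a ha
    obtain ⟨u, hu, rfl⟩ := (hJ.mono PP_le).mem.1 ha
    rw [h u hu]; exact mem_im (PP_nrm m hu)
  intro g hg
  refine mem_normalizer_iff.2 fun a => ⟨k g hg a, fun ha => ?_⟩
  have := k g⁻¹ (inv_mem hg) _ ha
  rwa [show g⁻¹ * (g * a * g⁻¹) * g⁻¹⁻¹ = a by group] at this

/-- The extension splits. -/
theorem split [Finite G] (h1 : Mod1) (h2 : Mod2) (hJ : Em J S2) (σ : G →* Perm P)
    (hs : Function.Surjective σ) (hr : ∀ u ∈ S2, σ (J u) = u.σ)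
    (hk : ∀ g, σ g = 1 → ∃ u ∈ PP, J u = g) (hc : ∀ g, Ex J g (sec2 (σ g)) PP) :
    ∃ ψ : N2 ≃* G, ∀ u ∈ PP, ψ u = J u := by
  have hP := hJ.mono PP_le
  have hK : σ.ker = im J PP := by
    ext g
    rw [MonoidHom.mem_ker, hP.mem]
    exact ⟨hk g, fun ⟨u, hu, e⟩ => by rw [← e, hr u (PP_le hu), mem_PP.1 hu]⟩
  have : IsMulCommutative σ.ker := ⟨⟨fun a b => Subtype.ext (by
    obtain ⟨u, hu, e⟩ := hk a a.2
    obtain ⟨v, hv, e'⟩ := hk b b.2
    rw [coe_mul, coe_mul, ← e, ← e', ← hP.mul u hu v hv, ← hP.mul v hv u hu,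
      (h2.ab.1 u hu v hv).eq])⟩⟩
  have hA : T'.map sec2 ≤ S2 := by rintro _ ⟨γ, h, rfl⟩; exact h
  have hodd : Odd (T'.comap σ).index := by
    have := h1.syl.odd
    rw [relIndex_top_right, S2, index_comap_of_surjective _ π2_sur] at this
    rwa [index_comap_of_surjective _ hs]
  obtain ⟨L, hL⟩ := S0051.result σ.ker (T'.comap σ) (fun g hg => by
      rw [mem_comap, MonoidHom.mem_ker.1 hg]; exact one_mem _)
    (by
      rw [hK, hP.card, h1.cPP, show 256 = 2 ^ 8 by norm_num]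
      exact Nat.Coprime.pow_left _ (Nat.coprime_two_left.2 hodd))
    (im J (T'.map sec2))
    (im_le fun u hu => by rw [mem_comap, hr u (hA hu)]; exact hA hu)
    (by
      rw [eq_bot_iff]
      rintro g ⟨a, b⟩
      obtain ⟨_, ⟨γ, hγ, rfl⟩, rfl⟩ := (hJ.mono hA).mem.1 a
      have : γ = 1 := (hr (sec2 γ) hγ).symm.trans b
      rw [this, map_one, hJ.one]; exact one_mem _)
    (by
      refine le_antisymm (sup_le (fun g hg => by
        rw [mem_comap, MonoidHom.mem_ker.1 hg]; exact one_mem _)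
        (im_le fun u hu => by rw [mem_comap, hr u (hA hu)]; exact hA hu)) fun g hg => ?_
      have e : g = g * (J (sec2 (σ g)))⁻¹ * J (sec2 (σ g)) := by group
      rw [e]
      refine mul_mem (mem_sup_left ?_) (mem_sup_right (mem_im ⟨_, hg, rfl⟩))
      rw [MonoidHom.mem_ker, map_mul, map_inv, hr _ (show sec2 (σ g) ∈ S2 from hg), sec_σ,
        mul_inv_cancel])
  have hb : Function.Bijective (σ.comp L.subtype) := by
    refine ⟨(injective_iff_map_eq_one _).2 fun a ha => ?_, fun γ => ?_⟩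
    · exact Subtype.ext (mem_bot.1 (hL.disjoint.le_bot ⟨ha, a.2⟩))
    · obtain ⟨g, rfl⟩ := hs γ
      obtain ⟨⟨a, b⟩, e⟩ := hL.2 g
      refine ⟨b, ?_⟩
      rw [← e]
      change σ b = σ (a * b)
      rw [map_mul, MonoidHom.mem_ker.1 a.2, one_mul]
  let τ : Perm P →* G := L.subtype.comp (MulEquiv.ofBijective _ hb).symm.toMonoidHom
  have hτ : ∀ γ, σ (τ γ) = γ := fun γ => (MulEquiv.ofBijective _ hb).apply_symm_apply γ
  let ψ : N2 →* G := MonoidHom.mk' (fun m => J (m * (sec2 m.σ)⁻¹) * τ m.σ) fun a b => by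
    have c := hc (τ a.σ) _ (tail_mem b)
    rw [hτ, R] at c
    have e : a * b * (sec2 (a * b).σ)⁻¹ =
        a * (sec2 a.σ)⁻¹ * (sec2 a.σ * (b * (sec2 b.σ)⁻¹) * (sec2 a.σ)⁻¹) := by
      rw [N2.mul_σ, map_mul]; group
    rw [e, hP.mul _ (tail_mem a) _ (PP_nrm _ (tail_mem b)), ← c, N2.mul_σ, map_mul]
    group
  have hψ : ∀ m, ψ m = J (m * (sec2 m.σ)⁻¹) * τ m.σ := fun _ => rfl
  have hψP : ∀ u ∈ PP, ψ u = J u := fun u hu => by
    rw [hψ, mem_PP.1 hu, map_one, map_one, inv_one, mul_one, mul_one]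
  have hσψ : ∀ m, σ (ψ m) = m.σ := fun m => by
    rw [hψ, map_mul, hτ, hr _ (PP_le (tail_mem m)), mem_PP.1 (tail_mem m), one_mul]
  refine ⟨MulEquiv.ofBijective ψ ⟨(injective_iff_map_eq_one _).2 fun m hm => ?_, fun g => ?_⟩,
    hψP⟩
  · have a : m ∈ PP := by rw [mem_PP, ← hσψ, hm, map_one]
    exact hP.inj _ a _ (one_mem _) (by rw [← hψP m a, hm, hP.one])
  · obtain ⟨u, hu, e⟩ := hk (g * (ψ (sec2 (σ g)))⁻¹) (by
      rw [map_mul, map_inv, hσψ, sec_σ, mul_inv_cancel])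
    exact ⟨u * sec2 (σ g), by rw [map_mul, hψP u hu, e]; group⟩

end

/-- Piece M1A. -/
theorem m1a (hB : Base.{u}) : M1aStmt.{u} := by
  classical
  intro G _ _ J φ s h
  have hJ := h.em2
  have hP := hJ.mono PP_le
  have gen : Gen G := hB.gen
  let σ : HP J →* Perm P := MonoidHom.mk' (fun g => (Classical.choose g.2).σ) fun a b =>
    ex_uniq hB.m3 hJ (Classical.choose_spec (a * b).2)
      (ex_mul (Classical.choose_spec a.2) (Classical.choose_spec b.2))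
  have hσ : ∀ (g : HP J) (m : N2), Ex J g m PP ↔ σ g = m.σ := fun g m =>
    ⟨fun a => ex_uniq hB.m3 hJ (Classical.choose_spec g.2) a,
      fun a => ex_congr hB.m2 (Classical.choose_spec g.2) a⟩
  have hself : ∀ u ∈ S2, Ex J (J u) u PP := fun u hu v hv => hJ.self hu (PP_le hv)
  have hle : ∀ u ∈ S2, J u ∈ HP J := fun u hu => ⟨u, hself u hu⟩
  have hsur : Function.Surjective σ := by
    have := hB.m2.gN (σ.range.comap π2)
      (fun u hu => ⟨⟨J u, hle u hu⟩, (hσ _ u).1 (hself u hu)⟩)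
      fun k hk => let ⟨g, _, _, e⟩ := h.exP k hk; ⟨⟨g, k, e⟩, (hσ ⟨g, k, e⟩ k).1 e⟩
    intro γ
    have a : sec2 γ ∈ σ.range.comap π2 := this ▸ mem_top _
    exact a
  have hPC : im J PP ≤ C[im J PP] := im_le fun u hu =>
    (ex_one_iff hJ).1 (ex_congr hB.m2 (hself u (PP_le hu)) hu)
  obtain ⟨O, hOC, hO, hN, hdec⟩ := gen.dec C[im J PP] (im J PP)
    (h.sylP.mono hPC (centralizer_le (im_mono inf_le_left)))
    fun a ha b hb => mem_centralizer_iff.1 hb a ha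
  have hHN : HP J ≤ N[O] := (HP_le hJ).trans (le_trans (fun g hg => ?_) hN)
  swap
  · have k : ∀ g ∈ N[im J PP], ∀ c ∈ C[im J PP], g * c * g⁻¹ ∈ C[im J PP] := fun g hg c hc =>
      mem_centralizer_iff.2 fun a ha => by
        have := mem_centralizer_iff.1 hc _ ((mem_normalizer_iff.1 (inv_mem hg) a).1 ha)
        calc a * (g * c * g⁻¹) = g * (g⁻¹ * a * g⁻¹⁻¹ * c) * g⁻¹ := by group
          _ = g * (c * (g⁻¹ * a * g⁻¹⁻¹)) * g⁻¹ := by rw [this]
          _ = g * c * g⁻¹ * a := by group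
    refine mem_normalizer_iff.2 fun c => ⟨k g hg c, fun hc => ?_⟩
    have := k g⁻¹ (inv_mem hg) _ hc
    rwa [show g⁻¹ * (g * c * g⁻¹) * g⁻¹⁻¹ = c by group] at this
  have : (O.subgroupOf (HP J)).Normal := normal_subgroupOf_of_le_normalizer hHN
  let q : HP J →* HP J ⧸ O.subgroupOf (HP J) := QuotientGroup.mk' _
  have hq : ∀ g, q g = 1 ↔ (g : G) ∈ O := fun g => QuotientGroup.eq_one_iff g
  let σb : HP J ⧸ O.subgroupOf (HP J) →* Perm P := QuotientGroup.lift _ σ fun g hg =>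
    (hσ g 1).1 ((ex_one_iff hJ).2 (hOC hg))
  have hσb : ∀ g, σb (q g) = σ g := fun _ => rfl
  let Q : G → HP J ⧸ O.subgroupOf (HP J) := fun g => if hg : g ∈ HP J then q ⟨g, hg⟩ else 1
  have hQ : ∀ g (hg : g ∈ HP J), Q g = q ⟨g, hg⟩ := fun g hg => dif_pos hg
  have hQm : ∀ g ∈ HP J, ∀ g' ∈ HP J, Q (g * g') = Q g * Q g' := fun g hg g' hg' => by
    rw [hQ g hg, hQ g' hg', hQ _ (mul_mem hg hg'), ← map_mul]; rfl
  have hJb : Em (fun u => Q (J u)) S2 := by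
    refine ⟨fun u hu v hv => by rw [hJ.mul u hu v hv, hQm _ (hle u hu) _ (hle v hv)],
      fun u hu v hv e => ?_⟩
    have a : J (u⁻¹ * v) ∈ O := by
      have m := hle _ (mul_mem (inv_mem hu) hv)
      refine (hq ⟨_, m⟩).1 ?_
      have : (⟨_, m⟩ : HP J) = (⟨_, hle u hu⟩ : HP J)⁻¹ * ⟨_, hle v hv⟩ := Subtype.ext (by
        change J (u⁻¹ * v) = (J u)⁻¹ * J v
        rw [hJ.mul _ (inv_mem hu) _ hv, hJ.inv hu])
      rw [this, map_mul, map_inv, ← hQ, ← hQ, e, inv_mul_cancel]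
    have b := gen.one _ _ (hJ.two hB.m1.two) (mem_im (mul_mem (inv_mem hu) hv))
      ((hO _ (hOC a)).1 a)
    exact inv_mul_eq_one.1 (hJ.inj _ (mul_mem (inv_mem hu) hv) _ (one_mem _) (b.trans hJ.one.symm))
  obtain ⟨ψ, hψ⟩ := split hB.m1 hB.m2 hJb σb
    (fun γ => let ⟨g, e⟩ := hsur γ; ⟨q g, e⟩)
    (fun u hu => by rw [hQ _ (hle u hu), hσb]; exact (hσ _ u).1 (hself u hu))
    (fun y hy => by
      obtain ⟨g, rfl⟩ := QuotientGroup.mk'_surjective _ y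
      obtain ⟨a, ha, o, ho, e⟩ := hdec g ((ex_one_iff hJ).1 ((hσ g 1).2 hy))
      obtain ⟨u, hu, rfl⟩ := hP.mem.1 ha
      have m : o ∈ HP J := ⟨1, (ex_one_iff hJ).2 (hOC ho)⟩
      refine ⟨u, hu, ?_⟩
      have : g = ⟨_, hle u (PP_le hu)⟩ * ⟨o, m⟩ := Subtype.ext e
      change Q (J u) = q g
      rw [this, map_mul, (hq ⟨o, m⟩).2 ho, mul_one, hQ])
    (fun y u hu => by
      obtain ⟨g, rfl⟩ := QuotientGroup.mk'_surjective _ y
      have e := (hσ g (sec2 (σ g))).2 rfl u hu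
      change q g * Q (J u) * (q g)⁻¹ = Q (J (sec2 (σ g) * u * (sec2 (σ g))⁻¹))
      rw [hQ _ (hle u (PP_le hu)), hQ _ (hle _ (PP_le (PP_nrm _ hu))), ← map_inv, ← map_mul,
        ← map_mul]
      exact congrArg q (Subtype.ext e))
  refine ⟨HP J, fun g => ψ.symm (Q g), ⟨fun g hg g' hg' => by rw [hQm g hg g' hg', map_mul], hle,
    fun u hu => by rw [← hψ u hu, ψ.symm_apply_apply], fun m => ?_, fun g hg e => ?_⟩,
    fun _ => Iff.rfl⟩
  · obtain ⟨g, e⟩ := QuotientGroup.mk'_surjective _ (ψ m)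
    exact ⟨g, g.2, by rw [hQ _ g.2, ψ.symm_apply_eq]; exact e⟩
  · have a : g ∈ O := (hq ⟨g, hg⟩).1 (by rw [← hQ]; exact ψ.symm.map_eq_one_iff.1 e)
    exact (hO _ (hOC a)).1 a

end Cfsg.Agent.H21.KnM1a
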