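import Mathlib

/-!
# Involutions acting freely on a chain of elementary abelian layers
-/

set_option autoImplicit false

namespace Cfsg.Agent.H21.Ly

open Subgroup

universe u

variable {G : Type u} [Group G] {Y Z : Subgroup G} {g t θ x y : G}

theorem cjm (hg : g ∈ normalizer (Y : Set G)) (hx : x ∈ Y) : g * x * g⁻¹ ∈ Y := (mem_normalizer_iff.1 hg x).1 hx

theorem nrm [Finite G] (h : ∀ x ∈ Y, g * x * g⁻¹ ∈ Y) : g ∈ normalizer (Y : Set G) := mem_normalizer_fintype h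

/-- Elements normalizing `Y` and centralizing `S` modulo `Y`. -/
def St (Y : Subgroup G) (S : Set G) : Subgroup G where
  carrier := {h | h ∈ normalizer (Y : Set G) ∧ ∀ q ∈ S, h * q * h⁻¹ * q⁻¹ ∈ Y}
  one_mem' := ⟨one_mem _, by simp⟩
  mul_mem' := fun {a b} ha hb => ⟨mul_mem ha.1 hb.1, fun q hq => by
    rw [show a * b * q * (a * b)⁻¹ * q⁻¹ = a * (b * q * b⁻¹ * q⁻¹) * a⁻¹ * (a * q * a⁻¹ * q⁻¹) by group]
    exact mul_mem (cjm ha.1 (hb.2 q hq)) (ha.2 q hq)⟩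
  inv_mem' := fun {a} ha => ⟨inv_mem ha.1, fun q hq => by
    rw [show a⁻¹ * q * a⁻¹⁻¹ * q⁻¹ = a⁻¹ * (a * q * a⁻¹ * q⁻¹)⁻¹ * a⁻¹⁻¹ by group]
    exact cjm (inv_mem ha.1) (inv_mem (ha.2 q hq))⟩

theorem csymm (h : x * y * x⁻¹ * y⁻¹ ∈ Y) : y * x * y⁻¹ * x⁻¹ ∈ Y := by
  simpa [mul_assoc] using inv_mem h

theorem c_of (h : x * y = y * x) : x * y * x⁻¹ * y⁻¹ ∈ Y := by rw [h]; simp

/-- `Z / Y` is elementary abelian. -/
structure Lay (Y Z : Subgroup G) : Prop where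
  le : Y ≤ Z
  comm : ∀ x ∈ Z, ∀ y ∈ Z, x * y * x⁻¹ * y⁻¹ ∈ Y
  sq : ∀ x ∈ Z, x * x ∈ Y

theorem exists_pi (hc : ∀ x ∈ Z, ∀ y ∈ Z, x * y * x⁻¹ * y⁻¹ ∈ Y) :
    ∃ (M : Type u) (_ : CommGroup M) (π : G → M), (∀ x ∈ Z, ∀ y ∈ Z, π (x * y) = π x * π y) ∧
      (∀ x ∈ Z, π x = 1 ↔ x ∈ Y) ∧ ∀ x ∈ Z, π x⁻¹ = (π x)⁻¹ := by
  classical
  have : (Y.subgroupOf Z).Normal := ⟨fun n hn g => by
    simpa [mem_subgroupOf] using mul_mem (hc g g.2 n n.2) hn⟩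
  refine ⟨Z ⧸ Y.subgroupOf Z, { (inferInstance : Group _) with mul_comm := fun a b => ?_ },
    fun x => if h : x ∈ Z then (⟨x, h⟩ : Z) else 1, fun x hx y hy => ?_, fun x hx => ?_,
    fun x hx => ?_⟩
  · obtain ⟨a, rfl⟩ := QuotientGroup.mk_surjective a
    obtain ⟨b, rfl⟩ := QuotientGroup.mk_surjective b
    rw [← QuotientGroup.mk_mul, ← QuotientGroup.mk_mul, QuotientGroup.eq]
    simpa [mem_subgroupOf, mul_assoc] using hc _ (inv_mem b.2) _ (inv_mem a.2)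
  · simp only [dif_pos hx, dif_pos hy, dif_pos (mul_mem hx hy)]; rfl
  · simp only [dif_pos hx]; exact QuotientGroup.eq_one_iff _
  · simp only [dif_pos hx, dif_pos (inv_mem hx)]; rfl

theorem lay_of {S : Set G} (hn : ∀ x ∈ S, x ∈ normalizer (Y : Set G))
    (hc : ∀ x ∈ S, ∀ y ∈ S, x * y * x⁻¹ * y⁻¹ ∈ Y) (hs : ∀ x ∈ S, x * x ∈ Y) : Lay Y (Y ⊔ closure S) := by
  have k : ∀ T : Set G, (∀ x ∈ T, x ∈ normalizer (Y : Set G)) → Y ≤ St Y T := fun T h y hy =>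
    ⟨le_normalizer hy, fun q hq => by simpa [mul_assoc] using mul_mem hy (cjm (h q hq) (inv_mem hy))⟩
  have h1 : Y ⊔ closure S ≤ St Y S := sup_le (k S hn) ((closure_le _).2 fun x hx => ⟨hn x hx, hc x hx⟩)
  have h2 : ∀ x ∈ Y ⊔ closure S, ∀ y ∈ Y ⊔ closure S, x * y * x⁻¹ * y⁻¹ ∈ Y := fun x hx y hy =>
    (sup_le (k {y} (by simpa using (h1 hy).1)) ((closure_le _).2 fun s h =>
      ⟨hn s h, by simpa using csymm ((h1 hy).2 s h)⟩) hx).2 y rfl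
  obtain ⟨M, _, π, πm, π1, -⟩ := exists_pi h2
  let H : Subgroup G :=
    { carrier := {x | x ∈ Y ⊔ closure S ∧ x * x ∈ Y}
      one_mem' := ⟨one_mem _, by simp⟩
      mul_mem' := fun {a b} ha hb => ⟨mul_mem ha.1 hb.1, by
        have m := mul_mem ha.1 hb.1
        rw [← π1 _ (mul_mem m m), πm _ m _ m, πm _ ha.1 _ hb.1, mul_mul_mul_comm, ← πm _ ha.1 _ ha.1,
          ← πm _ hb.1 _ hb.1, (π1 _ (mul_mem ha.1 ha.1)).2 ha.2, (π1 _ (mul_mem hb.1 hb.1)).2 hb.2, one_mul]⟩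
      inv_mem' := fun {a} ha => ⟨inv_mem ha.1, by simpa using inv_mem ha.2⟩ }
  exact ⟨le_sup_left, h2, fun x hx => (sup_le (c := H) (fun y hy => ⟨mem_sup_left hy, mul_mem hy hy⟩)
    ((closure_le _).2 fun s h => ⟨mem_sup_right (subset_closure h), hs s h⟩) hx).2⟩

/-- All involutions of the coset `g Y` are conjugate to `g` under `Y`. -/
def Inv (Y : Subgroup G) (g : G) : Prop := ∀ x ∈ Y, g * x * (g * x) = 1 → ∃ y ∈ Y, y * g * y⁻¹ = g * x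

theorem inv_bot : Inv ⊥ g := fun x hx _ => ⟨1, one_mem _, by simp [mem_bot.1 hx]⟩

theorem Inv.cen (I : Inv Y t) (tt : t * t = 1) (h : t * x * t * x⁻¹ ∈ Y) : ∃ y ∈ Y, y⁻¹ * x * t = t * (y⁻¹ * x) := by
  have e : t * (t * x * t * x⁻¹) = x * t * x⁻¹ := by simp only [← mul_assoc, tt, one_mul]
  obtain ⟨y, hy, e1⟩ := I _ h (by rw [e, conj_mul, tt]; simp)
  refine ⟨y, hy, ?_⟩
  calc _ = y⁻¹ * (x * t * x⁻¹) * x := by group
    _ = _ := by rw [← e, ← e1]; group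

theorem Lay.norm (L : Lay Y Z) (hx : x ∈ Z) (hy : y ∈ Y) : x * y * x⁻¹ ∈ Y := by
  simpa using mul_mem (L.comm x hx y (L.le hy)) hy

theorem Lay.fin (L : Lay Y Z) (I : Inv Y g) (gg : g * g = 1) (e : g * x * (g * x) = 1) (hy : y ∈ Z)
    (h : x⁻¹ * (g * y * g * y⁻¹) ∈ Y) : ∃ y ∈ Z, y * g * y⁻¹ = g * x := by
  have e1 : g * (y⁻¹ * (x⁻¹ * (g * y * g * y⁻¹))⁻¹ * y⁻¹⁻¹) = y⁻¹ * (g * x) * y := by
    rw [← inv_eq_of_mul_eq_one_right gg]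
    calc _ = g⁻¹ * y⁻¹ * y * (g⁻¹⁻¹ * y⁻¹ * g⁻¹⁻¹ * x * y) := by group
      _ = _ := by rw [inv_eq_of_mul_eq_one_right gg, inv_eq_of_mul_eq_one_right gg]; simp [← mul_assoc, gg]
  obtain ⟨w, hw, e2⟩ := I _ (L.norm (inv_mem hy) (inv_mem h)) (by
    rw [e1, show y⁻¹ * (g * x) * y * (y⁻¹ * (g * x) * y) = y⁻¹ * (g * x * (g * x)) * y by group, e]; simp)
  exact ⟨y * w, mul_mem hy (L.le hw), by rw [show y * w * g * (y * w)⁻¹ = y * (w * g * w⁻¹) * y⁻¹ by group, e2, e1]; group⟩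

theorem Lay.step (L : Lay Y Z) (I : Inv Y t) (tt : t * t = 1) (tn : ∀ y ∈ Z, t * y * t ∈ Z)
    (hc : ∀ H : Subgroup G, Y ≤ H → (∀ y ∈ Z, t * y * t * y⁻¹ ∈ H) → ∀ r ∈ Z, r * t = t * r → r ∈ H) : Inv Z t := by
  obtain ⟨M, _, π, πm, π1, πi⟩ := exists_pi L.comm
  have p1 : π 1 = 1 := (π1 1 (one_mem _)).2 (one_mem _)
  have tm : ∀ a b, t * (a * b) * t = t * a * t * (t * b * t) := fun a b => by
    simp only [mul_assoc, ← mul_assoc t t, tt, one_mul]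
  let H : Subgroup G :=
    { carrier := {r | r ∈ Z ∧ ∃ y ∈ Z, π r = π (t * y * t) * (π y)⁻¹}
      one_mem' := ⟨one_mem _, 1, one_mem _, by simp [tt, p1]⟩
      mul_mem' := fun {a b} ⟨ha, y, hy, e⟩ ⟨hb, z, hz, e'⟩ => ⟨mul_mem ha hb, _, mul_mem hy hz, by
        rw [πm a ha b hb, e, e', tm, πm _ (tn y hy) _ (tn z hz), πm y hy z hz, mul_inv, mul_mul_mul_comm]⟩
      inv_mem' := fun {a} ⟨ha, y, hy, e⟩ => ⟨inv_mem ha, _, inv_mem hy, by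
        rw [πi a ha, e, show t * y⁻¹ * t = (t * y * t)⁻¹ by
          rw [mul_inv_rev, mul_inv_rev, inv_eq_of_mul_eq_one_right tt, mul_assoc], πi _ (tn y hy), πi y hy, mul_inv]⟩ }
  intro x hx e
  obtain ⟨w, hw, c⟩ := I.cen tt (x := x) (by
    rw [show t * x * t = x⁻¹ from eq_inv_of_mul_eq_one_left (by simpa only [mul_assoc] using e)]
    exact L.sq _ (inv_mem hx))
  obtain ⟨-, y, hy, e1⟩ := hc H (fun y hy => ⟨L.le hy, 1, one_mem _, by simp [tt, p1, (π1 y (L.le hy)).2 hy]⟩)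
    (fun y hy => ⟨mul_mem (tn y hy) (inv_mem hy), y, hy, by rw [πm _ (tn y hy) _ (inv_mem hy), πi y hy]⟩) _
    (mul_mem (inv_mem (L.le hw)) hx) c
  have m := mul_mem (tn y hy) (inv_mem hy)
  refine L.fin I tt e hy ((π1 _ (mul_mem (inv_mem hx) m)).1 ?_)
  rw [πm _ (inv_mem hx) _ m, πm _ (tn y hy) _ (inv_mem hy), πi y hy, ← e1, πm _ (inv_mem (L.le hw)) _ hx,
    (π1 _ (inv_mem (L.le hw))).2 (inv_mem hw), one_mul, πi x hx, inv_mul_cancel]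

/-- The norm for an element of order three. -/
def Nm (θ x : G) : G := x * (θ * x * θ⁻¹) * (θ * (θ * x * θ⁻¹) * θ⁻¹)

theorem Lay.nm (L : Lay Y Z) (tn : θ ∈ normalizer (Z : Set G)) (tY : θ ∈ normalizer (Y : Set G))
    (hc : ∀ H : Subgroup G, Y ≤ H → (∀ x ∈ Z, Nm θ x ∈ Y → x ∈ H) → Z ≤ H) : ∀ x ∈ Z, Nm θ x ∈ Y := by
  obtain ⟨M, _, π, πm, π1, πi⟩ := exists_pi L.comm
  have k : ∀ x ∈ Z, Nm θ x ∈ Y ↔ π x * π (θ * x * θ⁻¹) * π (θ * (θ * x * θ⁻¹) * θ⁻¹) = 1 := fun x hx => by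
    have h1 := cjm tn hx
    rw [Nm, ← π1 _ (mul_mem (mul_mem hx h1) (cjm tn h1)), πm _ (mul_mem hx h1) _ (cjm tn h1), πm _ hx _ h1]
  let H : Subgroup G :=
    { carrier := {x | x ∈ Z ∧ Nm θ x ∈ Y}
      one_mem' := ⟨one_mem _, by simp [Nm]⟩
      mul_mem' := fun {a b} ⟨ha, e⟩ ⟨hb, e'⟩ => ⟨mul_mem ha hb, by
        rw [k _ ha] at e
        rw [k _ hb] at e'
        rw [k _ (mul_mem ha hb), ← conj_mul, ← conj_mul, πm a ha b hb, πm _ (cjm tn ha) _ (cjm tn hb),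
          πm _ (cjm tn (cjm tn ha)) _ (cjm tn (cjm tn hb)), mul_mul_mul_comm (π a), mul_mul_mul_comm, e, e', one_mul]⟩
      inv_mem' := fun {a} ⟨ha, e⟩ => ⟨inv_mem ha, by
        rw [k _ ha] at e
        rw [k _ (inv_mem ha), ← conj_inv, ← conj_inv, πi a ha, πi _ (cjm tn ha), πi _ (cjm tn (cjm tn ha)),
          ← mul_inv, ← mul_inv, e, inv_one]⟩ }
  exact fun x hx => (hc H (fun y hy => ⟨L.le hy, mul_mem (mul_mem hy (cjm tY hy)) (cjm tY (cjm tY hy))⟩)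
    (fun x h1 h2 => ⟨h1, h2⟩) hx).2

theorem Lay.free (L : Lay Y Z) (I : Inv Y g) (gg : g * g = 1) (θ3 : θ ^ 3 = 1) (gθ : g * θ * g⁻¹ = θ⁻¹)
    (tn : θ ∈ normalizer (Z : Set G)) (h : ∀ x ∈ Z, Nm θ x ∈ Y) : Inv Z g := fun x hx e => by
  have gi : g⁻¹ = g := inv_eq_of_mul_eq_one_right gg
  have e1 : g * x⁻¹ * g⁻¹ = x := by
    rw [conj_inv.symm, gi]; exact inv_eq_of_mul_eq_one_right (by simpa only [mul_assoc] using e)
  have t2 : θ⁻¹ = θ * θ := inv_eq_of_mul_eq_one_right (by rw [← θ3, pow_succ, pow_two, mul_assoc])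
  refine L.fin I gg e (inv_mem (cjm tn hx)) ?_
  have h1 := cjm tn hx
  have h2 := cjm tn h1
  have e2 : g * (θ * x * θ⁻¹)⁻¹ * g = θ * (θ * x * θ⁻¹) * θ⁻¹ := by
    calc _ = g * (θ * x * θ⁻¹)⁻¹ * g⁻¹ := by rw [gi]
      _ = (g * θ * g⁻¹) * (g * x⁻¹ * g⁻¹) * (g * θ * g⁻¹)⁻¹ := by group
      _ = (θ * θ) * x * (θ * θ)⁻¹ := by rw [gθ, e1, t2]
      _ = _ := by group
  obtain ⟨M, _, π, πm, π1, πi⟩ := exists_pi L.comm
  have e3 := (π1 _ (L.le (h x hx))).2 (h x hx)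
  have e4 := (π1 _ (mul_mem hx hx)).2 (L.sq x hx)
  rw [Nm, πm _ (mul_mem hx h1) _ h2, πm _ hx _ h1] at e3
  rw [πm _ hx _ hx] at e4
  rw [e2, inv_inv, ← π1 _ (mul_mem (inv_mem hx) (mul_mem h2 h1)), πm _ (inv_mem hx) _ (mul_mem h2 h1), πm _ h2 _ h1,
    πi x hx, inv_eq_of_mul_eq_one_right e4, mul_comm (π (θ * _ * _)), ← mul_assoc, e3]

end Cfsg.Agent.H21.Ly
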