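import Cfsg.Agent.H72.ASRQ
import Cfsg.Agent.H21.Lay

/-!
# The double of the Sylow subgroup of `G₂(4)`
-/

set_option autoImplicit false
set_option linter.unusedSectionVars false

namespace Cfsg.Agent.H21.RU

open Subgroup H28 H42.AS H72.ASB H72.ASRQ H21.Ly
open scoped commutatorElement

universe u

variable {G : Type u} [Group G] {D : RD G} {t g n p x y : G} {O H : Subgroup G} {f cs ds : F4 → G} {c : F4}

theorem mc : x ∈ centralizer {y} ↔ x * y = y * x := mem_centralizer_singleton_iff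

/-- Elements conjugated into `H` by `n`. -/
abbrev Cj (n : G) (H : Subgroup G) : Subgroup G := H.comap (MulAut.conj n).toMonoidHom

theorem fx (e : n * x = y * n) (h : y ∈ H) : n * x * n⁻¹ ∈ H := by rwa [conj_of_eq e]

theorem pw {r : F4 → G} {k : G} {κ : F4} (h : ∀ z, k * r z = r (κ * z) * k) (i : ℕ) (z : F4) :
    k ^ i * r z = r (κ ^ i * z) * k ^ i := by
  induction i generalizing z with
  | zero => simp
  | succ i ih => rw [pow_succ, mul_assoc, h, ← mul_assoc, ih, pow_succ, mul_assoc, mul_assoc]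

theorem tor {r : F4 → G} {k : G} (h3 : (n * r 1) ^ 3 = 1) (nk : n * k = k ^ 2 * n) (k3 : k ^ 3 = 1)
    (h : ∀ z, k * r z = r (om ^ 2 * z) * k) : r (om ^ 2) * n * r om * n * r (om ^ 2) * n = k⁻¹ := by
  have e1 : k * n * k⁻¹ = n * k := by
    rw [mul_inv_eq_iff_eq_mul, nk, mul_assoc, nk, ← mul_assoc, ← pow_add, pow_succ, k3, one_mul]
  have e2 : (n * k * r (om ^ 2)) ^ 3 = 1 := by
    rw [← e1, ← mul_one (om ^ 2), ← conj_of_eq (h 1), conj_mul, conj_pow, h3]; simp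
  have e3 := h (om ^ 2)
  rw [show om ^ 2 * om ^ 2 = om by decide] at e3
  refine eq_inv_of_mul_eq_one_left ?_
  calc _ = r (om ^ 2) * (n * (r om * k) * (k ^ 2 * n) * r (om ^ 2) * n * k * r (om ^ 2)) * (r (om ^ 2))⁻¹ := by
        rw [show n * (r om * k) * (k ^ 2 * n) = n * r om * k ^ 3 * n by group, k3]; group
    _ = r (om ^ 2) * (n * k * r (om ^ 2)) ^ 3 * (r (om ^ 2))⁻¹ := by
      rw [← e3, ← nk]; simp only [pow_succ, pow_zero, one_mul, mul_assoc]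
    _ = 1 := by rw [e2]; group

theorem nm_add {r : F4 → G} (hr : ∀ a b, r (a + b) = r a * r b) {κ : F4} (hκ : κ = om ∨ κ = om ^ 2)
    (h : ∀ z, n * r z = r (κ * z) * n) (z : F4) : Nm n (r z) ∈ H := by
  rw [Nm, conj_of_eq (h z), conj_of_eq (h _), ← hr, ← hr,
    show z + κ * z + κ * (κ * z) = 0 by rcases hκ with rfl | rfl <;> revert z <;> decide, one_of_add hr]
  exact one_mem _

section Rel

variable (h : D.Rel)
include h

theorem frob_rho (hg : D.Frob g) : g * D.rho * g⁻¹ = D.rho⁻¹ := by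
  have e : (om ^ 2) ^ 2 = om := by decide
  have ea : g * D.ha * g⁻¹ = D.ha⁻¹ := by
    rw [← tor h.na3 h.nah h.ha3 h.haa, RD.ha]
    simp only [← conj_mul, (hg.1 _).1, conj_of_eq hg.2.1, e]
  have eb : g * D.hb * g⁻¹ = D.hb⁻¹ := by
    rw [← tor h.nb3 h.nbh h.hb3 h.hbb, RD.hb]
    simp only [← conj_mul, (hg.1 _).2.1, conj_of_eq hg.2.2, e]
  have c1 : Commute D.rho D.ha := by
    have a : ∀ z, Commute D.rho (D.xa z) := h.ra
    have b : Commute D.rho D.na := h.rn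
    exact (((((a _).mul_right b).mul_right (a _)).mul_right b).mul_right (a _)).mul_right b
  have c2 : Commute (D.hb * D.hb) D.ha := by
    simpa [RD.rho, mul_assoc] using (Commute.refl D.ha).inv_left.mul_left c1
  rw [RD.rho, mul_assoc D.ha, ← conj_mul, ← conj_mul, ea, eb, ← mul_inv_rev, ← mul_inv_rev, c2.eq]

theorem nf' {t0 t1 t2 t3 t4 : F4} (e : D.xa t0 * D.xb t1 * D.xc t2 * D.xd t3 * D.xe t4 ∈ D.V) :
    t0 = 0 ∧ t1 = 0 ∧ t2 = 0 ∧ t3 = 0 ∧ t4 = 0 := by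
  obtain ⟨z, e⟩ := (mem_V h).1 e
  have := h.nf t0 t1 t2 t3 t4 z (by rw [e, v_sq h])
  tauto

theorem ha_one {i : ℕ} (e : om ^ i = 1 ∨ (om ^ 2) ^ i = 1) : D.ha ^ i = 1 := by
  rw [pow_eq_pow_mod i h.ha3]
  rw [pow_eq_pow_mod i om_cube, pow_eq_pow_mod i (show (om ^ 2) ^ 3 = 1 by decide)] at e
  have := Nat.mod_lt i (show 0 < 3 by norm_num)
  generalize i % 3 = j at *
  interval_cases j
  · simp
  all_goals exact absurd e (by decide)

theorem stV {S : Set G} (hp : p ∈ D.P) (e : ∀ q ∈ S, p * q * p⁻¹ * q⁻¹ ∈ D.V) : p ∈ St D.V S :=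
  ⟨centralizer_le_normalizer _ fun _ hv => (P_V h hp hv).symm, e⟩

variable (pr : D.Par)
include pr

theorem aQ {z : F4} (e : D.xa z ∈ D.QA) : z = 0 := by
  obtain ⟨t1, t2, t3, t4, t5, e⟩ := pr.qnf _ e
  exact (h.nf z t1 t2 t3 t4 t5 (by
    rw [← sq_of_add h.aa z]; nth_rewrite 3 [e]; simp only [mul_assoc])).1

theorem PU (hp : p ∈ D.P) (e : p * D.xe 1 * p⁻¹ * (D.xe 1)⁻¹ ∈ D.V) :
    ∃ q ∈ D.QA, ∃ z, ∃ i : ℕ, p = q * (D.xa z * D.ha ^ i) := by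
  obtain ⟨q, hq, l, hl, rfl⟩ := pr.pnf p hp
  obtain ⟨z, u, i, rfl | rfl⟩ := pr.lnf l hl
  · exact ⟨q, hq, z, i, rfl⟩
  have s : ∀ {p}, p ∈ D.P → p * D.xe 1 * p⁻¹ * (D.xe 1)⁻¹ ∈ D.V → p ∈ St D.V {D.xe 1} :=
    fun hp e => stV h hp (by simpa using e)
  have a : ∀ z, D.xa z ∈ St D.V {D.xe 1} := fun z => s (L_P (xa_L z)) (c_of (h.ae z 1))
  have := ((mul_mem_cancel_left (mul_mem (a z) (pow_mem (s (L_P ha_L) (c_of (h.hae 1))) i))).1
    ((mul_mem_cancel_right (a u)).1 ((mul_mem_cancel_left (s (Q_P hq) (Q_comm h hq (xe_Q 1)))).1 (s hp e)))).2 _ rfl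
  rw [conj_of_eq (na_e h 1), inv_of_add h.ee] at this
  exact absurd (nf' h (t0 := 0) (t2 := 0) (t3 := 0) (by
    simpa [one_of_add h.aa, one_of_add h.cc, one_of_add h.dd] using this)).2.1 one_ne_zero

theorem PQ (hp : p ∈ D.P) (e : p * D.xe 1 * p⁻¹ * (D.xe 1)⁻¹ ∈ D.V) (e' : p * D.xd 1 * p⁻¹ * (D.xd 1)⁻¹ ∈ D.V) :
    p ∈ D.QA := by
  obtain ⟨q, hq, z, i, rfl⟩ := PU h pr hp e
  have := ((mul_mem_cancel_left (stV h (S := {D.xd 1}) (Q_P hq) (by simpa using Q_comm h hq (xd_Q 1)))).1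
    (stV h hp (by simpa using e'))).2 _ rfl
  rw [mul_assoc (D.xa z), pw h.had, ← mul_assoc, mul_inv_rev, ← mul_assoc, mul_inv_cancel_right,
    conj_of_eq (h.ad _ _), inv_of_add h.dd, mul_assoc, ← h.de, ← mul_assoc, ← h.dd] at this
  obtain ⟨-, -, -, h1, h2⟩ := nf' h (t0 := 0) (t1 := 0) (t2 := 0) (by
    simpa only [one_of_add h.aa, one_of_add h.bb, one_of_add h.cc, one_mul] using this)
  have h3 : om ^ i = 1 := by rw [← add_zero (om ^ i), ← f4_add 1, ← add_assoc, ← mul_one (om ^ i), h1, zero_add]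
  rw [h3, mul_one, mul_one] at h2
  rw [h2, ha_one h (.inl h3), one_of_add h.aa, mul_one, mul_one]
  exact hq

theorem PU2 [Finite G] (hp : p ∈ D.P) (e : p * D.xe 1 * p⁻¹ * (D.xe 1)⁻¹ ∈ D.V)
    (e' : p * D.xa 1 * p⁻¹ * (D.xa 1)⁻¹ ∈ D.QA) : ∃ q ∈ D.QA, ∃ z, p = q * D.xa z := by
  obtain ⟨q, hq, z, i, rfl⟩ := PU h pr hp e
  have s : ∀ {p}, p ∈ D.P → p * D.xa 1 * p⁻¹ * (D.xa 1)⁻¹ ∈ D.QA → p ∈ St D.QA {D.xa 1} :=
    fun hp e => ⟨nrm (P_Q h hp), by simpa using e⟩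
  have := ((mul_mem_cancel_left (s (L_P (xa_L z)) (c_of (by rw [← h.aa, ← h.aa, add_comm])))).1
    ((mul_mem_cancel_left (s (Q_P hq) (by
      simpa [mul_assoc] using mul_mem hq (P_Q h (L_P (xa_L 1)) _ (inv_mem hq))))).1 (s hp e'))).2 _ rfl
  rw [conj_of_eq (pw h.haa i 1), inv_of_add h.aa, ← h.aa] at this
  have h1 := aQ h pr this
  exact ⟨q, hq, z, by
    rw [ha_one h (.inr (by rw [← add_zero (_ ^ i), ← f4_add 1, ← add_assoc, ← mul_one (_ ^ i), h1, zero_add])), mul_one]⟩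

theorem Qe {q : G} (hq : q ∈ D.QA) (e : q * D.xe 1 = D.xe 1 * q) :
    ∃ t2 t3 t4 t5, q = D.xc t2 * D.xd t3 * D.xe t4 * D.xv t5 := by
  obtain ⟨t1, t2, t3, t4, t5, rfl⟩ := pr.qnf _ hq
  have := mc.1 ((mul_mem_cancel_right (mc.2 (h.ce t2 1))).1 ((mul_mem_cancel_right (mc.2 (h.de t3 1))).1
    ((mul_mem_cancel_right (mc.2 (show D.xe t4 * _ = _ by rw [← h.ee, ← h.ee, add_comm]))).1
      ((mul_mem_cancel_right (mc.2 (h.ev 1 t5).symm)).1 (mc.2 e)))))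
  rw [h.be, mul_one] at this
  rw [v_eq_one h (t := t1) (by simpa using this), one_of_add h.bb, one_mul]
  exact ⟨_, _, _, _, rfl⟩

end Rel

/-- Conjugation by `n_b`. -/
def ν (D : RD G) : G ≃* G := MulAut.conj D.nb

theorem νc (e : x * y = y * x) : ν D x * ν D y = ν D y * ν D x := by rw [← map_mul, e, map_mul]

theorem ν_of (e : D.nb * x = y * D.nb) : ν D x = y := conj_of_eq e

section Nu

variable (h : D.Rel)
include h

theorem ν_eq : D.nb * x * D.nb = ν D x := by rw [ν, MulAut.conj_apply, inv_eq_of_mul_eq_one_right h.nb2]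

theorem νν : ν D (ν D x) = x := by
  rw [← ν_eq h, ← ν_eq h, ← mul_assoc, ← mul_assoc, h.nb2, mul_assoc, h.nb2, one_mul, mul_one]

theorem νa (z : F4) : ν D (D.xa z) = D.xc z := ν_of (h.nba z)
theorem νcc (z : F4) : ν D (D.xc z) = D.xa z := by rw [← νa h, νν h]
theorem νd (z : F4) : ν D (D.xd z) = D.xd z := ν_of (h.nbd z)
theorem νe (z : F4) : ν D (D.xe z) = D.xv z := ν_of (h.nbe z)
theorem νv (z : F4) : ν D (D.xv z) = D.xe z := by rw [← νe h, νν h]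
theorem νf (z : F4) : ν D (f z) = sE D f z := (ν_eq h).symm
theorem νs (z : F4) : ν D (sE D f z) = f z := by rw [← νf h, νν h]

end Nu

/-- The double of `Q_A`. -/
def W (D : RD G) (f : F4 → G) : Subgroup G := Vs D f ⊔ closure (Ms D f ∪ D.QA)

theorem Ms_W : Ms D f ≤ W D f := fun _ h => mem_sup_right (subset_closure (.inl h))
theorem Q_W : D.QA ≤ W D f := fun _ h => mem_sup_right (subset_closure (.inr h))
theorem W_ind (h1 : Ms D f ≤ H) (h2 : D.QA ≤ H) : W D f ≤ H :=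
  sup_le (Vs_Ms.trans h1) ((closure_le _).2 (Set.union_subset h1 h2))
theorem Vs_ind (h1 : ∀ z, f z ∈ H) (h2 : ∀ z, D.xv z ∈ H) : Vs D f ≤ H :=
  (closure_le _).2 (by rintro _ (⟨z, rfl⟩ | ⟨z, rfl⟩); exacts [h1 z, h2 z])
theorem Ms_ind (h1 : Vs D f ≤ H) (h2 : ∀ l ∈ D.L, ∀ β, l * sE D f β * l⁻¹ ∈ H) : Ms D f ≤ H :=
  sup_le h1 ((closure_le _).2 (by rintro _ ⟨l, hl, β, rfl⟩; exact h2 l hl β))

theorem V_Vs : D.V ≤ Vs D f := closure_mono Set.subset_union_right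

theorem Es (h : D.Rel) (hy : y ∈ Vs D f) : ν D y ∈ W D f :=
  Vs_ind (H := (W D f).comap (ν D).toMonoidHom) (fun z => by
    change ν D (f z) ∈ W D f; rw [νf h]; exact Ms_W (s_Ms z))
    (fun z => by change ν D (D.xv z) ∈ W D f; rw [νv h]; exact Q_W (xe_Q z)) hy

/-- The double of the Sylow subgroup. -/
def Us (D : RD G) (f cs : F4 → G) : Subgroup G := W D f ⊔ closure (Set.range D.xa ∪ Set.range fun z => ν D (cs z))

theorem a_U (z : F4) : D.xa z ∈ Us D f cs := mem_sup_right (subset_closure (.inl ⟨z, rfl⟩))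
theorem as_U (z : F4) : ν D (cs z) ∈ Us D f cs := mem_sup_right (subset_closure (.inr ⟨z, rfl⟩))
theorem Us_ind (h1 : W D f ≤ H) (h2 : ∀ z, D.xa z ∈ H) (h3 : ∀ z, ν D (cs z) ∈ H) : Us D f cs ≤ H :=
  sup_le h1 ((closure_le _).2 (by rintro _ (⟨z, rfl⟩ | ⟨z, rfl⟩); exacts [h2 z, h3 z]))

variable [Finite G]

theorem nVs (h1 : ∀ z, n * f z * n⁻¹ ∈ Vs D f) (h2 : ∀ z, n * D.xv z * n⁻¹ ∈ Vs D f) :
    n ∈ normalizer (Vs D f : Set G) := nrm fun _ h => Vs_ind (H := Cj n (Vs D f)) h1 h2 h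

theorem nUs (h1 : n ∈ normalizer (W D f : Set G)) (h2 : ∀ z, n * D.xa z * n⁻¹ ∈ Us D f cs)
    (h3 : ∀ z, n * ν D (cs z) * n⁻¹ ∈ Us D f cs) : n ∈ normalizer (Us D f cs : Set G) :=
  nrm fun _ h => Us_ind (H := Cj n (Us D f cs)) (fun _ hw => mem_sup_left (cjm h1 hw)) h2 h3 h

variable (hF : D.Fa) (hR : RP D t O) (hA : RA D t O f c)
include hF hR hA

theorem tA (hp : p ∈ D.A) : p * t = t * p := K_comm hR.tK hp

theorem νt : ν D t = t := ν_of (tA hF hR hA nb_A)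

theorem W_C : W D f ≤ centralizer (Vs D f : Set G) ⊓ centralizer (O : Set G) :=
  W_ind (fun _ hm => by
    obtain ⟨⟨q, h⟩, -⟩ := Ms_del hF hR hA hm
    exact ⟨fun y hy => (h.cV y hy).symm, fun o ho => (h.cO o ho).symm⟩)
    fun q hq => ⟨fun y hy => (P_Vs hF hA (Q_P hq) hy).symm,
      fun o ho => (K_comm (hR.OK ho) (P_A hF.rel (Q_P hq))).symm⟩

theorem VsV (hy : y ∈ Vs D f) (e : y * t = t * y) : y ∈ D.V := by
  obtain ⟨a, b, rfl⟩ := mem_Vs hF hR hA hy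
  have := mc.1 ((mul_mem_cancel_right (mc.2 (tA hF hR hA (xv_A hF.rel b)))).1 (mc.2 e))
  rw [hA.ft] at this
  rw [v_eq_one hF.rel (t := a) (by simpa using this), hA.f0, one_mul]
  exact xv_V b

theorem lV : Lay ⊥ (Vs D f) :=
  ⟨bot_le, fun _ hx _ hy => c_of (Vs_Vs hF hA hx hy), fun _ hx => Vs_sq hF hR hA hx⟩

theorem K0 (e : x * t = t * x) (h : x ∈ centralizer (Vs D f : Set G)) : ∃ o ∈ O, ∃ p ∈ D.P, x = o * p := by
  obtain ⟨τ, hτ, o, ho, p, hp, e1⟩ := st hF hR hA (x := 0) (fun y => (h _ (v_Vs y)).symm)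
    (by rw [v0 hF.rel, mul_one, e])
  rw [hA.f0, one_mul] at e1
  rcases hτ with rfl | rfl
  · exact ⟨o, ho, p, hp, by rw [e1, one_mul]⟩
  have := mc.1 ((mul_mem_cancel_right (mc.2 (hA.fO o ho 1))).1 ((mul_mem_cancel_right
    (mc.2 (hA.fP 1 p hp).symm)).1 (e1 ▸ mc.2 (h _ (f_Vs 1)).symm)))
  rw [hA.ft] at this
  exact absurd (v_eq_one hF.rel (t := 1) (by simpa using this)) one_ne_zero

theorem K1 (e : x * t = t * x) (h : x ∈ centralizer (Vs D f : Set G)) {k : ℕ} (hk : x ^ 2 ^ k = 1) : x ∈ D.P := by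
  obtain ⟨o, ho, p, hp, rfl⟩ := K0 hF hR hA e h
  rw [(show Commute o p from (K_comm (hR.OK ho) (P_A hF.rel hp)).symm).mul_pow] at hk
  rw [O_two hF hR ho (n := k) (H72.ASRA.AK hF (by
    rw [eq_inv_of_mul_eq_one_left hk]; exact inv_mem (pow_mem (P_A hF.rel hp) _)) (pow_mem (hR.OK ho) _)), one_mul]
  exact hp

theorem cmt (hp : p ∈ D.A) (hy : y ∈ D.A) : p * y * p⁻¹ * y⁻¹ * t = t * (p * y * p⁻¹ * y⁻¹) :=
  tA hF hR hA (mul_mem (mul_mem (mul_mem hp hy) (inv_mem hp)) (inv_mem hy))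

theorem core (e : x * t = t * x) (h : x ∈ centralizer (Vs D f : Set G)) (h1 : x ∈ St (Vs D f) {D.xd 1, D.xe 1}) :
    ∃ o ∈ O, ∃ q ∈ D.QA, x = o * q := by
  obtain ⟨o, ho, p, hp, rfl⟩ := K0 hF hR hA e h
  have := ((mul_mem_cancel_left (show o ∈ St (Vs D f) {D.xd 1, D.xe 1} from ⟨centralizer_le_normalizer _
    fun y hy => (O_Vs hF hR hA ho hy).symm, by
      rintro _ (rfl | rfl)
      exacts [c_of (K_comm (hR.OK ho) (xd_A hF.rel 1)).symm, c_of (K_comm (hR.OK ho) (xe_A hF.rel 1)).symm]⟩)).1 h1).2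
  exact ⟨o, ho, p, PQ hF.rel hF.par hp
    (VsV hF hR hA (this _ (by simp)) (cmt hF hR hA (P_A hF.rel hp) (xe_A hF.rel 1)))
    (VsV hF hR hA (this _ (by simp)) (cmt hF hR hA (P_A hF.rel hp) (xd_A hF.rel 1))), rfl⟩

theorem P_W (hp : p ∈ D.L) : p ∈ normalizer (W D f : Set G) :=
  nrm fun _ h => W_ind (H := Cj p (W D f)) (fun _ hm => Ms_W (Ms_conj hF hA hp hm))
    (fun _ hq => Q_W (P_Q hF.rel (L_P hp) _ hq)) h

theorem nW (h1 : n ∈ normalizer (Vs D f : Set G)) (h2 : ∀ l ∈ D.L, n * l * n⁻¹ ∈ D.L)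
    (h3 : ∀ β, n * sE D f β * n⁻¹ ∈ W D f) (h4 : ∀ q ∈ D.QA, n * q * n⁻¹ ∈ D.QA) :
    n ∈ normalizer (W D f : Set G) :=
  nrm fun _ h => W_ind (H := Cj n (W D f)) (Ms_ind (fun _ hy => mem_sup_left (cjm h1 hy))
    fun l hl β => by
      have := cjm (P_W hF hR hA (h2 l hl)) (h3 β)
      simpa [mul_assoc] using this) (fun q hq => Q_W (h4 q hq)) h

theorem nW' (h0 : n * D.nb = D.nb * n) (h1 : n ∈ normalizer (Vs D f : Set G)) (h2 : ∀ l ∈ D.L, n * l * n⁻¹ ∈ D.L)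
    (h4 : ∀ q ∈ D.QA, n * q * n⁻¹ ∈ D.QA) : n ∈ normalizer (W D f : Set G) :=
  nW hF hR hA h1 h2 (fun β => by
    have := Es hF.rel (cjm h1 (f_Vs β))
    rwa [map_mul, map_mul, map_inv, ν_of h0.symm, νf hF.rel] at this) h4

theorem t_Vs : t ∈ normalizer (Vs D f : Set G) :=
  nVs (fun z => by
    rw [show t * f z * t⁻¹ = (D.xv z)⁻¹ * f z by
      rw [mul_inv_eq_iff_eq_mul, mul_assoc, hA.ft, ← tA hF hR hA (xv_A hF.rel z)]; group]
    exact mul_mem (inv_mem (v_Vs z)) (f_Vs z))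
    fun z => fx (tA hF hR hA (xv_A hF.rel z)).symm (v_Vs z)

theorem t_W : t ∈ normalizer (W D f : Set G) :=
  nW' hF hR hA (tA hF hR hA nb_A).symm (t_Vs hF hR hA)
    (fun _ hl => fx (tA hF hR hA (P_A hF.rel (L_P hl))).symm hl)
    fun _ hl => fx (tA hF hR hA (P_A hF.rel (Q_P hl))).symm hl

theorem tr (e : y * t = t * x * y) : t * y * t * y⁻¹ = x := by
  rw [mul_assoc t, e, ← mul_assoc, ← mul_assoc, hR.t2, one_mul, mul_inv_cancel_right]

theorem tt (h : t ∈ normalizer (H : Set G)) (y : G) (hy : y ∈ H) : t * y * t ∈ H := by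
  simpa only [inv_eq_of_mul_eq_one_right hR.t2] using cjm h hy

theorem iV : Inv (Vs D f) t :=
  (lV hF hR hA).step inv_bot hR.t2 (tt hF hR hA (t_Vs hF hR hA)) fun H _ h r hr e => by
    obtain ⟨z, rfl⟩ := (mem_V hF.rel).1 (VsV hF hR hA hr e)
    exact tr hF hR hA (hA.ft z) ▸ h _ (f_Vs z)

theorem r_Vs : D.rho ∈ normalizer (Vs D f : Set G) :=
  nVs (fun z => fx (hA.rf z) (f_Vs _)) fun z => fx (hF.rel.rv z) (v_Vs _)

theorem r_L (hp : p ∈ D.L) : D.rho * p = p * D.rho :=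
  (mc.1 (L_ind (fun z => mc.2 (hF.rel.ra z).symm) (mc.2 hF.rel.rn.symm) hp)).symm

theorem r_W : D.rho ∈ normalizer (W D f : Set G) :=
  nW hF hR hA (r_Vs hF hR hA) (fun _ hl => fx (r_L hF hR hA hl) hl)
    (fun β => rho_s hF hA β ▸ Ms_W (s_Ms _)) (rho_Q hF.rel)

theorem g_conj (hg : D.Frob g) : (∀ l ∈ D.L, g * l * g⁻¹ ∈ D.L) ∧ ∀ q ∈ D.QA, g * q * g⁻¹ ∈ D.QA :=
  ⟨fun _ h => L_ind (H := Cj g D.L) (fun z => show _ * _ * _ ∈ _ from (hg.1 z).1 ▸ xa_L _)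
    (fx hg.2.1 na_L) h,
  fun _ h => Q_ind (H := Cj g D.QA)
    (fun z => show _ * _ * _ ∈ _ from (hg.1 z).2.1 ▸ xb_Q _) (fun z => show _ * _ * _ ∈ _ from (hg.1 z).2.2.1 ▸ xc_Q _)
    (fun z => show _ * _ * _ ∈ _ from (hg.1 z).2.2.2.1 ▸ xd_Q _)
    (fun z => show _ * _ * _ ∈ _ from (hg.1 z).2.2.2.2.1 ▸ xe_Q _)
    (fun z => show _ * _ * _ ∈ _ from (hg.1 z).2.2.2.2.2 ▸ xv_Q _) h⟩

theorem g_Vs (gt : g * t = t * g) (hg : D.Frob g) : g ∈ normalizer (Vs D f : Set G) := by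
  refine nVs (fun z => ?_) fun z => (hg.1 z).2.2.2.2.2 ▸ v_Vs _
  have gP : g ∈ normalizer (D.P : Set G) := nrm fun _ h => (sup_le (fun q hq => Q_P ((g_conj hF hR hA hg).2 q hq))
    fun l hl => L_P ((g_conj hF hR hA hg).1 l hl) : D.P ≤ Cj g D.P) h
  have cP : ∀ p ∈ D.P, g * f z * g⁻¹ * p = p * (g * f z * g⁻¹) := fun p hp => by
    have := hA.fP z _ (cjm (inv_mem gP) hp)
    calc _ = g * (f z * (g⁻¹ * p * g⁻¹⁻¹)) * g⁻¹ := by group
      _ = _ := by rw [this]; group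
  have f2 : g * f z * g⁻¹ * (g * f z * g⁻¹) = 1 := by rw [conj_mul, f_sq hF hR hA]; simp
  obtain ⟨τ, hτ, p, hp, e⟩ := st2 hF hR hA (g := g * f z * g⁻¹) (x := z ^ 2) (fun y => cP _ (Q_P (xv_Q y))) (by
    rw [← (hg.1 z).2.2.2.2.2]
    calc _ = g * (f z * t) * g⁻¹ := by rw [mul_assoc _ g⁻¹, (show Commute g t from gt).inv_left.eq]; group
      _ = _ := by rw [hA.ft, ← mul_assoc t, ← mul_assoc t, ← gt]; group)
    (by rw [show 4 = 2 * 2 from rfl, pow_mul, pow_two (_ * _), f2, one_pow])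
  have pV := hF.par.cQA p hp fun q hq => mc.1 ((mul_mem_cancel_left (mc.2 (tau_P hF hR hA hτ _ (Q_P hq)))).1
    (e ▸ mc.2 (cP q (Q_P hq))))
  have c1 : Commute (f (z ^ 2) * τ) p := tau_P hF hR hA hτ _ hp
  rcases hτ with rfl | rfl
  · rw [e, mul_one]; exact mul_mem (f_Vs _) (V_Vs pV)
  rw [e, ← pow_two, c1.mul_pow, pow_two, pow_two p, V_sq hF.rel pV, mul_one, ← mul_assoc]
    at f2
  nth_rewrite 1 [hA.ft] at f2
  rw [mul_assoc (τ * _), f_sq hF hR hA, mul_one, mul_assoc, tA hF hR hA (xv_A hF.rel _),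
    ← mul_assoc, hR.t2, one_mul] at f2
  rw [pow_eq_zero_iff two_ne_zero |>.1 (v_eq_one hF.rel f2), hA.f0]
  simp

theorem g_W (gt : g * t = t * g) (hg : D.Frob g) : g ∈ normalizer (W D f : Set G) :=
  nW' hF hR hA hg.2.2 (g_Vs hF hR hA gt hg) (g_conj hF hR hA hg).1 (g_conj hF hR hA hg).2

theorem nmV : ∀ x ∈ Vs D f, Nm D.rho x ∈ (⊥ : Subgroup G) :=
  (lV hF hR hA).nm (r_Vs hF hR hA) (nrm fun _ h => by simp [mem_bot.1 h]) fun _ _ h => Vs_ind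
    (fun z => h _ (f_Vs z) (nm_add (f_add hF hR hA) (.inr rfl) hA.rf z))
    fun z => h _ (v_Vs z) (nm_add hF.rel.vv (.inr rfl) hF.rel.rv z)

variable (hQ : RQ D t f cs ds)
include hQ

theorem lW : Lay (Vs D f) (W D f) := by
  have k : ∀ m ∈ Ms D f, ∀ q ∈ D.QA, m * q * m⁻¹ * q⁻¹ ∈ Vs D f := fun m hm q hq => by
    obtain ⟨⟨q', h⟩, -⟩ := Ms_del hF hR hA hm
    obtain ⟨z, e⟩ := (mem_V hF.rel).1 (Q_comm hF.rel h.Q hq)
    rw [h.cq q hq z e, ← hA.fP z q (Q_P hq), mul_inv_cancel_right]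
    exact f_Vs z
  refine lay_of (fun x hx => centralizer_le_normalizer _ (W_C hF hR hA (mem_sup_right (subset_closure hx))).1) ?_ ?_
  · rintro x (hx | hx) y (hy | hy)
    exacts [hQ.mcomm x hx y hy, k x hx y hy, csymm (k y hy x hx), V_Vs (Q_comm hF.rel hx hy)]
  · rintro x (hx | hx)
    exacts [hQ.msq x hx, V_Vs (Q_sq hF.rel hx)]

theorem W4 (hx : x ∈ W D f) : x ^ 2 ^ 2 = 1 := by
  rw [pow_two 2, pow_mul, pow_two, pow_two, Vs_sq hF hR hA ((lW hF hR hA hQ).sq x hx)]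

theorem W_St (hx : x ∈ W D f) : x ∈ St (Vs D f) {D.xd 1, D.xe 1} :=
  ⟨centralizer_le_normalizer _ (W_C hF hR hA hx).1, by
    rintro _ (rfl | rfl)
    exacts [(lW hF hR hA hQ).comm x hx _ (Q_W (xd_Q 1)), (lW hF hR hA hQ).comm x hx _ (Q_W (xe_Q 1))]⟩

theorem CW (hx : x ∈ W D f) (e : x * t = t * x) : x ∈ D.QA := by
  obtain ⟨o, ho, q, hq, rfl⟩ := core hF hR hA e (W_C hF hR hA hx).1 (W_St hF hR hA hQ hx)
  rwa [O_two hF hR ho (W4 hF hR hA hQ ((mul_mem_cancel_right (Q_W hq)).1 hx)), one_mul]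

theorem iW : Inv (W D f) t :=
  (lW hF hR hA hQ).step (iV hF hR hA) hR.t2 (tt hF hR hA (t_W hF hR hA)) fun H _ h r hr e => by
    have k : ∀ q ∈ D.QA, q * q = 1 → q ∈ H := fun q hq q2 => by
      obtain ⟨m, hm, -, e⟩ := surj' hF hR hA hq q2
      exact tr hF hR hA e ▸ h _ (Ms_W hm)
    exact Q_ind (fun z => k _ (xb_Q z) (sq_of_add hF.rel.bb z)) (fun z => k _ (xc_Q z) (sq_of_add hF.rel.cc z))
      (fun z => k _ (xd_Q z) (sq_of_add hF.rel.dd z)) (fun z => k _ (xe_Q z) (sq_of_add hF.rel.ee z))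
      (fun z => k _ (xv_Q z) (sq_of_add hF.rel.vv z)) (CW hF hR hA hQ hr e)

theorem char (h : x ∈ centralizer (Vs D f : Set G)) (h1 : x ∈ St (Vs D f) {D.xd 1, D.xe 1}) (h4 : x ^ 2 ^ 2 = 1)
    (h2 : t * x * t * x⁻¹ ∈ W D f) : x ∈ W D f := by
  obtain ⟨y, hy, e⟩ := (iW hF hR hA hQ).cen hR.t2 h2
  obtain ⟨o, ho, q, hq, e⟩ := core hF hR hA e (mul_mem (inv_mem (W_C hF hR hA hy).1) h)
    (mul_mem (inv_mem (W_St hF hR hA hQ hy)) h1)
  have m := mul_mem hy (Q_W hq)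
  have e1 : x = o * (y * q) := by rw [← mul_assoc, (W_C hF hR hA hy).2 o ho, mul_assoc, ← e, mul_inv_cancel_left]
  rw [e1, (show Commute o _ from (W_C hF hR hA m).2 o ho).mul_pow, W4 hF hR hA hQ m, mul_one] at h4
  rwa [e1, O_two hF hR ho h4, one_mul]

theorem cs_V (z : F4) (hy : y ∈ Vs D f) : cs z * y = y * cs z := ((W_C hF hR hA (Ms_W (hQ.cM z))).1 y hy).symm

theorem as_C (z : F4) : ν D (cs z) ∈ centralizer (Vs D f : Set G) := fun _ hy => (Vs_comm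
  (fun β => by simpa only [νs hF.rel] using νc (D := D) (hQ.cs_s z β))
  (fun β => by simpa only [νe hF.rel] using νc (D := D) (hQ.ce z β)) hy).symm

theorem as_t (z : F4) : ν D (cs z) * t = t * D.xa z * ν D (cs z) := by
  simpa only [map_mul, νt hF hR hA, νcc hF.rel] using congrArg (ν D) (hQ.ct z)

theorem as_a (z u : F4) : ν D (cs z) * D.xa u = D.xa u * ν D (cs z) := by
  simpa only [νcc hF.rel] using νc (D := D) (hQ.cc z u)

theorem as_e (z u : F4) : ν D (cs z) * D.xe u = D.xe u * ν D (cs z) := by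
  simpa only [νv hF.rel] using νc (D := D) (cs_V hF hR hA hQ z (v_Vs u))

theorem as_W (z : F4) : ν D (cs z) ∈ normalizer (W D f : Set G) := by
  have L := lW hF hR hA hQ
  have aC := as_C hF hR hA hQ z
  have h1 := as_t hF hR hA hQ z
  have h2 := as_a hF hR hA hQ z z
  have h3 := as_e hF hR hA hQ z 1
  have h4 : ν D (cs z) * sE D f (z * 1) = sE D f (z * 1) * ν D (cs z) := by
    simpa only [νf hF.rel] using νc (D := D) (cs_V hF hR hA hQ z (f_Vs (z * 1)))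
  have h5 : ν D (cs z) * D.xd 1 = sE D f (z * 1) * D.xd 1 * ν D (cs z) := by
    rw [← νf hF.rel, ← νd hF.rel, ← map_mul, hQ.cd, map_mul, map_mul]
  generalize ν D (cs z) = α at *
  have h6 : α⁻¹ * D.xd 1 * α = (sE D f (z * 1))⁻¹ * D.xd 1 := by
    calc _ = α⁻¹ * (sE D f (z * 1))⁻¹ * (sE D f (z * 1) * D.xd 1 * α) := by group
      _ = _ := by rw [← h5, ← mul_inv_rev, ← h4]; group
  have τ2 : t * D.xa z * (t * D.xa z) = 1 := by
    rw [mul_assoc, ← mul_assoc _ t, tA hF hR hA (xa_A z), mul_assoc, sq_of_add hF.rel.aa, mul_one, hR.t2]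
  have τn := mul_mem (t_W hF hR hA) (P_W hF hR hA (xa_L z))
  have h7 : t = α * (t * D.xa z) * α⁻¹ := by
    rw [← mul_assoc, h1, mul_assoc _ α, h2, ← mul_assoc, mul_assoc t, sq_of_add hF.rel.aa]; group
  generalize t * D.xa z = τ at τ2 τn h7
  have τi : τ⁻¹ = τ := inv_eq_of_mul_eq_one_right τ2
  have ind : ∀ m ∈ W D f, α * (τ * m * τ * m⁻¹) * α⁻¹ ∈ W D f → α * m * α⁻¹ ∈ W D f := fun m hm h => by
    have k : ∀ r, α⁻¹ * r * α ∈ W D f → α * m * α⁻¹ * r * (α * m * α⁻¹)⁻¹ * r⁻¹ ∈ Vs D f := fun r hr => by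
      have := cjm (centralizer_le_normalizer _ aC) (L.comm m hm _ hr)
      simpa [mul_assoc] using this
    refine char hF hR hA hQ (mul_mem (mul_mem aC (W_C hF hR hA hm).1) (inv_mem aC))
      ⟨centralizer_le_normalizer _ (mul_mem (mul_mem aC (W_C hF hR hA hm).1) (inv_mem aC)), ?_⟩
      (by rw [conj_pow, W4 hF hR hA hQ hm]; simp) (by rw [h7]; simpa [mul_assoc] using h)
    rintro _ (rfl | rfl)
    · exact k _ (h6 ▸ mul_mem (inv_mem (Ms_W (s_Ms _))) (Q_W (xd_Q 1)))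
    · exact k _ (by rw [mul_assoc, ← h3, inv_mul_cancel_left]; exact Q_W (xe_Q 1))
  refine nrm fun m hm => ind m hm (ind _ ?_ ?_)
  · simpa only [τi] using mul_mem (cjm τn hm) (inv_mem hm)
  · have m1 : τ * m * τ * m⁻¹ ∈ W D f := by simpa only [τi] using mul_mem (cjm τn hm) (inv_mem hm)
    have := L.sq _ (inv_mem m1)
    rw [show τ * (τ * m * τ * m⁻¹) * τ = (τ * m * τ * m⁻¹)⁻¹ by simp [τi, ← mul_assoc, τ2]]
    exact fx (aC _ this).symm (mem_sup_left this)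

theorem lU : Lay (W D f) (Us D f cs) := by
  refine lay_of ?_ ?_ ?_
  · rintro _ (⟨z, rfl⟩ | ⟨z, rfl⟩)
    exacts [P_W hF hR hA (xa_L z), as_W hF hR hA hQ z]
  · rintro _ (⟨z, rfl⟩ | ⟨z, rfl⟩) _ (⟨u, rfl⟩ | ⟨u, rfl⟩)
    exacts [c_of (comm_of_add hF.rel.aa z u), c_of (as_a hF hR hA hQ u z).symm, c_of (as_a hF hR hA hQ z u),
      by simpa only [map_mul, map_inv] using Es hF.rel (hQ.mcomm _ (hQ.cM z) _ (hQ.cM u))]
  · rintro _ (⟨z, rfl⟩ | ⟨z, rfl⟩)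
    exacts [sq_of_add hF.rel.aa z ▸ one_mem _, by simpa only [map_mul] using Es hF.rel (hQ.msq _ (hQ.cM z))]

theorem U8 (hx : x ∈ Us D f cs) : x ^ 2 ^ 3 = 1 := by
  rw [pow_succ' 2, pow_mul, pow_two x, W4 hF hR hA hQ ((lU hF hR hA hQ).sq x hx)]

theorem CU (hx : x ∈ Us D f cs) (e : x * t = t * x) : ∃ q ∈ D.QA, ∃ z, x = q * D.xa z := by
  have h1 : Us D f cs ≤ centralizer (Vs D f : Set G) := Us_ind (fun _ h => (W_C hF hR hA h).1)
    (fun z _ hy => (P_Vs hF hA (L_P (xa_L z)) hy).symm) (as_C hF hR hA hQ)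
  have h2 : Us D f cs ≤ St (Vs D f) {D.xe 1} := Us_ind
    (fun _ h => ⟨(W_St hF hR hA hQ h).1, fun _ e => (W_St hF hR hA hQ h).2 _ (.inr e)⟩)
    (fun z => ⟨centralizer_le_normalizer _ (h1 (a_U z)), by simpa using c_of (hF.rel.ae z 1)⟩)
    fun z => ⟨centralizer_le_normalizer _ (h1 (as_U z)), by simpa using c_of (as_e hF hR hA hQ z 1)⟩
  have hp := K1 hF hR hA e (h1 hx) (U8 hF hR hA hQ hx)
  exact PU2 hF.rel hF.par hp (VsV hF hR hA ((h2 hx).2 _ rfl) (cmt hF hR hA (P_A hF.rel hp) (xe_A hF.rel 1)))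
    (CW hF hR hA hQ ((lU hF hR hA hQ).comm x hx _ (a_U 1)) (cmt hF hR hA (P_A hF.rel hp) (xa_A 1)))

theorem t_U : t ∈ normalizer (Us D f cs : Set G) :=
  nUs (t_W hF hR hA) (fun z => fx (tA hF hR hA (xa_A z)).symm (a_U z)) fun z => by
    rw [inv_eq_of_mul_eq_one_right hR.t2, mul_inv_eq_iff_eq_mul.1 (tr hF hR hA (as_t hF hR hA hQ z))]
    exact mul_mem (a_U z) (as_U z)

theorem act (hn : n ∈ normalizer (W D f : Set G)) (e : n * t = t * n) {z z' u : F4}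
    (e1 : n * D.xc z * n⁻¹ = D.xc z') (e2 : n * D.xe u * n⁻¹ = D.xe 1) : ν D (n * cs z * n⁻¹) ∈ Us D f cs := by
  obtain ⟨t2, t3, t4, t5, e3⟩ := Qe hF.rel hF.par (CW hF hR hA hQ (mul_mem (inv_mem (Ms_W (hQ.cM z')))
    (cjm hn (Ms_W (hQ.cM z)))) (by
      calc _ = (cs z')⁻¹ * (n * (cs z * t) * n⁻¹) := by
            rw [mul_assoc, mul_assoc _ n⁻¹, (show Commute n t from e).inv_left.eq]; group
        _ = (cs z')⁻¹ * (t * D.xc z' * cs z') * (cs z')⁻¹ * (n * cs z * n⁻¹) := by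
            rw [hQ.ct, ← e1, ← mul_assoc t, ← mul_assoc t, ← e]; group
        _ = _ := by rw [← hQ.ct]; group))
    (mc.1 (mul_mem (inv_mem (mc.2 (hQ.ce z' 1))) (mc.2 (by rw [← e2, conj_mul, conj_mul, hQ.ce]))))
  rw [inv_mul_eq_iff_eq_mul.1 e3]
  simp only [map_mul, νcc hF.rel, νd hF.rel, νe hF.rel, νv hF.rel]
  exact mul_mem (as_U _) (mul_mem (mul_mem (mul_mem (a_U _) (mem_sup_left (Q_W (xd_Q _))))
    (mem_sup_left (Q_W (xv_Q _)))) (mem_sup_left (Q_W (xe_Q _))))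

theorem θ_W : ν D D.rho ∈ normalizer (W D f : Set G) := by
  rw [← ν_eq hF.rel, hF.rel.nbr]
  exact mul_mem (pow_mem (r_W hF hR hA) 2) (pow_mem (P_W hF hR hA ha_L) 2)

theorem θa (z : F4) : ν D D.rho * D.xa z = D.xa (om * z) * ν D D.rho := by
  simpa only [map_mul, νcc hF.rel] using congrArg (ν D) (hF.rel.rc z)

theorem θ_U : ν D D.rho ∈ normalizer (Us D f cs : Set G) :=
  nUs (θ_W hF hR hA hQ) (fun z => fx (θa hF hR hA hQ z) (a_U _)) fun z => by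
    simpa only [map_mul, map_inv] using act hF hR hA hQ (r_W hF hR hA) (tA hF hR hA rho_A) (u := om ^ 2)
      (conj_of_eq (hF.rel.rc z)) (by rw [conj_of_eq (hF.rel.re _)]; congr 1)

theorem nmW : ∀ x ∈ W D f, Nm D.rho x ∈ Vs D f :=
  (lW hF hR hA hQ).nm (r_W hF hR hA) (r_Vs hF hR hA) fun _ hV h => W_ind (Ms_ind hV fun l hl β =>
    h _ (Ms_W (Ms_conj hF hA hl (s_Ms β))) (nm_add (r := fun β => l * sE D f β * l⁻¹) (fun a b => by
      simp only [conj_mul, ← νf hF.rel, ← map_mul, hQ.f_add]) (.inl rfl) (fun β => by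
        rw [← rho_s hF hA, ← mul_assoc, ← mul_assoc, r_L hF hR hA hl, mul_assoc _ l⁻¹,
          ← r_L hF hR hA (inv_mem hl)]; group) β))
    (Q_ind (fun z => h _ (Q_W (xb_Q z)) (nm_add hF.rel.bb (.inl rfl) hF.rel.rb z))
      (fun z => h _ (Q_W (xc_Q z)) (nm_add hF.rel.cc (.inl rfl) hF.rel.rc z))
      (fun z => h _ (Q_W (xd_Q z)) (nm_add hF.rel.dd (.inl rfl) hF.rel.rd z))
      (fun z => h _ (Q_W (xe_Q z)) (nm_add hF.rel.ee (.inl rfl) hF.rel.re z)) fun z => hV (v_Vs z))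

theorem exists_ru : RU D t (Us D f cs) where
  aU := a_U
  qU := Q_W.trans le_sup_left
  two x := ⟨3, Subtype.ext (U8 hF hR hA hQ x.2)⟩
  tn := t_U hF hR hA hQ
  cU x hx e := by
    obtain ⟨q, hq, z, rfl⟩ := CU hF hR hA hQ hx e
    exact mul_mem (P_A hF.rel (Q_P hq)) (xa_A z)
  inv := (lU hF hR hA hQ).step (iW hF hR hA hQ) hR.t2 (tt hF hR hA (t_U hF hR hA hQ)) fun H hW h r hr e => by
    obtain ⟨q, hq, z, rfl⟩ := CU hF hR hA hQ hr e
    exact mul_mem (hW (Q_W hq)) (tr hF hR hA (as_t hF hR hA hQ z) ▸ h _ (as_U z))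
  fn g gt hg := nUs (g_W hF hR hA gt hg) (fun z => (hg.1 z).1 ▸ a_U _) fun z => by
    simpa only [map_mul, map_inv, ν_of hg.2.2.symm] using act hF hR hA hQ (g_W hF hR hA gt hg) gt (u := 1)
      (hg.1 z).2.2.1 (by rw [(hg.1 1).2.2.2.2.1, one_pow])
  finv g _ hg gg := (lU hF hR hA hQ).free ((lW hF hR hA hQ).free ((lV hF hR hA).free inv_bot gg hF.rel.r3
      (frob_rho hF.rel hg) (r_Vs hF hR hA) (nmV hF hR hA)) gg hF.rel.r3 (frob_rho hF.rel hg) (r_W hF hR hA)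
      (nmW hF hR hA hQ)) gg (by rw [← map_pow, hF.rel.r3, map_one])
    (by simpa only [map_mul, map_inv, ν_of hg.2.2.symm] using congrArg (ν D) (frob_rho hF.rel hg)) (θ_U hF hR hA hQ)
    ((lU hF hR hA hQ).nm (θ_U hF hR hA hQ) (θ_W hF hR hA hQ) fun _ hW h => Us_ind hW
      (fun z => h _ (a_U z) (nm_add hF.rel.aa (.inl rfl) (θa hF hR hA hQ) z)) fun z => h _ (as_U z) (by
        simpa only [Nm, map_mul, map_inv] using Es hF.rel (nmW hF hR hA hQ _ (Ms_W (hQ.cM z)))))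

omit hF hR hA hQ in
theorem ru : RUStmt.{u} := fun _ _ _ _ _ _ _ _ _ _ hF hR hA hQ => ⟨_, exists_ru hF hR hA hQ⟩

end Cfsg.Agent.H21.RU
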