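import Cfsg.Agent.H42.ASDefs
import Cfsg.Agent.H30.OrthNonMax

/-!
# Two conjugate extraspecial groups with the same centre
-/

set_option autoImplicit false
set_option linter.unusedSectionVars false

namespace Cfsg.Agent.H21.TQ

open Subgroup H30 H42.AS QuadraticMap Module

universe u

variable {G : Type u} [Group G] {ι : Type} [Fintype ι] [DecidableEq ι]
  {q : QuadraticForm (ZMod 2) (ι → ZMod 2)}

/-- One extraspecial group with its form. -/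
structure B (q : QuadraticForm (ZMod 2) (ι → ZMod 2)) (z : G) (Q : Subgroup G) (π : G → ι → ZMod 2) : Prop where
  z2 : orderOf z = 2
  zQ : z ∈ Q
  π_mul : ∀ a ∈ Q, ∀ b ∈ Q, π (a * b) = π a + π b
  π_ker : ∀ a ∈ Q, π a = 0 ↔ a = 1 ∨ a = z
  π_surj : ∀ x, ∃ a ∈ Q, π a = x
  sq : ∀ a ∈ Q, a * a = z ^ (q (π a)).val
  comm : ∀ a ∈ Q, ∀ b ∈ Q, a * b = z ^ (polar q (π a) (π b)).val * (b * a)

/-- The action of the normalizer and the local property. -/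
structure S (z : G) (Q : Subgroup G) (π : G → ι → ZMod 2) (Ψ : G → O q) : Prop extends B q z Q π where
  act : ∀ g, g * z = z * g → g ∈ normalizer (Q : Set G) → ∀ a ∈ Q, π (g * a * g⁻¹) = (Ψ g).1 (π a)
  ev : ∀ g, g * z = z * g → g ∈ normalizer (Q : Set G) → Even (finrank (ZMod 2) (movSp (Ψ g)))
  ker : ∀ g, g * z = z * g → g ∈ normalizer (Q : Set G) → g * g = 1 → Ψ g = 1 → g ∈ Q
  loc : ∀ w ∈ Q, π w ≠ 0 → q (π w) = 0 → ∀ g, g * z = z * g → g * w * g⁻¹ = w ∨ g * w * g⁻¹ = w * z →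
    g ∈ normalizer (Q : Set G)

theorem vv (v : ι → ZMod 2) : v + v = 0 := funext fun _ => CharTwo.add_self_eq_zero _

theorem vsub (v w : ι → ZMod 2) : v - w = v + w := funext fun _ => CharTwo.sub_eq_add _ _

theorem cjm {Q : Subgroup G} {g a : G} (hg : g ∈ normalizer (Q : Set G)) (ha : a ∈ Q) : g * a * g⁻¹ ∈ Q :=
  (mem_normalizer_iff.1 hg a).1 ha

variable {z : G} {Q Q' : Subgroup G} {π π' : G → ι → ZMod 2} {Ψ Ψ' : G → O q} {a b g x y : G}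

namespace B

theorem zz (h : B q z Q π) : z * z = 1 := by rw [← pow_two, ← h.z2, pow_orderOf_eq_one]

theorem πz (h : B q z Q π) : π z = 0 := (h.π_ker z h.zQ).2 (.inr rfl)

theorem cz (h : B q z Q π) (ha : a ∈ Q) : a * z = z * a := by
  simpa [h.πz] using h.comm a ha z h.zQ

theorem π_inv (h : B q z Q π) (ha : a ∈ Q) : π a⁻¹ = π a := by
  have := h.π_mul _ (inv_mem ha) _ ha
  rw [inv_mul_cancel, (h.π_ker 1 (one_mem _)).2 (.inl rfl)] at this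
  rw [eq_neg_of_add_eq_zero_left this.symm, neg_eq_of_add_eq_zero_left (vv _)]

theorem π_eq (h : B q z Q π) (ha : a ∈ Q) (hb : b ∈ Q) : π a = π b ↔ a = b ∨ a = b * z := by
  rw [← sub_eq_zero, vsub, add_comm, ← h.π_inv hb, ← h.π_mul _ (inv_mem hb) _ ha,
    h.π_ker _ (mul_mem (inv_mem hb) ha), inv_mul_eq_one, inv_mul_eq_iff_eq_mul, eq_comm]

theorem sq1 (h : B q z Q π) (ha : a ∈ Q) : a * a = 1 ↔ q (π a) = 0 := by
  rw [h.sq a ha, ← orderOf_dvd_iff_pow_eq_one, h.z2]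
  generalize q (π a) = t
  revert t; decide

theorem swap (h : B q z Q π) (az : a * z = z * a) (gz : g * z = z * g)
    (e : g * a * g⁻¹ = a ∨ g * a * g⁻¹ = a * z) : a * g * a⁻¹ = g ∨ a * g * a⁻¹ = g * z := by
  refine e.imp (fun e => by rw [← mul_inv_eq_iff_eq_mul.1 e]; group) fun e => ?_
  calc a * g * a⁻¹ = a * (z * z) * g * a⁻¹ := by rw [h.zz, mul_one]
    _ = (a * z * g) * z * a⁻¹ := by rw [mul_assoc (a * z), gz]; group
    _ = g * (a * z) * a⁻¹ := by rw [show a * z * g = g * a by rw [← e]; group, mul_assoc g]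
    _ = g * z := by rw [az]; group

theorem conj_Q (h : B q z Q π) (ha : a ∈ Q) (hb : b ∈ Q) : a * b * a⁻¹ = b ∨ a * b * a⁻¹ = b * z := by
  rw [← h.π_eq (mul_mem (mul_mem ha hb) (inv_mem ha)) hb, h.π_mul _ (mul_mem ha hb) _ (inv_mem ha),
    h.π_mul _ ha _ hb, h.π_inv ha, add_right_comm, vv, zero_add]

end B

namespace S

theorem fix_iff (h : S z Q π Ψ) (gz : g * z = z * g) (hg : g ∈ normalizer (Q : Set G)) (ha : a ∈ Q) :
    π a ∈ fixSp (Ψ g) ↔ g * a * g⁻¹ = a ∨ g * a * g⁻¹ = a * z := by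
  rw [mem_fixSp, ← h.act g gz hg a ha, h.π_eq (cjm hg ha) ha]

theorem inv2 (h : S z Q π Ψ) (gz : g * z = z * g) (hg : g ∈ normalizer (Q : Set G)) (g2 : g * g = 1)
    (v : ι → ZMod 2) : (Ψ g).1 ((Ψ g).1 v) = v := by
  obtain ⟨a, ha, rfl⟩ := h.π_surj v
  rw [← h.act g gz hg a ha, ← h.act g gz hg _ (cjm hg ha),
    show g * (g * a * g⁻¹) * g⁻¹ = g * g * a * (g * g)⁻¹ by group, g2, one_mul, inv_one, mul_one]

theorem mov_le (h : S z Q π Ψ) (gz : g * z = z * g) (hg : g ∈ normalizer (Q : Set G)) (g2 : g * g = 1) :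
    movSp (Ψ g) ≤ fixSp (Ψ g) := fun v hv => by
  obtain ⟨w, rfl⟩ := mem_movSp.1 hv
  rw [mem_fixSp, map_sub, h.inv2 gz hg g2, vsub, vsub, add_comm]

theorem inverts (h : S z Q π Ψ) (gz : g * z = z * g) (hg : g ∈ normalizer (Q : Set G)) (g2 : g * g = 1)
    (hb : b ∈ Q) (hm : π b ∈ movSp (Ψ g)) : g * b * g⁻¹ = b⁻¹ := by
  obtain ⟨w, e⟩ := mem_movSp.1 hm
  obtain ⟨a, ha, rfl⟩ := h.π_surj w
  have gi : g⁻¹ = g := inv_eq_of_mul_eq_one_right g2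
  have e1 : g * (g * a * g⁻¹ * a⁻¹) * g⁻¹ = (g * a * g⁻¹ * a⁻¹)⁻¹ := by
    calc _ = (g * g) * a * g⁻¹ * a⁻¹ * g⁻¹ := by group
      _ = a * g * a⁻¹ * g⁻¹ := by rw [g2, one_mul, gi]
      _ = _ := by group
  rw [vsub, ← h.act g gz hg a ha, ← h.π_inv ha, ← h.π_mul _ (cjm hg ha) _ (inv_mem ha), eq_comm,
    h.π_eq hb (mul_mem (cjm hg ha) (inv_mem ha))] at e
  rcases e with rfl | rfl
  · exact e1
  · generalize hs : g * a * g⁻¹ * a⁻¹ = s at e1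
    have sz : s⁻¹ * z = z * s⁻¹ := h.cz (hs ▸ inv_mem (mul_mem (cjm hg ha) (inv_mem ha)))
    calc g * (s * z) * g⁻¹ = g * s * g⁻¹ * (g * z * g⁻¹) := by group
      _ = _ := by rw [e1, gz, mul_inv_cancel_right, sz, mul_inv_rev, inv_eq_of_mul_eq_one_right h.zz]

end S

/-- A singular element of `Q'` normalizing `Q`. -/
structure Sg (q : QuadraticForm (ZMod 2) (ι → ZMod 2)) (Q Q' : Subgroup G) (π' : G → ι → ZMod 2) (y : G) :
    Prop where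
  mem : y ∈ Q'
  ne : π' y ≠ 0
  sing : q (π' y) = 0
  nor : y ∈ normalizer (Q : Set G)

/-- The pair. -/
structure P (z : G) (Q Q' : Subgroup G) (π π' : G → ι → ZMod 2) (Ψ Ψ' : G → O q) : Prop where
  hq : (polarBilin q).Nondegenerate
  six : 6 ≤ Fintype.card ι
  l : S z Q π Ψ
  r : S z Q' π' Ψ'
  an : ∀ w ∈ Q, w ∈ Q' → w * w = 1 → w = 1 ∨ w = z

namespace P

theorem symm (h : P z Q Q' π π' Ψ Ψ') : P z Q' Q π' π Ψ' Ψ := ⟨h.hq, h.six, h.r, h.l, fun w a b => h.an w b a⟩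

theorem y2 (h : P z Q Q' π π' Ψ Ψ') (hy : Sg q Q Q' π' y) : y * y = 1 := (h.r.sq1 hy.mem).2 hy.sing

theorem mov_le (h : P z Q Q' π π' Ψ Ψ') (hy : Sg q Q Q' π' y) : movSp (Ψ y) ≤ fixSp (Ψ y) :=
  h.l.mov_le (h.r.cz hy.mem) hy.nor (h.y2 hy)

theorem ne_top (h : P z Q Q' π π' Ψ Ψ') (hy : Sg q Q Q' π' y) : ∃ v, v ∉ fixSp (Ψ y) := by
  by_contra! e
  exact hy.ne ((h.r.π_ker y hy.mem).2 (h.an y (h.l.ker y (h.r.cz hy.mem) hy.nor (h.y2 hy)
    (O_ext fun v => mem_fixSp.1 (e v))) hy.mem (h.y2 hy)))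

theorem nor (h : P z Q Q' π π' Ψ Ψ') (hy : Sg q Q Q' π' y) (ha : a ∈ Q) (hf : π a ∈ fixSp (Ψ y)) :
    a ∈ normalizer (Q' : Set G) :=
  h.r.loc y hy.mem hy.ne hy.sing a (h.l.cz ha) (h.l.swap (h.l.cz ha) (h.r.cz hy.mem)
    ((h.l.fix_iff (h.r.cz hy.mem) hy.nor ha).1 hf))

theorem fixI (h : P z Q Q' π π' Ψ Ψ') (hy : Sg q Q Q' π' y) (ha : a ∈ Q) (ha' : a ∈ Q') : π a ∈ fixSp (Ψ y) :=
  (h.l.fix_iff (h.r.cz hy.mem) hy.nor ha).2 (h.r.conj_Q hy.mem ha')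

theorem perp_mov (h : P z Q Q' π π' Ψ Ψ') {v w : ι → ZMod 2} (hv : v ∈ movSp (Ψ y)) (hw : w ∈ fixSp (Ψ y)) :
    polar q v w = 0 := mem_perp.1 ((perp_movSp h.hq _).ge hw) v hv

theorem exists_x (h : P z Q Q' π π' Ψ Ψ') (hy : Sg q Q Q' π' y) : ∃ x, Sg q Q' Q π x ∧ π x ∈ movSp (Ψ y) ∧
    ∀ b ∈ Q', b ∈ normalizer (Q : Set G) → π' b ∈ fixSp (Ψ' x) := by
  obtain ⟨v, hv, v0, vs⟩ : ∃ v ∈ movSp (Ψ y), v ≠ 0 ∧ q v = 0 := by
    by_contra! e
    obtain ⟨c, hc⟩ := h.ne_top hy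
    have c0 : (Ψ y).1 c - c ≠ 0 := fun e => hc (mem_fixSp.2 (sub_eq_zero.1 e))
    have cm : (Ψ y).1 c - c ∈ movSp (Ψ y) := mem_movSp.2 ⟨c, rfl⟩
    have e1 : movSp (Ψ y) = (ZMod 2) ∙ ((Ψ y).1 c - c) := le_antisymm (fun w hw => by
      by_cases w0 : w = 0
      · exact w0 ▸ Submodule.zero_mem _
      have : w - ((Ψ y).1 c - c) = 0 := by
        by_contra n
        refine e _ (sub_mem hw cm) n ?_
        have h1 := e w hw w0
        have h2 := e _ cm c0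
        rw [Q_sub, h.perp_mov hw (h.mov_le hy cm)]
        generalize q w = s at h1
        generalize q _ = t at h2
        revert s t; decide
      exact sub_eq_zero.1 this ▸ Submodule.mem_span_singleton_self _)
      ((Submodule.span_singleton_le_iff_mem _ _).2 cm)
    have := h.l.ev y (h.r.cz hy.mem) hy.nor
    rw [e1, finrank_span_singleton c0] at this
    exact absurd this (by decide)
  obtain ⟨x, hx, rfl⟩ := h.l.π_surj v
  have sx : Sg q Q' Q π x := ⟨hx, v0, vs, h.nor hy hx (h.mov_le hy hv)⟩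
  refine ⟨x, sx, hv, fun b hb bn => ?_⟩
  have x2 := h.symm.y2 sx
  have xi : x⁻¹ = x := inv_eq_of_mul_eq_one_right x2
  have i1 : b * x * b⁻¹ * x⁻¹ ∈ Q := mul_mem (cjm bn hx) (inv_mem hx)
  have i2 : b * x * b⁻¹ * x⁻¹ ∈ Q' := by
    simpa only [mul_assoc] using mul_mem hb (cjm sx.nor (inv_mem hb))
  have c := h.l.comm x hx _ i1
  rw [h.perp_mov hv (h.fixI hy i1 i2), ZMod.val_zero, pow_zero, one_mul] at c
  have := h.an _ i1 i2 (by
    calc _ = b * x * b⁻¹ * x⁻¹ * ((b * x * b⁻¹ * x⁻¹ * x) * x⁻¹) := by group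
      _ = b * (x * x) * b⁻¹ * (x * x)⁻¹ := by rw [← c]; group
      _ = 1 := by rw [x2]; group)
  refine (h.r.fix_iff (h.l.cz hx) sx.nor hb).2 (h.l.swap (h.l.cz hx) (h.r.cz hb) (this.imp
    (fun e => mul_inv_eq_one.1 e) fun e => ?_))
  rw [h.l.cz hx, ← e]; group

theorem full (h : P z Q Q' π π' Ψ Ψ') (hy : Sg q Q Q' π' y) (ha : a ∈ Q) (an : a ∈ normalizer (Q' : Set G)) :
    π a ∈ fixSp (Ψ y) := by
  obtain ⟨x, sx, -, -⟩ := h.exists_x hy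
  obtain ⟨y0, s0, -, h0⟩ := h.symm.exists_x sx
  have le : fixSp (Ψ y) ≤ fixSp (Ψ y0) := fun v hv => by
    obtain ⟨b, hb, rfl⟩ := h.l.π_surj v
    exact h0 b hb (h.nor hy hb hv)
  by_contra n
  have k : ∀ b ∈ Q, b ∈ normalizer (Q' : Set G) → π b ∉ fixSp (Ψ y) →
      y * b * y⁻¹ * b⁻¹ ∈ Q ∧ y * b * y⁻¹ * b⁻¹ ∈ Q' ∧ π (y * b * y⁻¹ * b⁻¹) = (Ψ y).1 (π b) - π b ∧
        q ((Ψ y).1 (π b) - π b) ≠ 0 := fun b hb bn nb => by
    have i1 : y * b * y⁻¹ * b⁻¹ ∈ Q := mul_mem (cjm hy.nor hb) (inv_mem hb)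
    have i2 : y * b * y⁻¹ * b⁻¹ ∈ Q' := by
      simpa only [mul_assoc] using mul_mem hy.mem (cjm bn (inv_mem hy.mem))
    have e : π (y * b * y⁻¹ * b⁻¹) = (Ψ y).1 (π b) - π b := by
      rw [h.l.π_mul _ (cjm hy.nor hb) _ (inv_mem hb), h.l.π_inv hb, h.l.act y (h.r.cz hy.mem) hy.nor b hb, vsub]
    exact ⟨i1, i2, e, fun e' => nb (mem_fixSp.2 (sub_eq_zero.1 (e ▸ (h.l.π_ker _ i1).2
      (h.an _ i1 i2 ((h.l.sq1 i1).2 (e ▸ e'))))))⟩
  have ge : fixSp (Ψ y0) ≤ fixSp (Ψ y) ⊔ (ZMod 2) ∙ π a := fun v hv => by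
    by_cases e : v ∈ fixSp (Ψ y)
    · exact Submodule.mem_sup_left e
    obtain ⟨b, hb, rfl⟩ := h.l.π_surj v
    obtain ⟨a1, a2, a3, a4⟩ := k a ha an n
    obtain ⟨b1, b2, b3, b4⟩ := k b hb (h.nor s0 hb hv) e
    have m := mul_mem b1 a1
    have e1 := (h.l.π_ker _ m).2 (h.an _ m (mul_mem b2 a2) ((h.l.sq1 m).2 (by
      rw [h.l.π_mul _ b1 _ a1, a3, b3, Q_add, h.perp_mov (mem_movSp.2 ⟨_, rfl⟩) (h.mov_le hy (mem_movSp.2 ⟨_, rfl⟩))]
      generalize q ((Ψ y).1 (π a) - π a) = s at a4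
      generalize q ((Ψ y).1 (π b) - π b) = t at b4
      revert s t; decide)))
    rw [h.l.π_mul _ b1 _ a1, a3, b3] at e1
    rw [← sub_add_cancel (π b) (π a)]
    refine Submodule.add_mem_sup (mem_fixSp.2 ?_) (Submodule.mem_span_singleton_self _)
    rw [map_sub, ← sub_eq_zero, ← e1, vsub, vsub, vsub, vsub, vsub]; abel
  have d1 := Submodule.finrank_lt_finrank_of_lt (lt_of_le_of_ne le fun e => n (e ▸ h0 a ha an))
  have d2 := (Submodule.finrank_mono ge).trans (Submodule.finrank_add_le_finrank_add_finrank _ _)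
  rw [finrank_span_singleton fun e : π a = 0 => n (e ▸ Submodule.zero_mem _)] at d2
  have d3 := finrank_movSp_add_finrank_fixSp (Ψ y)
  have d4 := finrank_movSp_add_finrank_fixSp (Ψ y0)
  obtain ⟨_, d5⟩ := h.l.ev y (h.r.cz hy.mem) hy.nor
  obtain ⟨_, d6⟩ := h.l.ev y0 (h.r.cz s0.mem) s0.nor
  omega

theorem fix_eq (h : P z Q Q' π π' Ψ Ψ') (hy : Sg q Q Q' π' y) {y' : G} (hy' : Sg q Q Q' π' y') :
    fixSp (Ψ y) = fixSp (Ψ y') := by
  ext v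
  obtain ⟨b, hb, rfl⟩ := h.l.π_surj v
  exact ⟨fun e => h.full hy' hb (h.nor hy hb e), fun e => h.full hy hb (h.nor hy' hb e)⟩

theorem mov_eq (h : P z Q Q' π π' Ψ Ψ') (hy : Sg q Q Q' π' y) {y' : G} (hy' : Sg q Q Q' π' y') :
    movSp (Ψ y) = movSp (Ψ y') := by rw [← perp_fixSp h.hq, h.fix_eq hy hy', perp_fixSp h.hq]

theorem ts (h : P z Q Q' π π' Ψ Ψ') (hy : Sg q Q Q' π' y) {v : ι → ZMod 2} (hv : v ∈ movSp (Ψ y)) : q v = 0 := by
  obtain ⟨x, sx, -, -⟩ := h.exists_x hy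
  obtain ⟨s, ss, sm, -⟩ := h.symm.exists_x sx
  obtain ⟨w, hw⟩ := exists_polar_ne_zero h.hq ss.ne
  obtain ⟨v', ⟨h1, h2⟩, h3, h4⟩ := exists_singular_mem q (fixSp (Ψ' x) ⊓ perp q ((ZMod 2) ∙ w)) (by
    have d1 := finrank_inf_perp_singleton (Q := q) (fixSp (Ψ' x)) w
    have d2 := finrank_movSp_add_finrank_fixSp (Ψ' x)
    have d3 := Submodule.finrank_mono (h.symm.mov_le sx)
    obtain ⟨_, d4⟩ := h.r.ev x (h.l.cz sx.mem) sx.nor
    have := h.six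
    rw [finrank_fintype_fun_eq_card] at d2
    omega)
  obtain ⟨t, ht, rfl⟩ := h.r.π_surj v'
  have st : Sg q Q Q' π' t := ⟨ht, h3, h4, h.symm.nor sx ht h1⟩
  have sst : Sg q Q Q' π' (s * t) := ⟨mul_mem ss.mem ht, fun e => hw (by
      rw [h.r.π_mul _ ss.mem _ ht, ← vsub, sub_eq_zero] at e
      rw [e, polar_comm]; exact mem_perp_singleton.1 h2),
    by rw [h.r.π_mul _ ss.mem _ ht, Q_add, ss.sing, h4, h.symm.perp_mov sm h1]; simp, mul_mem ss.nor st.nor⟩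
  obtain ⟨b, hb, rfl⟩ := h.l.π_surj v
  have i : ∀ y', Sg q Q Q' π' y' → y' * b * y'⁻¹ = b⁻¹ := fun y' hy' =>
    h.l.inverts (h.r.cz hy'.mem) hy'.nor (h.y2 hy') hb (h.mov_eq hy hy' ▸ hv)
  refine (h.l.sq1 hb).1 (mul_eq_one_iff_eq_inv.2 ?_)
  calc b = (s * b * s⁻¹)⁻¹ := by rw [i s ss, inv_inv]
    _ = s * (t * b * t⁻¹) * s⁻¹ := by rw [i t st]; group
    _ = _ := by rw [← i _ sst]; group

theorem card_lt (h : P z Q Q' π π' Ψ Ψ') (hy : Sg q Q Q' π' y) (hx : Sg q Q' Q π x) :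
    Nat.card (movSp (Ψ' x)) < Nat.card (movSp (Ψ y)) := by
  obtain ⟨c, hc⟩ := h.ne_top hy
  choose ℓ l1 l2 using h.r.π_surj
  have ln : ∀ v ∈ movSp (Ψ' x), ℓ v ∈ normalizer (Q : Set G) := fun v hv =>
    h.symm.nor hx (l1 v) ((l2 v).symm ▸ h.symm.mov_le hx hv)
  obtain ⟨c, cQ, rfl⟩ := h.l.π_surj c
  have m : ∀ v ∈ movSp (Ψ' x), (Ψ (ℓ v)).1 (π c) - π c ∈ movSp (Ψ y) := fun v hv => by
    by_cases e : v = 0
    · have : π c ∈ fixSp (Ψ (ℓ v)) := (h.l.fix_iff (h.r.cz (l1 v)) (ln v hv) cQ).2 (h.l.conj_Q (by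
        rcases (h.r.π_ker _ (l1 v)).1 ((l2 v).trans e) with e | e <;> rw [e]
        exacts [one_mem _, h.l.zQ]) cQ)
      rw [mem_fixSp.1 this, sub_self]; exact zero_mem _
    · exact h.mov_eq ⟨l1 v, (l2 v).symm ▸ e, (l2 v).symm ▸ h.symm.ts hx hv, ln v hv⟩ hy ▸ mem_movSp.2 ⟨_, rfl⟩
  have lt : movSp (Ψ y) ⊓ perp q ((ZMod 2) ∙ π c) < movSp (Ψ y) := lt_of_le_of_ne inf_le_left fun e => hc (by
    rw [← perp_movSp h.hq, ← Submodule.span_singleton_le_iff_mem, le_perp_comm]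
    exact e.ge.trans inf_le_right)
  refine lt_of_le_of_lt (Nat.card_le_card_of_injective (β := ↥(movSp (Ψ y) ⊓ perp q ((ZMod 2) ∙ π c)))
    (fun v => ⟨_, m v v.2, mem_perp_singleton.2 ?_⟩) fun v w e => Subtype.ext ?_)
    (Set.Finite.card_lt_card (Set.toFinite _) lt)
  · have := h.ts hy (m v v.2)
    rw [Q_sub, O_map, CharTwo.add_self_eq_zero, zero_sub, neg_eq_zero] at this
    rw [polar_sub_right, polar_comm, this, polar_self', show (2 : ZMod 2) = 0 from rfl, zero_mul, sub_zero]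
  · by_contra n
    have e1 : (Ψ (ℓ v)).1 (π c) = (Ψ (ℓ w)).1 (π c) := sub_left_injective (congrArg Subtype.val e)
    have s : Sg q Q Q' π' (ℓ v * ℓ w) := ⟨mul_mem (l1 v) (l1 w),
      by rw [h.r.π_mul _ (l1 v) _ (l1 w), l2, l2, ← vsub]; exact sub_ne_zero.2 n,
      by rw [h.r.π_mul _ (l1 v) _ (l1 w), l2, l2]; exact h.symm.ts hx (add_mem v.2 w.2),
      mul_mem (ln v v.2) (ln w w.2)⟩
    refine hc (h.fix_eq s hy ▸ mem_fixSp.2 ?_)
    rw [← h.l.act _ (h.r.cz s.mem) s.nor c cQ, show ℓ v * ℓ w * c * (ℓ v * ℓ w)⁻¹ =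
      ℓ v * (ℓ w * c * (ℓ w)⁻¹) * (ℓ v)⁻¹ by group, h.l.act _ (h.r.cz (l1 v)) (ln v v.2) _ (cjm (ln w w.2) cQ),
      h.l.act _ (h.r.cz (l1 w)) (ln w w.2) c cQ, ← e1,
      h.l.inv2 (h.r.cz (l1 v)) (ln v v.2) ((h.r.sq1 (l1 v)).2 ((l2 v).symm ▸ h.symm.ts hx v.2))]

theorem not_sg (h : P z Q Q' π π' Ψ Ψ') : ¬ Sg q Q Q' π' y := fun hy =>
  let ⟨_, sx, _⟩ := h.exists_x hy
  lt_asymm (h.card_lt hy sx) (h.symm.card_lt sx hy)

end P

theorem s_of {hq : (polarBilin q).Nondegenerate} {v0 : G} {Od : Subgroup G} [Finite G] (h6 : 6 ≤ Fintype.card ι)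
    (h : QC hq z v0 Q Od π Ψ) : S z Q π Ψ ∧ ∀ w ∈ Q, π w ≠ 0 → q (π w) = 0 →
      ∃ g, g * z = z * g ∧ g ∈ normalizer (Q : Set G) ∧ π (g * v0 * g⁻¹) = π w := by
  have m : ∀ g, g * z = z * g → g ∈ normalizer (Q : Set G) → g ∈ centralizer {z} ⊓ normalizer (Q : Set G) :=
    fun g a b => ⟨mem_centralizer_singleton_iff.2 a, b⟩
  have tr : ∀ w ∈ Q, π w ≠ 0 → q (π w) = 0 →
      ∃ g, g * z = z * g ∧ g ∈ normalizer (Q : Set G) ∧ π (g * v0 * g⁻¹) = π w := fun w _ w0 ws => by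
    obtain ⟨k, hk, e⟩ := exists_kerDS_apply_eq hq (by rw [finrank_fintype_fun_eq_card]; omega) h.v_ne w0
      (h.v_sing.trans ws.symm)
    obtain ⟨g, hg, rfl⟩ := h.Ψ_surj k hk
    exact ⟨g, mem_centralizer_singleton_iff.1 hg.1, hg.2, (h.act g hg v0 h.vQ).trans e⟩
  have b : B q z Q π := ⟨h.z2, h.zQ, h.π_mul, h.π_ker, h.π_surj, h.sq, h.comm⟩
  refine ⟨⟨b, fun g a b => h.act g (m g a b), fun g a b => ?_, fun g g1 g2 g3 g4 => ?_,
    fun w hw w0 ws g gz e => ?_⟩, tr⟩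
  · have := ((mem_kerDS hq).1 (h.Ψ_mem g (m g a b))).1
    rw [dickson_apply] at this
    by_contra h1
    rw [(Nat.not_even_iff_odd.1 h1).neg_one_pow] at this
    simp at this
  · obtain ⟨a, ha, o, ho, rfl⟩ := h.Ψ_ker g (m g g1 g2) g4
    have c : Commute a o := (h.OQ o ho a ha).symm
    have a4 : a ^ 4 = 1 := by
      rw [show a ^ 4 = a * a * (a * a) by simp only [pow_succ, pow_zero, one_mul, mul_assoc], h.sq a ha,
        ← pow_add, ← two_mul, pow_mul, pow_two, b.zz, one_pow]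
    have o4 : o ^ 4 = 1 := by
      have := c.mul_pow 4
      rwa [a4, one_mul, show 4 = 2 * 2 from rfl, pow_mul, pow_two (a * o), g3, one_pow, eq_comm] at this
    rw [orderOf_eq_one_iff.1 (Nat.eq_one_of_dvd_coprimes ((Nat.coprime_two_left.2 h.odd).pow_left 2)
      (orderOf_dvd_of_pow_eq_one o4) (Od.orderOf_dvd_natCard ho)), mul_one]
    exact ha
  · obtain ⟨k, kz, kn, e1⟩ := tr w hw w0 ws
    have cz : ∀ g x, g * z = z * g → g * (x * z) * g⁻¹ = g * x * g⁻¹ * z := fun g x gz => by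
      rw [← mul_assoc, mul_assoc _ z, (show Commute g z from gz).inv_left.eq.symm, ← mul_assoc]
    have e2 : g * (k * v0 * k⁻¹) * g⁻¹ = k * v0 * k⁻¹ ∨ g * (k * v0 * k⁻¹) * g⁻¹ = k * v0 * k⁻¹ * z := by
      rcases (b.π_eq (cjm kn h.vQ) hw).1 e1 with e1 | e1 <;> rw [e1]
      · exact e
      · rw [cz g w gz]; exact e.imp (fun e => by rw [e]) fun e => by rw [e]
    have := h.loc (k⁻¹ * g * k) (((show Commute k z from kz).inv_left.mul_left gz).mul_left kz) (e2.imp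
      (fun e => by rw [show k⁻¹ * g * k * v0 * (k⁻¹ * g * k)⁻¹ = k⁻¹ * (g * (k * v0 * k⁻¹) * g⁻¹) * k by group, e]; group)
      fun e => by
        rw [show k⁻¹ * g * k * v0 * (k⁻¹ * g * k)⁻¹ = k⁻¹ * (g * (k * v0 * k⁻¹) * g⁻¹) * k by group, e, ← cz k v0 kz]
        group)
    simpa [mul_assoc] using mul_mem (mul_mem kn this) (inv_mem kn)

theorem S.comap (h : S z Q π Ψ) (f : G ≃* G) (hf : f z = z) :
    S z (Q.comap f.toMonoidHom) (fun a => π (f a)) fun g => Ψ (f g) := by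
  have n : ∀ g, g ∈ normalizer (Q.comap f.toMonoidHom : Set G) ↔ f g ∈ normalizer (Q : Set G) := fun g => by
    rw [← comap_normalizer_eq_of_surjective Q f.surjective]; rfl
  have c : ∀ g, g * z = z * g → f g * z = z * f g := fun g e => by rw [← hf, ← map_mul, e, map_mul]
  refine ⟨⟨h.z2, show f z ∈ Q from hf.symm ▸ h.zQ, fun a ha b hb => by rw [map_mul, h.π_mul (f a) ha (f b) hb],
    fun a ha => by rw [h.π_ker (f a) ha, f.map_eq_one_iff, ← f.injective.eq_iff (a := a) (b := z), hf], fun x => ?_,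
    fun a ha => f.injective (by rw [map_mul, map_pow, hf, h.sq (f a) ha]),
    fun a ha b hb => f.injective (by rw [map_mul, map_mul, map_mul, map_pow, hf, h.comm (f a) ha (f b) hb])⟩,
    fun g g1 g2 a ha => by rw [map_mul, map_mul, map_inv, h.act _ (c g g1) ((n g).1 g2) (f a) ha],
    fun g g1 g2 => h.ev _ (c g g1) ((n g).1 g2),
    fun g g1 g2 g3 => h.ker _ (c g g1) ((n g).1 g2) (by rw [← map_mul, g3, map_one]),
    fun w hw w0 ws g g1 e => (n g).2 (h.loc (f w) hw w0 ws _ (c g g1) (e.imp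
      (fun e => by rw [← map_inv, ← map_mul, ← map_mul, e])
      fun e => by rw [← map_inv, ← map_mul, ← map_mul, e, map_mul, hf]))⟩
  obtain ⟨a, ha, e⟩ := h.π_surj x
  obtain ⟨a, rfl⟩ := f.surjective a
  exact ⟨a, ha, e⟩

theorem tq : TQStmt.{u} := by
  intro G _ _ ι _ _ q hq z v0 Q Od π Ψ h6 h c cz cn
  by_contra hn
  obtain ⟨s, tr⟩ := s_of h6 h
  have cz' : c⁻¹ * z = z * c⁻¹ := (show Commute c z from cz).inv_left
  have e : MulAut.conj c⁻¹ (c * v0 * c⁻¹) = v0 := by simp [mul_assoc]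
  refine P.not_sg ⟨hq, h6, s, s.comap (MulAut.conj c⁻¹) (by rw [MulAut.conj_apply, cz']; group),
    fun w hw hw' w2 => ?_⟩ (y := c * v0 * c⁻¹) ⟨show MulAut.conj c⁻¹ _ ∈ Q from e.symm ▸ h.vQ,
      by simpa only [e] using h.v_ne, by simpa only [e] using h.v_sing, cn⟩
  by_contra h0
  have hw2 : c⁻¹ * w * c⁻¹⁻¹ ∈ Q := hw'
  obtain ⟨k, kz, kn, e1⟩ := tr w hw (fun e => h0 ((h.π_ker w hw).1 e)) ((s.sq1 hw).1 w2)
  obtain ⟨l, lz, ln, e2⟩ := tr _ hw2 (fun e => h0 (((h.π_ker _ hw2).1 e).imp (fun e => by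
    rw [show w = c * (c⁻¹ * w * c⁻¹⁻¹) * c⁻¹ by group, e]; group) fun e => by
    rw [show w = c * (c⁻¹ * w * c⁻¹⁻¹) * c⁻¹ by group, e, cz]; group)) ((s.sq1 hw2).1 (by
      rw [show c⁻¹ * w * c⁻¹⁻¹ * (c⁻¹ * w * c⁻¹⁻¹) = c⁻¹ * (w * w) * c by group, w2]; group))
  have gz : (k * l⁻¹ * c⁻¹) * z = z * (k * l⁻¹ * c⁻¹) :=
    ((show Commute k z from kz).mul_left (show Commute l z from lz).inv_left).mul_left cz'
  have m : k * l⁻¹ ∈ normalizer (Q : Set G) := mul_mem kn (inv_mem ln)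
  have e3 : π (k * l⁻¹ * (c⁻¹ * w * c⁻¹⁻¹) * (k * l⁻¹)⁻¹) = π w := by
    have kl : (k * l⁻¹) * z = z * (k * l⁻¹) := (show Commute k z from kz).mul_left (show Commute l z from lz).inv_left
    rw [s.act _ kl m _ hw2, ← e2, ← s.act _ kl m _ (cjm ln h.vQ), ← e1]; congr 1; group
  have := s.loc w hw (fun e => h0 ((h.π_ker w hw).1 e)) ((s.sq1 hw).1 w2) _ gz (by
    rw [← s.π_eq (by simpa only [mul_assoc, mul_inv_rev] using cjm m hw2) hw, ← e3]; congr 1; group)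
  exact hn (cjm (inv_mem_iff.1 ((mul_mem_cancel_left m).1 this)) h.vQ)

end Cfsg.Agent.H21.TQ
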