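import Cfsg.Agent.H21.F23Tri
import Cfsg.Agent.H60.F23Defs
import Cfsg.Agent.H95.L3Mod
import Cfsg.Agent.H4.CoprimeGen

/-! The structure of `2^{1+6} . C9`. -/

set_option autoImplicit false
set_option linter.unusedSectionVars false

universe u

namespace Cfsg.Agent.H21.F23

open Subgroup H49 H23 H95.L3 H40.F23 H60.F23 H91.Pr

/-- the character of order three of `SL₂(3)` -/
def ph (a b c d : ZMod 3) : ZMod 3 := (a + d) * c - b * d * (c * c - 1)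

theorem ph_mul : ∀ a b c d a' b' c' d' : ZMod 3, a * d - b * c = 1 → a' * d' - b' * c' = 1 →
    ph (a * a' + b * c') (a * b' + b * d') (c * a' + d * c') (c * b' + d * d') =
      ph a b c d + ph a' b' c' d' := by decide +kernel

/-- the central automorphisms of `C9` -/
def shear (k : ZMod 3) : C9 →* C9 := MonoidHom.mk'
  (fun g => ⟨⟨g.1.z + k * ph g.1.a g.1.b g.1.c g.1.d, g.1.p, g.1.q, g.1.a, g.1.b, g.1.c, g.1.d, g.1.h⟩, g.2⟩)
  fun g h => Subtype.ext (by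
    have h1 : g.1.a * g.1.d - g.1.b * g.1.c = 1 := g.2
    have h2 : h.1.a * h.1.d - h.1.b * h.1.c = 1 := h.2
    ext <;> simp only [coe_mul, Z9.mul_def]
    rw [ph_mul _ _ _ _ _ _ _ _ h1 h2, h1]; ring)

theorem shear_shear (k : ZMod 3) (g : C9) : shear k (shear (-k) g) = g :=
  Subtype.ext (Z9.ext (by
    change g.1.z + -k * ph g.1.a g.1.b g.1.c g.1.d + k * ph g.1.a g.1.b g.1.c g.1.d = _; ring)
    rfl rfl rfl rfl rfl rfl)

/-- the sheared transvections -/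
def cv (b : ZMod 3) (l : Fin 3) : C9 := cw l * ca ^ b.val

theorem cv_facts : ∀ b : ZMod 3, shear (-b) ct = ct ∧ cv b 0 * cv b 1 * cv b 2 = ca ∧
    ct * cv b 0 * ct⁻¹ = cv b 1 ∧ ct * cv b 1 * ct⁻¹ = cv b 0 ∧ ct * cv b 2 * ct⁻¹ = cv b 2 ∧
    ∀ l, cv b l ∈ JJ ∧ shear (-b) (cv b l) = cw l ∧ cx * cv b l * cx⁻¹ = cv b (l + 1) := by
  decide +kernel

theorem cv_coset : ∀ l, cv 0 l * (1 : C9)⁻¹ = cv 0 l ∧ cv 0 l * ca⁻¹ = cv 2 l ∧ cv 0 l * ca⁻¹⁻¹ = cv 1 l := by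
  decide +kernel

theorem cv_dist : ∀ b : Fin 3 → ZMod 3, (∃ k, b (k + 1) = b (k + 2)) ∨
    cv (b 0) 0 * cv (b 1) 1 * cv (b 2) 2 = ca := by decide +kernel

theorem JJ_norm : ∀ g ∈ JJ, cx * g * cx⁻¹ ∈ JJ ∧ ct * g * ct⁻¹ ∈ JJ := by decide +kernel

variable {X : Type u} [Group X] [Finite X] {R : Subgroup X} {t : X}

theorem exists_lift {π : X →* C9} (h : XS R t) (hs : Function.Surjective π) (hk : π.ker = R) :
    ∃ A : Subgroup X, IsPGroup 3 A ∧ (∀ a ∈ A, π a ∈ JJ) ∧ (∀ a ∈ A, ∀ b ∈ A, π a = π b → a = b) ∧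
      (∀ u ∈ JJ, ∃ a ∈ A, π a = u) ∧
      ∀ c, (∀ g ∈ JJ, c * g * c⁻¹ ∈ JJ) → ∃ y, π y = c ∧ ∀ a ∈ A, y * a * y⁻¹ ∈ A := by
  have : Fact (Nat.Prime 3) := ⟨by norm_num⟩
  let N := JJ.comap π
  obtain ⟨P⟩ : Nonempty (Sylow 3 N) := inferInstance
  have hp : IsPGroup 3 ((P : Subgroup N).map N.subtype) := P.isPGroup'.map _
  have on : ∀ u ∈ JJ, ∃ a ∈ (P : Subgroup N).map N.subtype, π a = u := fun u hu => by
    have e := (P.mapSurjective (π.subgroupComap_surjective_of_surjective JJ hs)).is_maximal'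
      (Q := ⊤) ((IsPGroup.of_card (n := 3) card_JJ).to_subgroup _) le_top
    obtain ⟨a, ha, e'⟩ := e.le (mem_top ⟨u, hu⟩)
    exact ⟨a, ⟨a, ha, rfl⟩, congrArg Subtype.val e'⟩
  refine ⟨_, hp, ?_, fun a ha b hb e => ?_, on, fun c hc => ?_⟩
  · rintro _ ⟨a, -, rfl⟩; exact a.2
  · obtain ⟨n, hn⟩ := hp ⟨a * b⁻¹, mul_mem ha (inv_mem hb)⟩
    have h4 := h.pow_four (hk.le (show π (a * b⁻¹) = 1 by rw [map_mul, map_inv, e, mul_inv_cancel]))
    exact mul_inv_eq_one.1 (orderOf_eq_one_iff.1 (Nat.eq_one_of_dvd_coprimes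
      (Nat.Coprime.pow_right n (by norm_num)) (orderOf_dvd_of_pow_eq_one h4)
      (orderOf_dvd_of_pow_eq_one (congrArg Subtype.val hn))))
  obtain ⟨g, rfl⟩ := hs c
  let f : N →* N := MonoidHom.mk' (fun x => ⟨g * x * g⁻¹, by
    change π _ ∈ JJ
    rw [map_mul, map_mul, map_inv]; exact hc _ x.2⟩) fun x y => Subtype.ext (by simp)
  obtain ⟨P', hP'⟩ := (P.isPGroup'.map f).exists_le_sylow
  obtain ⟨n, rfl⟩ := MulAction.exists_smul_eq N P P'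
  obtain ⟨a, ha, e⟩ := on _ n.2
  refine ⟨a * (n : X)⁻¹ * g, by simp [e], ?_⟩
  rintro _ ⟨b, hb, rfl⟩
  have h1 := hP' ⟨b, hb, rfl⟩
  rw [Sylow.coe_subgroup_smul, mem_pointwise_smul_iff_inv_smul_mem] at h1
  have h2 : (n : X)⁻¹ * (g * b * g⁻¹) * n ∈ (P : Subgroup N).map N.subtype := ⟨_, h1, by simp [f]⟩
  have := mul_mem (mul_mem ha h2) (inv_mem ha)
  convert this using 1
  simp only [coe_subtype]; group

theorem exists_tri {π : X →* C9} (h : XS R t) (hc : Nat.card R = 128) (hC : centralizer (R : Set X) ≤ R)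
    (hs : Function.Surjective π) (hk : π.ker = R) :
    ∃ (b : ZMod 3) (a : Fin 3 → X) (s : X), Tri R t a ∧ (∀ l, π (a l) = cv b l) ∧ π s = ct ∧
      s * a 0 * s⁻¹ = a 1 ∧ s * a 1 * s⁻¹ = a 0 ∧ s * a 2 * s⁻¹ = a 2 := by
  obtain ⟨A, hp, hJ, inj, on, fr⟩ := exists_lift h hs hk
  have nor : R.Normal := hk ▸ inferInstance
  choose! ℓ l1 l2 using on
  have m : ∀ b l, ℓ (cv b l) ∈ A := fun b l => l1 _ ((cv_facts b).2.2.2.2.2 l).1
  have p : ∀ b l, π (ℓ (cv b l)) = cv b l := fun b l => l2 _ ((cv_facts b).2.2.2.2.2 l).1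
  have aJ : ca ∈ JJ := by decide +kernel
  have cA := l1 _ aJ
  have cp := l2 _ aJ
  generalize ℓ ca = c at cA cp
  have a3 : ∀ a ∈ A, a ^ 3 = 1 := fun a ha => inj _ (pow_mem ha 3) _ (one_mem _) (by
    rw [map_pow, JJ_pow _ (hJ a ha), map_one])
  have aa : ∀ a ∈ A, ∀ b ∈ A, Commute a b := fun a ha b hb => inj _ (mul_mem ha hb) _ (mul_mem hb ha) (by
    obtain ⟨v, hv⟩ := JJ_eq _ (hJ a ha)
    obtain ⟨w, hw⟩ := JJ_eq _ (hJ b hb)
    rw [map_mul, map_mul, hv, hw, JJ_comm])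
  have : IsMulCommutative A := ⟨⟨fun a b => Subtype.ext (aa a a.2 b b.2)⟩⟩
  have c1 : π c ≠ 1 := cp ▸ ca_ne
  have : Fact (Nat.Prime 3) := ⟨by norm_num⟩
  obtain ⟨B, hB, ⟨g, hg, e⟩, hn⟩ : ∃ B ≤ A, (∃ g ∈ A, B ⊔ zpowers g = A) ∧
      ¬ R ⊓ centralizer (B : Set X) ≤ centralizer {c} := by
    by_contra h0
    push Not at h0
    obtain ⟨n, hn⟩ := hp.exists_card_eq
    have := H4.le_of_centralizer_cocyclic_le (A := A) (K := R) (by rw [normalizer_eq_top]; exact le_top)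
      (by rw [hn, hc]; exact Nat.Coprime.pow_left n (by norm_num)) h0
    exact c1 (hk.ge (hC fun r hr => (mc.1 (this hr)).symm))
  obtain ⟨r, ⟨hr, rB⟩, rc⟩ := SetLike.not_le_iff_exists.1 hn
  have cB : c ∉ B := fun e => rc (mc.2 (rB c e))
  have zp : ∀ g ∈ A, ∀ x ∈ zpowers g, x = 1 ∨ x = g ∨ x = g⁻¹ := fun g hg x hx => by
    by_cases e : g = 1
    · exact .inl (by simpa [e] using hx)
    · exact (mem_zp3 (orderOf_eq_prime (a3 g hg) e)).1 hx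
  have sp : ∀ g ∈ A, ∀ x ∈ B ⊔ zpowers g, ∃ y, (y = 1 ∨ y = g ∨ y = g⁻¹) ∧ x * y⁻¹ ∈ B := fun g hg x hx => by
    obtain ⟨b, hb, y, hy, rfl⟩ := (mem_sup_of_commute fun b hb y hy =>
      aa b (hB hb) y (zpowers_le.2 hg hy)).1 hx
    exact ⟨y, zp g hg y hy, by simpa using hb⟩
  have e2 : A ≤ B ⊔ zpowers c := by
    refine e.ge.trans (sup_le le_sup_left (zpowers_le.2 ?_))
    obtain ⟨y, rfl | rfl | rfl, hy⟩ := sp g hg c (e.ge cA)
    · exact absurd (by simpa using hy) cB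
    · simpa using mul_mem (inv_mem (mem_sup_left hy)) (mem_sup_right (mem_zpowers c))
    · simpa using mul_mem (inv_mem (mem_sup_right (mem_zpowers c))) (mem_sup_left hy)
  have e3 : ∀ l, ∃ b, ℓ (cv b l) ∈ B := fun l => by
    obtain ⟨y, rfl | rfl | rfl, hy⟩ := sp c cA _ (e2 (m 0 l))
    · exact ⟨0, by simpa using hy⟩
    · exact ⟨2, inj _ (mul_mem (m 0 l) (inv_mem cA)) _ (m 2 l) (by
        rw [map_mul, map_inv, p, p, cp, (cv_coset l).2.1]) ▸ hy⟩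
    · exact ⟨1, inj _ (mul_mem (m 0 l) (inv_mem (inv_mem cA))) _ (m 1 l) (by
        rw [map_mul, map_inv, map_inv, p, p, cp, (cv_coset l).2.2]) ▸ hy⟩
  choose β hβ using e3
  have pr : ∀ x y z, cv x 0 * cv y 1 * cv z 2 = ca → ℓ (cv x 0) * ℓ (cv y 1) * ℓ (cv z 2) = c :=
    fun x y z e => inj _ (mul_mem (mul_mem (m _ _) (m _ _)) (m _ _)) _ cA (by rw [map_mul, map_mul, p, p, p, e, cp])
  obtain ⟨k, hk'⟩ := (cv_dist β).resolve_right fun e =>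
    cB (pr _ _ _ e ▸ mul_mem (mul_mem (hβ 0) (hβ 1)) (hβ 2))
  obtain ⟨b, hb⟩ : ∃ b, β (k + 1) = b := ⟨_, rfl⟩
  obtain ⟨f1, f2, f3, f4, f5, f6⟩ := cv_facts b
  obtain ⟨x, πx, xA⟩ := fr cx fun g hg => (JJ_norm g hg).1
  obtain ⟨s, πs, sA⟩ := fr ct fun g hg => (JJ_norm g hg).2
  have cj : ∀ y, (∀ a ∈ A, y * a * y⁻¹ ∈ A) → ∀ l l', π y * cv b l * (π y)⁻¹ = cv b l' →
      y * ℓ (cv b l) * y⁻¹ = ℓ (cv b l') := fun y hy l l' e =>
    inj _ (hy _ (m _ _)) _ (m _ _) (by rw [map_mul, map_mul, map_inv, p, p, e])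
  have xa := fun l => cj x xA l (l + 1) (πx ▸ (f6 l).2.2)
  let W : Fin 3 → Prop := fun k => ∃ r ∈ R, (∀ l, l ≠ k → Commute (ℓ (cv b l)) r) ∧ ¬ Commute (ℓ (cv b k)) r
  have w0 : W k := by
    have h1 : ∀ l, l ≠ k → Commute (ℓ (cv b l)) r := fun l hl => by
      rcases (by decide : ∀ k l : Fin 3, l ≠ k → l = k + 1 ∨ l = k + 2) k l hl with rfl | rfl
      exacts [rB _ (hb ▸ hβ _), rB _ (hb ▸ hk' ▸ hβ _)]
    refine ⟨r, hr, h1, fun h2 => rc (mc.2 ?_)⟩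
    have h3 : ∀ l, Commute (ℓ (cv b l)) r := fun l => by
      by_cases e : l = k
      exacts [e ▸ h2, h1 l e]
    exact pr _ _ _ f2 ▸ ((h3 0).mul_left (h3 1)).mul_left (h3 2)
  have w1 : ∀ k, W k → W (k + 1) := fun k ⟨r, hr, h1, h2⟩ => ⟨x * r * x⁻¹, nor.conj_mem r hr x, fun l hl => by
    obtain ⟨l', h3, rfl⟩ := (by decide : ∀ k l : Fin 3, l ≠ k + 1 → ∃ l', l' ≠ k ∧ l = l' + 1) k l hl
    exact xa l' ▸ (h1 l' h3).conj x, fun h3 => h2 (by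
      have := (xa k ▸ h3).conj x⁻¹
      simpa [mul_assoc] using this)⟩
  refine ⟨b, fun l => ℓ (cv b l), s, ⟨h, hc, nor, fun l => a3 _ (m _ _), fun l l' => aa _ (m _ _) _ (m _ _),
    fun l => ?_⟩, p b, πs, cj s sA 0 1 (πs ▸ f3), cj s sA 1 0 (πs ▸ f4), cj s sA 2 2 (πs ▸ f5)⟩
  rcases (by decide : ∀ k l : Fin 3, l = k ∨ l = k + 1 ∨ l = k + 1 + 1) k l with rfl | rfl | rfl
  exacts [w0, w1 _ w0, w1 _ (w1 _ w0)]

theorem Tri.fix_q8 {a : Fin 3 → X} (h : Tri R t a) {k : Fin 3} {i j s : X} (hi : i ∈ DD R a k)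
    (q : Tri.Q8 t (a k) i j) (sa : Commute s (a k)) (si : s * i * s⁻¹ ∈ DD R a k)
    (ss : s * (s * i * s⁻¹) * s⁻¹ = i) : s * i * s⁻¹ = i := by
  have tt := h.xs.zz
  have hn : i ∉ zpowers t := fun e => h.xs.ne (by
    rcases h.xs.mem_Z.1 e with e | e <;> rw [← q.ii, e]
    exacts [mul_one _, tt])
  obtain ⟨n, en⟩ := h.enum hi hn q.ai
  have z : ∀ x w, x * x = t → w * x ∈ zpowers t → ∃ c, (c = 1 ∨ c = t) ∧ w = x * c := fun x w hx hw => by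
    have e : x⁻¹ = x * t := by rw [inv_eq_iff_mul_eq_one, ← mul_assoc, hx, tt]
    rcases h.xs.mem_Z.1 hw with e' | e'
    · exact ⟨t, .inr rfl, e ▸ eq_inv_of_mul_eq_one_left e'⟩
    · exact ⟨1, .inl rfl, by rw [eq_mul_inv_iff_mul_eq.2 e', e, ← mul_assoc, ← (h.ct x).eq, mul_assoc, tt]⟩
  have cc : ∀ c, (c = 1 ∨ c = t) → c * c = 1 ∧ ∀ g x, g * (x * c) * g⁻¹ = g * x * g⁻¹ * c := by
    rintro c (rfl | rfl)
    exacts [⟨mul_one _, by simp⟩, ⟨tt, fun g x => by rw [mul_assoc _ g⁻¹, (h.ct g⁻¹).eq]; group⟩]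
  have cm : ∀ c, (c = 1 ∨ c = t) → ∀ x, c * x = x * c := by
    rintro c (rfl | rfl) x
    exacts [by simp, (h.ct x).eq.symm]
  have sw : ∀ x, s * (a k * x * (a k)⁻¹) * s⁻¹ = a k * (s * x * s⁻¹) * (a k)⁻¹ := fun x => by
    calc _ = (s * a k) * x * (s * a k)⁻¹ := by group
      _ = _ := by rw [sa.eq]; group
  have sm : ∀ g x y : X, g * (x * y) * g⁻¹ = g * x * g⁻¹ * (g * y * g⁻¹) := fun g x y => by group
  have ji : j * i = i * j * t := by rw [q.ij, mul_assoc, tt, mul_one]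
  rcases en _ si with e | e | e | e
  · refine absurd ?_ hn
    rcases h.xs.mem_Z.1 e with e | e <;> rw [← ss, e]
    exacts [by simp, by rw [(h.ct s).eq]; simp]
  · obtain ⟨c, hc, e⟩ := z _ _ q.ii e
    obtain ⟨c1, c2⟩ := cc c hc
    have e1 : s * j * s⁻¹ = j * c := by rw [← q.ai, sw, e, c2]
    have e2 := sw j
    rw [q.aj, sm, e, e1, c2, q.aj, mul_assoc i, ← mul_assoc c, cm c hc j,
      mul_assoc j, c1, mul_one] at e2
    rw [e, show c = 1 by simpa using e2, mul_one]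
  · obtain ⟨c, hc, e⟩ := z _ _ q.jj e
    obtain ⟨c1, c2⟩ := cc c hc
    have e1 : s * j * s⁻¹ = i * j * c := by rw [← q.ai, sw, e, c2, q.aj, q.ai]
    rw [e, c2, e1, mul_assoc, c1, mul_one] at ss
    exact absurd (by rw [show j = 1 by simpa using ss]; simp) n
  · obtain ⟨c, hc, e⟩ := z _ _ (show i * j * (i * j) = t by
      rw [mul_assoc, ← mul_assoc j, ji, ← mul_assoc, ← mul_assoc, ← mul_assoc, q.ii, mul_assoc, mul_assoc,
        ← (h.ct j).eq, ← mul_assoc j, q.jj, tt, mul_one]) e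
    obtain ⟨c1, c2⟩ := cc c hc
    have e1 : s * j * s⁻¹ = i * c := by
      rw [← q.ai, sw, e, c2, ← q.aj, ← q.ai, cj3 (h.a3 k)]
    rw [e, c2, sm, e, e1, mul_assoc (i * j), ← mul_assoc c, cm c hc i,
      mul_assoc i c c, c1, mul_one, mul_assoc i, ji, ← mul_assoc, ← mul_assoc, q.ii, ← (h.ct j).eq, mul_assoc j, tt,
      mul_one] at ss
    refine absurd ?_ n
    rw [← ss]
    rcases hc with rfl | rfl
    exacts [by simp, by rw [mul_assoc, ← (h.ct j).eq]]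

theorem dec : DecStmt.{u} := by
  intro X _ _ R t π h hc hC hs hk
  obtain ⟨b, a, s, T, πa, πs, s0, s1, s2⟩ := exists_tri h hc hC hs hk
  obtain ⟨f1, -, -, -, -, f6⟩ := cv_facts b
  obtain ⟨i0, hi0, j0, hj0, q0⟩ := T.q8 0
  obtain ⟨i2, hi2, j2, hj2, q2⟩ := T.q8 2
  have sm : ∀ x y : X, s * (x * y) * s⁻¹ = s * x * s⁻¹ * (s * y * s⁻¹) := fun x y => by group
  have st : s * t * s⁻¹ = t := by rw [(T.ct s).eq, mul_inv_cancel_right]
  have sc : ∀ x y : X, s * (x * y * x⁻¹) * s⁻¹ = s * x * s⁻¹ * (s * y * s⁻¹) * (s * x * s⁻¹)⁻¹ :=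
    fun x y => by group
  have q1 : Tri.Q8 t (a 1) (s * i0 * s⁻¹) (s * j0 * s⁻¹) :=
    ⟨by rw [← sm, q0.ii, st], by rw [← sm, q0.jj, st], by rw [← sm, q0.ij, sm, sm, st],
      by rw [← s0, ← sc, q0.ai], by rw [← s0, ← sc, q0.aj, sm]⟩
  have d1 : ∀ w ∈ DD R a 0, s * w * s⁻¹ ∈ DD R a 1 := fun w hw =>
    ⟨⟨T.nor.conj_mem _ hw.1.1 _, mc.2 (s2 ▸ (mc.1 hw.2).conj s :)⟩, mc.2 (s1 ▸ (mc.1 hw.1.2).conj s :)⟩
  have d2 : ∀ w ∈ DD R a 2, s * w * s⁻¹ ∈ DD R a 2 := fun w hw =>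
    ⟨⟨T.nor.conj_mem _ hw.1.1 _, mc.2 (s1 ▸ (mc.1 hw.2).conj s :)⟩, mc.2 (s0 ▸ (mc.1 hw.1.2).conj s :)⟩
  have ss : s * s = 1 ∨ s * s = t := by
    have c : ∀ l, Commute (a l) (s * s) := fun l => (mul_inv_eq_iff_eq_mul.1 (by
      rw [show s * s * a l * (s * s)⁻¹ = s * (s * a l * s⁻¹) * s⁻¹ by group]
      fin_cases l
      exacts [(congrArg (s * · * s⁻¹) s0).trans s1, (congrArg (s * · * s⁻¹) s1).trans s0,
        (congrArg (s * · * s⁻¹) s2).trans s2])).symm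
    exact h.mem_Z.1 (T.cen (k := 0) (mem_DD.2 ⟨hk.le (show π _ = 1 by rw [map_mul, πs, ct_mul]),
      fun l _ => c l⟩) (c 0))
  have sa : Commute s (a 2) := mul_inv_eq_iff_eq_mul.1 s2
  have si : Commute s i2 := mul_inv_eq_iff_eq_mul.1 (T.fix_q8 hi2 q2 sa (d2 _ hi2) (by
    rw [show s * (s * i2 * s⁻¹) * s⁻¹ = s * s * i2 * (s * s)⁻¹ by group]
    rcases ss with e | e <;> rw [e]
    exacts [by group, by rw [← (T.ct i2).eq]; group]))
  have hi : ∀ k, ![i0, s * i0 * s⁻¹, i2] k ∈ DD R a k := fun k => by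
    fin_cases k; exacts [hi0, d1 _ hi0, hi2]
  have hj : ∀ k, ![j0, s * j0 * s⁻¹, j2] k ∈ DD R a k := fun k => by
    fin_cases k; exacts [hj0, d1 _ hj0, hj2]
  have q : ∀ k, Tri.Q8 t (a k) (![i0, s * i0 * s⁻¹, i2] k) (![j0, s * j0 * s⁻¹, j2] k) := fun k => by
    fin_cases k; exacts [q0, q1, q2]
  refine ⟨(shear (-b)).comp π, a, ![i0, s * i0 * s⁻¹, i2], ![j0, s * j0 * s⁻¹, j2], s, h,
    Function.Surjective.comp (g := shear (-b)) (fun g => ⟨shear (- -b) g, shear_shear _ g⟩) hs, ?_,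
    fun k => by rw [MonoidHom.comp_apply, πa, (f6 k).2.1], T.a3, T.aa, fun k => (hi k).1.1, fun k => (hj k).1.1,
    fun k => (q k).ii, fun k => (q k).jj, fun k => (q k).ij, fun k => (q k).ai, fun k => (q k).aj,
    fun k l e => (mem_DD.1 (hi l)).2 k e, fun k l e => (mem_DD.1 (hj l)).2 k e,
    fun k l e => T.commD e (hi k) (hi l), fun k l e => T.commD e (hi k) (hj l),
    fun k l e => T.commD e (hj k) (hj l), fun w hw => ?_, by rw [MonoidHom.comp_apply, πs, f1], ss, s0, sa, rfl, rfl,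
    si, q2.ai ▸ cj_comm sa si⟩
  · rw [← hk]
    ext x
    exact ⟨fun e => (shear_shear b (π x)).symm.trans ((congrArg (shear b) e).trans (map_one _)),
      fun e => (congrArg (shear (-b)) e).trans (map_one _)⟩
  · generalize ![i0, s * i0 * s⁻¹, i2] = i at hi q
    generalize ![j0, s * j0 * s⁻¹, j2] = j at hj q
    have le : ∀ k, DD R a k ≤ closure (Set.range i ∪ Set.range j) := fun k w hw => by
      have m1 : i k ∈ closure (Set.range i ∪ Set.range j) := subset_closure (.inl ⟨k, rfl⟩)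
      have m2 : j k ∈ closure (Set.range i ∪ Set.range j) := subset_closure (.inr ⟨k, rfl⟩)
      have m3 : zpowers t ≤ closure (Set.range i ∪ Set.range j) := zpowers_le.2 ((q k).ii ▸ mul_mem m1 m1)
      have hn : i k ∉ zpowers t := fun e => h.ne (by
        rcases h.mem_Z.1 e with e | e <;> rw [← (q k).ii, e]
        exacts [mul_one _, h.zz])
      rcases (T.enum (hi k) hn (q k).ai).2 w hw with e | e | e | e
      exacts [m3 e, (mul_mem_cancel_right m1).1 (m3 e), (mul_mem_cancel_right m2).1 (m3 e),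
        (mul_mem_cancel_right (mul_mem m1 m2)).1 (m3 e)]
    obtain ⟨x, hx, y, hy, z, hz, rfl⟩ := T.dec hw
    exact mul_mem (mul_mem (le 0 hx) (le 1 hy)) (le 2 hz)

end Cfsg.Agent.H21.F23

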