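import Cfsg.Agent.H23.X3e

/-! Three commuting automorphisms of order three split `2^{1+6}` into three quaternion groups. -/

set_option autoImplicit false
set_option linter.unusedSectionVars false

namespace Cfsg.Agent.H21.F23

open Subgroup H49 H23

variable {X : Type*} [Group X] [Finite X] {R : Subgroup X} {t : X}

theorem mc {a w : X} : w ∈ centralizer ({a} : Set X) ↔ Commute a w :=
  mem_centralizer_singleton_iff.trans eq_comm

theorem fix3 {U : Subgroup X} {a : X} (ha : a ^ 3 = 1) (hn : ∀ u ∈ U, a * u * a⁻¹ ∈ U) :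
    Nat.card U ≡ Nat.card ↥(U ⊓ centralizer {a}) [MOD 3] := by
  have : Fact (Nat.Prime 3) := ⟨by norm_num⟩
  by_cases h1 : a = 1
  · rw [inf_eq_left.2 fun u _ => mc.2 (h1 ▸ Commute.one_left u)]
  have := fix_modEq_elt (fun g x : X => g * x * g⁻¹) (by simp) (fun g h x => by group)
    (orderOf_eq_prime ha h1) (U : Set X) hn
  exact this.trans (by
    rw [← Nat.card_congr (Equiv.subtypeEquivRight (p := fun x => x ∈ U ⊓ centralizer {a})
      (q := fun x => x ∈ (U : Set X) ∧ a * x * a⁻¹ = x) fun x =>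
        and_congr_right fun _ => mc.trans mul_inv_eq_iff_eq_mul.symm)])

theorem cj3 {a : X} (ha : a ^ 3 = 1) (w : X) : a * (a * (a * w * a⁻¹) * a⁻¹) * a⁻¹ = w := by
  have e : a * a * a = 1 := by rw [← ha, pow_succ, pow_two]
  calc _ = (a * a * a) * w * (a * a * a)⁻¹ := by group
    _ = w := by rw [e]; group

theorem four_le {U : Subgroup X} {a : X} (ha : a ^ 3 = 1) (hn : ∀ u ∈ U, a * u * a⁻¹ ∈ U)
    (hU : Nat.card U ∣ 128) (h : ¬ U ≤ centralizer {a}) :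
    4 * Nat.card ↥(U ⊓ centralizer {a}) ≤ Nat.card U := by
  have h1 := fix3 ha hn
  obtain ⟨k, hk⟩ := card_dvd_of_le (inf_le_left : U ⊓ centralizer {a} ≤ U)
  have h2 : k ≠ 1 := fun e => h (inf_eq_left.1 (eq_of_le_of_card_ge inf_le_left (by rw [hk, e, mul_one])))
  have h3 : ¬ 3 ∣ Nat.card U := fun e => absurd (e.trans hU) (by norm_num)
  have h4 : 0 < Nat.card U := Nat.card_pos
  rw [hk] at h1 h3 h4 ⊢
  generalize Nat.card ↥(U ⊓ centralizer {a}) = m at *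
  unfold Nat.ModEq at h1
  rcases (by omega : k = 0 ∨ k = 2 ∨ k = 3 ∨ 4 ≤ k) with rfl | rfl | rfl | h5
  · omega
  · omega
  · omega
  · nlinarith

theorem fix_of_modt (h : XS R t) {a w : X} (hat : Commute a t) (ha : a ^ 3 = 1)
    (e : a * w * a⁻¹ = w ∨ a * w * a⁻¹ = w * t) : Commute a w := by
  refine mul_inv_eq_iff_eq_mul.1 (e.resolve_right fun e => h.mul_z_ne w ?_)
  have e1 : a * (w * t) * a⁻¹ = w := by
    calc _ = a * w * a⁻¹ * (a * t * a⁻¹) := by group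
      _ = w := by rw [e, hat.eq, mul_inv_cancel_right, mul_assoc, h.zz, mul_one]
  calc w * t = a * (a * (a * w * a⁻¹) * a⁻¹) * a⁻¹ := by rw [e, e1, e]
    _ = w := cj3 ha w

theorem wcomm (h : XS R t) {a u w : X} (hn : ∀ u ∈ R, a * u * a⁻¹ ∈ R) (hu : u ∈ R) (hw : w ∈ R)
    (hau : Commute a u) (h3 : w * (a * w * a⁻¹) * (a * (a * w * a⁻¹) * a⁻¹) ∈ zpowers t) :
    Commute u w := by
  by_contra h0
  have k : ∀ v, v * u ≠ u * v → (a * v * a⁻¹) * u ≠ u * (a * v * a⁻¹) := fun v hv e => hv (by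
    have e1 : a⁻¹ * u * a = u := by rw [mul_assoc, ← hau.eq]; group
    calc v * u = v * (a⁻¹ * u * a) := by rw [e1]
      _ = a⁻¹ * ((a * v * a⁻¹) * u) * a := by group
      _ = (a⁻¹ * u * a) * v := by rw [e]; group
      _ = u * v := by rw [e1])
  have h1 : w * u ≠ u * w := fun e => h0 e.symm
  refine XS.mul_ne_of_eq_of_ne (h.mul_comm_of_ne_of_ne hw (hn w hw) hu h1 (k _ h1)) (k _ (k _ h1)) ?_
  rcases h.mem_Z.1 h3 with e | e <;> rw [e]
  · simp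
  · exact (h.cen u hu).symm

/-- Three commuting elements of order three, each moving an element fixed by the two others. -/
structure Tri (R : Subgroup X) (t : X) (a : Fin 3 → X) : Prop where
  xs : XS R t
  card : Nat.card R = 128
  nor : R.Normal
  a3 : ∀ k, a k ^ 3 = 1
  aa : ∀ k l, Commute (a k) (a l)
  wit : ∀ k, ∃ r ∈ R, (∀ l, l ≠ k → Commute (a l) r) ∧ ¬ Commute (a k) r

/-- the `k`-th factor -/
def DD (R : Subgroup X) (a : Fin 3 → X) (k : Fin 3) : Subgroup X :=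
  R ⊓ centralizer {a (k + 1)} ⊓ centralizer {a (k + 2)}

theorem mem_DD {a : Fin 3 → X} {k : Fin 3} {w : X} :
    w ∈ DD R a k ↔ w ∈ R ∧ ∀ l, l ≠ k → Commute (a l) w := by
  have h1 : ∀ k l : Fin 3, l ≠ k → l = k + 1 ∨ l = k + 2 := by decide
  have h2 : ∀ k : Fin 3, k + 1 ≠ k ∧ k + 2 ≠ k := by decide
  refine ⟨fun h => ⟨h.1.1, fun l hl => ?_⟩, fun h => ⟨⟨h.1, mc.2 (h.2 _ (h2 k).1)⟩, mc.2 (h.2 _ (h2 k).2)⟩⟩
  rcases h1 k l hl with rfl | rfl
  exacts [mc.1 h.1.2, mc.1 h.2]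

theorem cj_comm {a b w : X} (h : Commute b a) (hw : Commute b w) : Commute b (a * w * a⁻¹) :=
  (h.mul_right hw).mul_right h.inv_right

namespace Tri

variable {a : Fin 3 → X} {k l : Fin 3} {i u w : X}

theorem ct (h : Tri R t a) (g : X) : Commute g t :=
  mul_inv_eq_iff_eq_mul.1 (h.xs.comm_z_of_conj_mem fun x hx => h.nor.conj_mem x hx g)

theorem tD (h : Tri R t a) (k : Fin 3) : zpowers t ≤ DD R a k :=
  zpowers_le.2 (mem_DD.2 ⟨h.xs.mem, fun _ _ => h.ct _⟩)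

theorem cjD (h : Tri R t a) (hw : w ∈ DD R a k) : a k * w * (a k)⁻¹ ∈ DD R a k :=
  mem_DD.2 ⟨h.nor.conj_mem _ hw.1.1 _, fun l hl => cj_comm (h.aa l k) ((mem_DD.1 hw).2 l hl)⟩

theorem cards (h : Tri R t a) (k : Fin 3) :
    Nat.card (DD R a k) = 8 ∧ DD R a k ⊓ centralizer {a k} = zpowers t := by
  have hd : ∀ U ≤ R, Nat.card U ∣ 128 := fun U hU => h.card ▸ card_dvd_of_le hU
  have e : ∀ k : Fin 3, k + 1 ≠ k + 2 := by decide
  have h1 := four_le (h.a3 (k + 1)) (fun u hu => h.nor.conj_mem u hu _) (hd R le_rfl) fun e =>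
    let ⟨r, hr, _, n⟩ := h.wit (k + 1); n (mc.1 (e hr))
  have h2 := four_le (U := R ⊓ centralizer {a (k + 1)}) (h.a3 (k + 2))
    (fun u hu => ⟨h.nor.conj_mem u hu.1 _, mc.2 (cj_comm (h.aa _ _) (mc.1 hu.2))⟩) (hd _ inf_le_left)
    fun e' => let ⟨r, hr, m, n⟩ := h.wit (k + 2); n (mc.1 (e' ⟨hr, mc.2 (m _ (e k))⟩))
  have h3 := four_le (U := DD R a k) (h.a3 k) (fun u hu => h.cjD hu) (hd _ (inf_le_left.trans inf_le_left))
    fun e' => let ⟨r, hr, m, n⟩ := h.wit k; n (mc.1 (e' (mem_DD.2 ⟨hr, m⟩)))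
  have h4 : zpowers t ≤ DD R a k ⊓ centralizer {a k} := le_inf (h.tD k) (zpowers_le.2 (mc.2 (h.ct _)))
  have h5 := card_le_of_le h4
  rw [h.xs.card_Z] at h5
  rw [h.card] at h1
  change 4 * Nat.card (DD R a k) ≤ _ at h2
  exact ⟨by omega, (eq_of_le_of_card_ge h4 (by rw [h.xs.card_Z]; omega)).symm⟩

theorem cen (h : Tri R t a) (hw : w ∈ DD R a k) (hc : Commute (a k) w) : w ∈ zpowers t :=
  (h.cards k).2.le ⟨hw, mc.2 hc⟩

theorem trace (h : Tri R t a) (hw : w ∈ DD R a k) :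
    w * (a k * w * (a k)⁻¹) * (a k * (a k * w * (a k)⁻¹) * (a k)⁻¹) ∈ zpowers t := by
  have hm := mul_mem (mul_mem hw (h.cjD hw)) (h.cjD (h.cjD hw))
  refine h.cen hm (fix_of_modt h.xs (h.ct _) (h.a3 k) ?_)
  have := h.xs.conj (inv_mem hw.1.1) hm.1.1
  rwa [show w⁻¹ * (w * (a k * w * (a k)⁻¹) * (a k * (a k * w * (a k)⁻¹) * (a k)⁻¹)) * w⁻¹⁻¹ =
    a k * (w * (a k * w * (a k)⁻¹) * (a k * (a k * w * (a k)⁻¹) * (a k)⁻¹)) * (a k)⁻¹ by
      calc _ = (a k * w * (a k)⁻¹) * (a k * (a k * w * (a k)⁻¹) * (a k)⁻¹) *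
            (a k * (a k * (a k * w * (a k)⁻¹) * (a k)⁻¹) * (a k)⁻¹) := by rw [cj3 (h.a3 k)]; group
        _ = _ := by group] at this

theorem comm (h : Tri R t a) (hu : u ∈ R) (hau : Commute (a k) u) (hw : w ∈ DD R a k) : Commute u w :=
  wcomm h.xs (fun x hx => h.nor.conj_mem x hx _) hu hw.1.1 hau (h.trace hw)

theorem commD (h : Tri R t a) (hkl : k ≠ l) (hu : u ∈ DD R a k) (hw : w ∈ DD R a l) : Commute u w :=
  h.comm hu.1.1 ((mem_DD.1 hu).2 l hkl.symm) hw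

theorem dec (h : Tri R t a) (hw : w ∈ R) :
    ∃ x ∈ DD R a 0, ∃ y ∈ DD R a 1, ∃ z ∈ DD R a 2, w = x * y * z := by
  have c1 : ∀ x ∈ DD R a 0, ∀ y ∈ DD R a 1, Commute x y := fun x hx y hy => h.commD (by decide) hx hy
  have c2 : DD R a 0 ⊔ DD R a 1 ≤ R ⊓ centralizer {a 2} :=
    sup_le (fun x hx => ⟨hx.1.1, mc.2 ((mem_DD.1 hx).2 2 (by decide))⟩)
      fun x hx => ⟨hx.1.1, mc.2 ((mem_DD.1 hx).2 2 (by decide))⟩
  have c3 : ∀ x ∈ DD R a 0 ⊔ DD R a 1, ∀ y ∈ DD R a 2, Commute x y := fun x hx y hy =>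
    h.comm (c2 hx).1 (mc.1 (c2 hx).2) hy
  have e1 := card_sup_mul_inf c1
  have e2 := card_sup_mul_inf c3
  rw [le_antisymm (fun x hx => h.cen hx.2 ((mem_DD.1 hx.1).2 1 (by decide))) (le_inf (h.tD 0) (h.tD 1)),
    h.xs.card_Z, (h.cards 0).1, (h.cards 1).1] at e1
  rw [le_antisymm (fun x hx => h.cen hx.2 (mc.1 (c2 hx.1).2)) (le_inf ((h.tD 0).trans le_sup_left) (h.tD 2)),
    h.xs.card_Z, (h.cards 2).1] at e2
  have e3 : DD R a 0 ⊔ DD R a 1 ⊔ DD R a 2 = R := eq_of_le_of_card_ge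
    (sup_le (c2.trans inf_le_left) (inf_le_left.trans inf_le_left)) (by rw [h.card]; omega)
  obtain ⟨x, hx, z, hz, rfl⟩ := (mem_sup_of_commute c3).1 (e3.ge hw)
  obtain ⟨x', hx', y, hy, rfl⟩ := (mem_sup_of_commute c1).1 hx
  exact ⟨x', hx', y, hy, z, hz, rfl⟩

theorem cenD (h : Tri R t a) (hi : i ∈ DD R a k) (hc : ∀ w ∈ DD R a k, Commute i w) : i ∈ zpowers t := by
  have c : ∀ l, ∀ w ∈ DD R a l, Commute i w := fun l w hw => by
    by_cases e : k = l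
    exacts [hc w (e ▸ hw), h.commD e hi hw]
  refine h.xs.mem_Z.2 (h.xs.cent i hi.1.1 fun w hw => ?_)
  obtain ⟨x, hx, y, hy, z, hz, rfl⟩ := h.dec hw
  exact ((c 0 x hx).mul_right (c 1 y hy)).mul_right (c 2 z hz)

theorem cenij (h : Tri R t a) (hi : i ∈ DD R a k) (hn : i ∉ zpowers t) (hw : w ∈ DD R a k)
    (c1 : Commute i w) (c2 : Commute (a k * i * (a k)⁻¹) w) : w ∈ zpowers t := by
  let U := DD R a k ⊓ centralizer {i} ⊓ centralizer {a k * i * (a k)⁻¹}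
  have h1 := fix3 (U := U) (h.a3 k) fun u hu => ⟨⟨h.cjD hu.1.1, mc.2 (by
      have c3 : Commute (a k * (a k * i * (a k)⁻¹) * (a k)⁻¹) u := by
        have := (h.xs.cen u hu.1.1.1.1)
        have e : Commute (i * (a k * i * (a k)⁻¹) * (a k * (a k * i * (a k)⁻¹) * (a k)⁻¹)) u := by
          rcases h.xs.mem_Z.1 (h.trace hi) with e | e <;> rw [e]
          exacts [Commute.one_left u, this.symm]
        have := ((mc.1 hu.1.2).mul_left (mc.1 hu.2)).inv_left.mul_left e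
        rwa [inv_mul_cancel_left] at this
      have := c3.conj (a k)
      rwa [cj3 (h.a3 k)] at this)⟩, mc.2 ((mc.1 hu.1.2).conj (a k))⟩
  have h0 : zpowers t ≤ U := le_inf (le_inf (h.tD k) (zpowers_le.2 (mc.2 (h.ct _)))) (zpowers_le.2 (mc.2 (h.ct _)))
  have hU : U ≤ DD R a k := inf_le_left.trans inf_le_left
  rw [le_antisymm (fun x hx => h.cen (hU hx.1) (mc.1 hx.2)) (le_inf h0 (zpowers_le.2 (mc.2 (h.ct _)))),
    h.xs.card_Z] at h1
  have h2 := card_dvd_of_le hU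
  have h3 : Nat.card U ≠ 8 := fun e => hn (h.cenD hi fun x hx =>
    mc.1 ((eq_of_le_of_card_ge hU (by rw [e, (h.cards k).1])).ge hx).1.2)
  rw [(h.cards k).1] at h2
  have h4 := Nat.le_of_dvd (by norm_num) h2
  refine (eq_of_le_of_card_ge h0 ?_).ge (show w ∈ U from ⟨⟨hw, mc.2 c1⟩, mc.2 c2⟩)
  rw [h.xs.card_Z]
  generalize Nat.card U = n at *
  unfold Nat.ModEq at h1
  interval_cases n <;> omega

theorem enum (h : Tri R t a) (hi : i ∈ DD R a k) (hn : i ∉ zpowers t) {j : X} (hj : a k * i * (a k)⁻¹ = j) :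
    i * j ≠ j * i ∧ ∀ w ∈ DD R a k, w ∈ zpowers t ∨ w * i ∈ zpowers t ∨ w * j ∈ zpowers t ∨
      w * (i * j) ∈ zpowers t := by
  have hjD : j ∈ DD R a k := hj ▸ h.cjD hi
  have c : ∀ w ∈ DD R a k, w * i = i * w → w * j = j * w → w ∈ zpowers t := fun w hw c1 c2 =>
    h.cenij hi hn hw c1.symm (hj ▸ c2.symm)
  have n : i * j ≠ j * i := fun e => hn (c i hi rfl e)
  refine ⟨n, fun w hw => ?_⟩
  by_cases c1 : w * i = i * w <;> by_cases c2 : w * j = j * w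
  · exact .inl (c w hw c1 c2)
  · exact .inr (.inl (c _ (mul_mem hw hi) (Commute.mul_left c1 rfl)
      (h.xs.mul_comm_of_ne_of_ne hw.1.1 hi.1.1 hjD.1.1 c2 n)))
  · exact .inr (.inr (.inl (c _ (mul_mem hw hjD)
      (h.xs.mul_comm_of_ne_of_ne hw.1.1 hjD.1.1 hi.1.1 c1 n.symm) (Commute.mul_left c2 rfl))))
  · exact .inr (.inr (.inr (c _ (mul_mem hw (mul_mem hi hjD))
      (h.xs.mul_comm_of_ne_of_ne hw.1.1 (mul_mem hi hjD).1.1 hi.1.1 c1 (XS.mul_ne_of_eq_of_ne rfl n.symm))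
      (h.xs.mul_comm_of_ne_of_ne hw.1.1 (mul_mem hi hjD).1.1 hjD.1.1 c2 (XS.mul_ne_of_ne_of_eq n rfl)))))

/-- a quaternion triple -/
structure Q8 (t a i j : X) : Prop where
  ii : i * i = t
  jj : j * j = t
  ij : i * j = j * i * t
  ai : a * i * a⁻¹ = j
  aj : a * j * a⁻¹ = i * j

theorem q8 (h : Tri R t a) (k : Fin 3) : ∃ i ∈ DD R a k, ∃ j ∈ DD R a k, Q8 t (a k) i j := by
  obtain ⟨i, hr, m, n⟩ := h.wit k
  have hi := mem_DD.2 ⟨hr, m⟩
  have hn : i ∉ zpowers t := fun e => n (by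
    rcases h.xs.mem_Z.1 e with e | e <;> rw [e]
    exacts [Commute.one_right _, h.ct _])
  obtain ⟨j, hj⟩ : ∃ j, a k * i * (a k)⁻¹ = j := ⟨_, rfl⟩
  have hjD : j ∈ DD R a k := hj ▸ h.cjD hi
  have e1 := h.xs.comm_of_ne hr hjD.1.1 (h.enum hi hn hj).1
  have e2 := h.trace hi
  rw [hj] at e2
  obtain ⟨l, hl⟩ : ∃ l, a k * j * (a k)⁻¹ = l := ⟨_, rfl⟩
  rw [hl] at e2
  have sq : ∀ x ∈ R, (a k * x * (a k)⁻¹) * (a k * x * (a k)⁻¹) = x * x := fun x hx => by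
    rw [show (a k * x * (a k)⁻¹) * (a k * x * (a k)⁻¹) = a k * (x * x) * (a k)⁻¹ by group]
    rcases h.xs.sq hx with e | e <;> rw [e]
    exacts [by group, by rw [(h.ct _).eq]; group]
  have s1 := sq i hr
  have s2 := sq j hjD.1.1
  rw [hj] at s1
  rw [hl] at s2
  have tt := h.xs.zz
  have s3 : (i * j) * (i * j) = t := by
    have e3 : j * i = i * j * t := by rw [e1, mul_assoc, tt, mul_one]
    calc _ = i * (j * i) * j := by group
      _ = i * i * (j * (t * j)) := by rw [e3]; group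
      _ = i * i * (i * i) * t := by rw [← (h.ct j).eq, ← mul_assoc j, s1, ← mul_assoc]
      _ = t := by rw [← pow_two, ← pow_two i, ← pow_mul, h.xs.pow_four hr, one_mul]
  have s4 : l = i * j ∨ l = i * j * t := by
    have e4 : (i * j)⁻¹ = i * j * t := by rw [inv_eq_iff_mul_eq_one, ← mul_assoc, s3, tt]
    rcases h.xs.mem_Z.1 e2 with e | e
    · exact .inr (e4 ▸ eq_inv_of_mul_eq_one_right e)
    · exact .inl (by rw [eq_inv_mul_iff_mul_eq.2 e, e4, mul_assoc, tt, mul_one])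
  have pt : ∀ x y : X, x * t * (y * t) = x * y := fun x y => by
    rw [mul_assoc x, ← mul_assoc t, ← (h.ct y).eq, mul_assoc y, tt, mul_one]
  have s5 : i * i = t := by
    rw [← s1, ← s2]
    rcases s4 with e | e <;> rw [e]
    · exact s3
    · rw [pt, s3]
  have ct : ∀ x : X, a k * (x * t) * (a k)⁻¹ = a k * x * (a k)⁻¹ * t := fun x => by
    rw [mul_assoc _ (a k)⁻¹ t, (h.ct (a k)⁻¹).eq]; group
  rcases s4 with e | e
  · exact ⟨i, hi, j, hjD, s5, s1.trans s5, e1, hj, hl.trans e⟩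
  · exact ⟨i * t, mul_mem hi (h.tD k (mem_zpowers t)), j * t, mul_mem hjD (h.tD k (mem_zpowers t)),
      by rw [pt, s5], by rw [pt, s1, s5], by rw [pt, pt, e1], by rw [ct, hj],
      by rw [ct, hl, e, pt, mul_assoc, tt, mul_one]⟩

end Tri

end Cfsg.Agent.H21.F23
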