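import Cfsg.Agent.H78.G40B
import Cfsg.Agent.H26.SLBasic

/-! Project L40G, piece MO3: the model `SL₃(9)`. -/

set_option autoImplicit false

namespace Cfsg.Agent.H21.G40Mo3

open Subgroup Matrix Cfsg.Agent.H46.L40 Cfsg.Agent.H28 Cfsg.Agent.H78.G40
open Cfsg.Agent.H46.S94 (Inn)

theorem n02 : (0 : Fin 3) ≠ 2 := by decide

def pl : List S3 := [1, ⟨!![1, 0, 0; 0, 0, 1; 0, 2, 0], by decide⟩, ⟨!![0, 2, 0; 1, 0, 0; 0, 0, 1], by decide⟩,
  ⟨!![0, 0, 1; 1, 0, 0; 0, 1, 0], by decide⟩, ⟨!![0, 1, 0; 0, 0, 1; 1, 0, 0], by decide⟩,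
  ⟨!![0, 0, 1; 0, 2, 0; 1, 0, 0], by decide⟩]

theorem tv_conj : ∀ (i j : Fin 3) (h : i ≠ j), ∃ p ∈ pl, ∀ a b : ZMod 3,
    ((SpecialLinearGroup.transvection h (⟨a, b⟩ : F9) : X3) * e3 p).1 =
      (e3 p * SpecialLinearGroup.transvection n02 (⟨a, b⟩ : F9)).1 := by
  decide +kernel

theorem tv_eq (a b : ZMod 3) : (SpecialLinearGroup.transvection n02 (⟨a, b⟩ : F9) : X3) =
    e3 (SpecialLinearGroup.transvection n02 a) *
      (e3 w0 * σ3 * e3 (SpecialLinearGroup.transvection n02 b) * (e3 w0 * σ3)⁻¹) := by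
  rw [← mul_assoc, eq_mul_inv_iff_mul_eq]
  refine Subtype.ext ?_
  revert a b
  decide +kernel

theorem gen : Gn e3 {σ3} = ⊤ := by
  have he : ∀ m, e3 m ∈ Gn e3 {σ3} := fun m => subset_closure (.inl ⟨m, rfl⟩)
  have hs : σ3 ∈ Gn e3 {σ3} := subset_closure (.inr rfl)
  refine H26.sl_eq_top_of_transvection_mem _ fun i j h c => ?_
  obtain ⟨a, b⟩ := c
  obtain ⟨p, -, hp⟩ := tv_conj i j h
  have hq : (SpecialLinearGroup.transvection h (⟨a, b⟩ : F9) : X3) * e3 p =
      e3 p * SpecialLinearGroup.transvection n02 (⟨a, b⟩ : F9) := Subtype.ext (hp a b)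
  rw [eq_mul_inv_of_mul_eq hq, tv_eq]
  exact mul_mem (mul_mem (he _) (mul_mem (he _) (mul_mem (mul_mem (mul_mem (he _) hs) (he _))
    (inv_mem (mul_mem (he _) hs))))) (inv_mem (he _))

theorem τe (m : S3) : τ3 (e3 m) = e3 m := by
  ext i j : 1
  have : ∀ x : ZMod 3, star (algebraMap (ZMod 3) F9 x) = algebraMap (ZMod 3) F9 x := by decide +kernel
  exact this (m.1 i j)

theorem θe (m : S3) : θ3 (e3 m) = e3 (tr m) := by
  change itr (Fin 3) F9 (τ3 (e3 m)) = _
  rw [τe]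
  change SpecialLinearGroup.transpose (e3 m)⁻¹ = _
  rw [← map_inv]
  rfl

theorem k0 : ∀ (i j : Fin 3) (hij : i ≠ j),
    (e3 (SpecialLinearGroup.transvection hij 1)).1 = 1 + single i j 1 := by
  decide +kernel

theorem τo : ¬ Inn τ3 := by
  rintro ⟨c, hc⟩
  have h : ∀ m, c * e3 m = e3 m * c := fun m => by
    have := τe m
    rw [hc, MulAut.conj_apply, mul_inv_eq_iff_eq_mul] at this
    exact this
  have hs : c.1 ∈ Set.range (scalar (Fin 3)) := by
    refine mem_range_scalar_of_commute_single fun i j hij => ?_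
    have k := congrArg Subtype.val (h (SpecialLinearGroup.transvection hij 1))
    have k2 := k0 i j hij
    change c.1 * (e3 _).1 = (e3 _).1 * c.1 at k
    rw [k2, mul_add, add_mul, mul_one, one_mul, add_right_inj] at k
    exact k.symm
  obtain ⟨r, hr⟩ := hs
  have h2 : c * σ3 = σ3 * c := Subtype.ext (by
    change c.1 * σ3.1 = σ3.1 * c.1
    rw [← hr]
    exact (scalar_commute r (fun r' => mul_comm r r') σ3.1).eq)
  have h3 : τ3 σ3 = σ3 := by
    rw [hc, MulAut.conj_apply, h2, mul_inv_cancel_right]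
  have h4 : (τ3 σ3).1 ≠ σ3.1 := by decide +kernel
  exact h4 (congrArg Subtype.val h3)

theorem mo3 : Mo3S := fun _ h =>
  { fin := inferInstance
    simple := h.1
    nc := h.2.1
    gen := gen
    ss := Subtype.ext (by decide +kernel)
    sa := by rw [mul_inv_eq_iff_eq_mul]; exact Subtype.ext (by decide +kernel)
    s12 := by rw [mul_inv_eq_iff_eq_mul]; exact Subtype.ext (by decide +kernel)
    s21 := by rw [mul_inv_eq_iff_eq_mul]; exact Subtype.ext (by decide +kernel)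
    br := Subtype.ext (by decide +kernel)
    τe := τe
    τs := by rw [eq_inv_iff_mul_eq_one]; exact Subtype.ext (by decide +kernel)
    τo := τo
    θe := θe
    θs := Subtype.ext (by decide +kernel) }

end Cfsg.Agent.H21.G40Mo3
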