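import Cfsg.Agent.H58.K4B
import Cfsg.Agent.H54.BdCh
import Cfsg.Agent.S0907

/-! Principal blocks with four ordinary and three modular characters: the lattice data. -/

set_option autoImplicit false

namespace Cfsg.Agent.H21.K4Ch

open Cfsg Cfsg.Agent.H17 Cfsg.Agent.H23.SecT Cfsg.Agent.H23.KL Cfsg.Agent.H16 Cfsg.Agent.H76.K0
open Cfsg.Agent.H21 (cZ triv)
open scoped ComplexConjugate Classical

universe u

theorem gen (G : Type u) [Group G] [Fintype G] (θ : G → ℂ)
    (hθ : IsGeneralizedCharacter G θ) (n : ℕ) (hn : 0 < n) (h : ∀ g, IsIntegral ℤ (θ g / n))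
    (a s : ℤ) (h1 : classInner θ (fun _ => 1) = a) (h2 : classInner θ θ = s) :
    (n : ℤ) * a ≤ s := by
  obtain ⟨i1, -⟩ := H54.BdCh.ineq0 G θ hθ n hn h
  have hc : (0 : ℝ) < Nat.card G := by exact_mod_cast (Nat.card_pos (α := G))
  have hc' : (Nat.card G : ℂ) ≠ 0 := by exact_mod_cast hc.ne'
  have e1 : ∑ g, θ g = (Nat.card G : ℂ) * a := by
    rw [← h1, classInner, ← mul_assoc, mul_inv_cancel₀ hc', one_mul]; simp
  have e1' : ∑ g, (θ g).re = (Nat.card G : ℝ) * a := by
    have := congrArg Complex.re e1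
    rw [Complex.re_sum] at this
    rw [this]; simp
  have e2 : ∑ g, θ g * (starRingEnd ℂ) (θ g) = (Nat.card G : ℂ) * s := by
    rw [← h2, classInner, ← mul_assoc, mul_inv_cancel₀ hc', one_mul]
  have e2' : ∑ g, ‖θ g‖ ^ 2 = (Nat.card G : ℝ) * s := by
    have := congrArg Complex.re e2
    rw [Complex.re_sum] at this
    have h3 : ∀ g, (θ g * (starRingEnd ℂ) (θ g)).re = ‖θ g‖ ^ 2 := by
      intro g; rw [Complex.mul_conj, Complex.ofReal_re, Complex.normSq_eq_norm_sq]
    simp only [h3] at this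
    rw [this]; simp
  rw [e1', e2'] at i1
  have : (Nat.card G : ℝ) * ((n : ℝ) * a) ≤ (Nat.card G : ℝ) * s := by linarith
  have := le_of_mul_le_mul_left this hc
  exact_mod_cast this

theorem quad (G : Type u) [Group G] [Fintype G] (χ ψ η : IrrCharacter G) (n12 : χ ≠ ψ) (n13 : χ ≠ η)
    (n23 : ψ ≠ η) (h1 : χ ≠ triv G) (h2 : ψ ≠ triv G) (h3 : η ≠ triv G) (n : ℕ) (hn : 0 < n)
    (a b c d : ℤ)
    (h : ∀ g, IsIntegral ℤ (((a : ℂ) + b * χ.1 g + c * ψ.1 g + d * η.1 g) / n)) :
    (n : ℤ) * a ≤ a ^ 2 + b ^ 2 + c ^ 2 + d ^ 2 := by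
  have ne : ∀ {α β : IrrCharacter G}, α ≠ β → classInner α.1 β.1 = 0 := fun {α β} e =>
    H11.classInner_irr_of_ne α.2 β.2 (fun e' => e (Subtype.ext e'))
  let θ : G → ℂ := (a : ℂ) • (triv G).1 + (b : ℂ) • χ.1 + (c : ℂ) • ψ.1 + (d : ℂ) • η.1
  have hθ : IsGeneralizedCharacter G θ :=
    H11.isGen_add (H11.isGen_add (H11.isGen_add
      (H11.isGen_intCast_smul (H11.isGen_of_irr (triv G).2) a)
      (H11.isGen_intCast_smul (H11.isGen_of_irr χ.2) b))
      (H11.isGen_intCast_smul (H11.isGen_of_irr ψ.2) c))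
      (H11.isGen_intCast_smul (H11.isGen_of_irr η.2) d)
  have hv : ∀ g, θ g = (a : ℂ) + b * χ.1 g + c * ψ.1 g + d * η.1 g := by
    intro g; simp [θ, H21.triv_apply]
  have p0 := H11.classInner_irr_self (triv G).2
  have p1 := H11.classInner_irr_self χ.2
  have p2 := H11.classInner_irr_self ψ.2
  have p3 := H11.classInner_irr_self η.2
  refine gen G θ hθ n hn (fun g => by rw [hv]; exact h g) a _ ?_ ?_
  · rw [← H21.triv_coe]
    simp only [θ, H11.classInner_add_left, H11.classInner_smul_left, p0, ne h1, ne h2, ne h3]; simp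
  · simp only [θ, H11.classInner_add_left, H11.classInner_smul_left, H11.classInner_add_right,
      H11.classInner_smul_right, p0, p1, p2, p3, ne h1, ne h2, ne h3, ne h1.symm, ne h2.symm,
      ne h3.symm, ne n12, ne n13, ne n23, ne n12.symm, ne n13.symm, ne n23.symm]
    simp only [map_intCast]; push_cast; ring

theorem ch {G : Type u} [Group G] [Finite G] {p : ℕ} [Fact p.Prime] {M : Ideal AlgInt}
    (hM : IsPModular p M) (hk : Nat.card (principalBlock M G) = 4)
    (hl : blockRank p (principalBlock M G) = 3) (P : Sylow p G) :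
    p ∣ Nat.card (P : Subgroup G) ∧ ∃ x y z : ℤ, x ≠ 0 ∧ y ≠ 0 ∧ z ≠ 0 ∧
      ((Nat.card (P : Subgroup G) : ℕ) : ℤ) = 1 + x ^ 2 + y ^ 2 + z ^ 2 ∧
      ∀ a b c d : ℤ, ((Nat.card (P : Subgroup G) : ℕ) : ℤ) ∣ b - a * x →
        ((Nat.card (P : Subgroup G) : ℕ) : ℤ) ∣ c - a * y →
        ((Nat.card (P : Subgroup G) : ℕ) : ℤ) ∣ d - a * z →
        ((Nat.card (P : Subgroup G) : ℕ) : ℤ) * a ≤ a ^ 2 + b ^ 2 + c ^ 2 + d ^ 2 := by
  letI := Fintype.ofFinite G
  haveI := H13.finite_irrCharacter (G := G)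
  letI := Fintype.ofFinite (IrrCharacter G)
  have hp := (Fact.out : p.Prime)
  have hB : IsPBlock M (principalBlock M G) := isPBlock_principalBlock
  have hD := dg_principal hM P
  have hq := dg_card hM hB hD
  have hd : blockDefect p (principalBlock M G) ≠ 0 := fun h0 => by
    have := H21.card_eq_one_of_defect_zero hM hB h0
    omega
  have htr := H21.triv_mem_principal (G := G) hM.2.1
  have htr' : triv G ∈ fB (principalBlock M G) := mem_fB.mpr htr
  have hc : (fB (principalBlock M G)).card = 4 := by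
    rw [← hk, Nat.card_eq_fintype_card, Fintype.card_subtype]
  have hc2 : ((fB (principalBlock M G)).erase (triv G)).card = 3 := by
    rw [Finset.card_erase_of_mem htr', hc]
  obtain ⟨χ1, χ2, χ3, n12, n13, n23, he⟩ := Finset.card_eq_three.mp hc2
  have hsum : ∀ {R : Type} [AddCommMonoid R] (f : IrrCharacter G → R),
      ∑ ξ ∈ fB (principalBlock M G), f ξ = f (triv G) + (f χ1 + f χ2 + f χ3) := by
    intro R _ f
    rw [← Finset.add_sum_erase _ _ htr', he, Finset.sum_insert (by simp [n12, n13]),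
      Finset.sum_pair n23, add_assoc]
  have hmem : ∀ χ, χ ∈ (fB (principalBlock M G)).erase (triv G) ↔ χ = χ1 ∨ χ = χ2 ∨ χ = χ3 := by
    intro χ; rw [he]; simp
  have k1 := (hmem χ1).mpr (Or.inl rfl)
  have k2 := (hmem χ2).mpr (Or.inr (Or.inl rfl))
  have k3 := (hmem χ3).mpr (Or.inr (Or.inr rfl))
  have m1 := mem_fB.mp (Finset.mem_of_mem_erase k1)
  have m2 := mem_fB.mp (Finset.mem_of_mem_erase k2)
  have m3 := mem_fB.mp (Finset.mem_of_mem_erase k3)
  have t1 := Finset.ne_of_mem_erase k1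
  have t2 := Finset.ne_of_mem_erase k2
  have t3 := Finset.ne_of_mem_erase k3
  have hreg := H58.K4.reg_eq (G := G) hM
  have hpq : p ∣ Nat.card (P : Subgroup G) := by rw [hq]; exact dvd_pow_self p hd
  obtain ⟨u0, hu0⟩ := exists_prime_orderOf_dvd_card' p hpq
  have hu : p ∣ orderOf (u0 : G) := by rw [Subgroup.orderOf_coe, hu0]
  have horth := fun g hg => Cfsg.Agent.S0907.result p M hM _ hB g (u0 : G) hg hu
  set B := principalBlock M G with hBdef
  have h0 : blockHeight p B (triv G).1 = 0 := H21.height_triv B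
  have hne : ∀ χ ∈ B, cZ p B (triv G) χ ≠ 0 := fun χ hχ =>
    H21.cZ_ne_zero_of_height_zero hM hB htr h0 hχ
  have hpm : ¬ (p : ℤ) ∣ cZ p B (triv G) (triv G) := by
    have := H21.not_pow_succ_dvd_cZ_of_height_zero hM hB htr h0 htr
    rwa [h0, zero_add, pow_one] at this
  have s00 := H21.sum_cZ_mul_cZ hM hB htr htr
  rw [hsum] at s00
  have hsumB : ∀ f : IrrCharacter G → ℂ, ∑ χ : B, f χ = f (triv G) + (f χ1 + f χ2 + f χ3) := by
    intro f
    rw [← hsum f, Finset.sum_subtype (fB B) (fun _ => mem_fB) f]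
  let L := Fintype.linearCombination ℂ (fun χ : B => pRegularPart p (χ.1 : G → ℂ))
  have hker : Module.finrank ℂ (LinearMap.ker L) = 1 := by
    have h1 := LinearMap.finrank_range_add_finrank_ker L
    have h2 : LinearMap.range L =
        Submodule.span ℂ ((fun χ : IrrCharacter G => pRegularPart p (χ : G → ℂ)) '' B) := by
      rw [Fintype.range_linearCombination, Set.image_eq_range]
    have h3 : Module.finrank ℂ (LinearMap.range L) = 3 := by rw [h2]; exact hl
    rw [h3, Module.finrank_fintype_fun_eq_card, ← Nat.card_eq_fintype_card, hk] at h1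
    omega
  have hL : ∀ f : IrrCharacter G → ℂ, (∀ g : G, ¬ p ∣ orderOf g →
      f (triv G) + (f χ1 * χ1.1 g + f χ2 * χ2.1 g + f χ3 * χ3.1 g) = 0) →
      (fun χ : B => f χ) ∈ LinearMap.ker L := by
    intro f hf
    rw [LinearMap.mem_ker]
    funext g
    simp only [L, Fintype.linearCombination_apply, Finset.sum_apply, Pi.smul_apply, smul_eq_mul,
      Pi.zero_apply]
    rw [hsumB (fun χ => f χ * pRegularPart p χ.1 g)]
    by_cases hg : p ∣ orderOf g
    · simp [pRegularPart, IsPRegular, hg]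
    · simpa [pRegularPart, IsPRegular, hg, H21.triv_apply] using hf g hg
  have hv := hL (fun χ => conj (χ.1 u0)) (fun g hg => by
    have := horth g hg
    rw [finsum_mem_eq_finite_toFinset_sum _ (Set.toFinite _),
      show (Set.toFinite B).toFinset = fB B from by ext; simp [mem_fB], hsum] at this
    simp only [H21.triv_apply] at this ⊢
    linear_combination this)
  have hw := hL (fun χ => (if χ = triv G then (p : ℂ) ^ blockDefect p B else 0) - cZ p B (triv G) χ)
    (fun g hg => by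
      have := hreg g
      rw [hsum, if_neg hg] at this
      simp only [H21.triv_apply, if_true, if_neg t1, if_neg t2, if_neg t3] at this ⊢
      linear_combination -this)
  have hv0 : (⟨_, hv⟩ : LinearMap.ker L) ≠ 0 := fun e => by
    have := congrFun (congrArg Subtype.val e) ⟨triv G, htr⟩
    simp [H21.triv_apply] at this
  obtain ⟨c, hc⟩ := (finrank_eq_one_iff_of_nonzero' _ hv0).mp hker ⟨_, hw⟩
  have hc' : ∀ χ (h : χ ∈ B), c * conj (χ.1 u0) =
      (if χ = triv G then (p : ℂ) ^ blockDefect p B else 0) - cZ p B (triv G) χ := fun χ h =>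
    congrFun (congrArg Subtype.val hc) ⟨χ, h⟩
  obtain ⟨m, hm⟩ : ∃ m : ℤ, m = (p : ℤ) ^ blockDefect p B - cZ p B (triv G) (triv G) := ⟨_, rfl⟩
  have hcm : c = m := by
    have := hc' _ htr
    simp only [H21.triv_apply, map_one, mul_one, if_true] at this
    rw [this, hm]; push_cast; ring
  have hpm' : ¬ (p : ℤ) ∣ m := fun h => hpm (by
    have : cZ p B (triv G) (triv G) = (p : ℤ) ^ blockDefect p B - m := by rw [hm]; ring
    rw [this]; exact dvd_sub (dvd_pow_self _ hd) h)
  have hm0 : m ≠ 0 := fun h => hpm' (h ▸ dvd_zero _)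
  have hint : ∀ (χ : IrrCharacter G) (g : G), IsIntegral ℤ (χ.1 g) := fun χ g =>
    H12.IsGeneralizedCharacter_isIntegral (H11.isGen_of_irr χ.2) g
  have hdv : ∀ χ ∈ B, χ ≠ triv G → ∃ x : ℤ, cZ p B (triv G) χ = -(m * x) := fun χ h ht => by
    have := hc' χ h
    rw [if_neg ht, hcm, H17.irr_conj] at this
    obtain ⟨x, hx⟩ := H58.K4.dvd_of_eq (m := -cZ p B (triv G) χ) hm0 (hint χ (u0 : G)⁻¹)
      (by push_cast; linear_combination -this)
    exact ⟨x, by linear_combination -hx⟩
  obtain ⟨x, hx⟩ := hdv _ m1 t1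
  obtain ⟨y, hy⟩ := hdv _ m2 t2
  obtain ⟨z, hz⟩ := hdv _ m3 t3
  have h11 : cZ p B (triv G) (triv G) = (p : ℤ) ^ blockDefect p B - m := by rw [hm]; ring
  have hN : m * (1 + x ^ 2 + y ^ 2 + z ^ 2) = (p : ℤ) ^ blockDefect p B := by
    rw [h11, hx, hy, hz] at s00
    apply mul_left_cancel₀ hm0
    linear_combination s00
  have hm1 : m = 1 := by
    have hcop : IsCoprime m ((p : ℤ) ^ blockDefect p B) :=
      (((Nat.prime_iff_prime_int.mp hp).irreducible.coprime_iff_not_dvd.mpr hpm').symm).pow_right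
    have hu := Int.isUnit_iff.mp (hcop.isUnit_of_dvd ⟨_, hN.symm⟩)
    rcases hu with h | h
    · exact h
    · exfalso
      have : (0 : ℤ) < (p : ℤ) ^ blockDefect p B := pow_pos (by exact_mod_cast hp.pos) _
      rw [h] at hN
      nlinarith [sq_nonneg x, sq_nonneg y, sq_nonneg z]
  subst hm1
  have hqz : ((Nat.card (P : Subgroup G) : ℕ) : ℤ) = (p : ℤ) ^ blockDefect p B := by
    rw [hq]; push_cast; rfl
  refine ⟨hpq, x, y, z, fun h => hne _ m1 (by rw [hx, h]; simp), fun h => hne _ m2 (by rw [hy, h]; simp),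
    fun h => hne _ m3 (by rw [hz, h]; simp), by rw [hqz, ← hN]; ring, ?_⟩
  rintro a b c' d ⟨b', hb⟩ ⟨c'', hc3⟩ ⟨d', hd3⟩
  refine quad G χ1 χ2 χ3 n12 n13 n23 t1 t2 t3 _ Nat.card_pos a b c' d fun g => ?_
  have hq0 : ((Nat.card (P : Subgroup G) : ℕ) : ℂ) ≠ 0 := by exact_mod_cast Nat.card_pos.ne'
  have hqc : (p : ℂ) ^ blockDefect p B = ((Nat.card (P : Subgroup G) : ℕ) : ℂ) := by
    rw [hq]; push_cast; rfl
  have hg := hreg g
  rw [hsum, h11, hx, hy, hz, H21.triv_apply] at hg
  push_cast at hg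
  rw [hqc] at hg
  have eb : (b : ℂ) = a * x + (Nat.card (P : Subgroup G) : ℕ) * b' := by
    have : b = a * x + (Nat.card (P : Subgroup G) : ℕ) * b' := by linear_combination hb
    exact_mod_cast this
  have ec : (c' : ℂ) = a * y + (Nat.card (P : Subgroup G) : ℕ) * c'' := by
    have : c' = a * y + (Nat.card (P : Subgroup G) : ℕ) * c'' := by linear_combination hc3
    exact_mod_cast this
  have ed : (d : ℂ) = a * z + (Nat.card (P : Subgroup G) : ℕ) * d' := by
    have : d = a * z + (Nat.card (P : Subgroup G) : ℕ) * d' := by linear_combination hd3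
    exact_mod_cast this
  have hI : ∀ t : ℤ, IsIntegral ℤ ((t : ℂ) + b' * χ1.1 g + c'' * χ2.1 g + d' * χ3.1 g) := fun t =>
    (((isIntegral_algebraMap (x := t)).add ((isIntegral_algebraMap (x := b')).mul (hint χ1 g))).add
      ((isIntegral_algebraMap (x := c'')).mul (hint χ2 g))).add
      ((isIntegral_algebraMap (x := d')).mul (hint χ3 g))
  by_cases hs : p ∣ orderOf g
  · rw [if_pos hs] at hg
    convert hI a using 1
    rw [div_eq_iff hq0, eb, ec, ed]
    linear_combination (-(a : ℂ)) * hg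
  · rw [if_neg hs] at hg
    convert hI 0 using 1
    rw [div_eq_iff hq0, eb, ec, ed]
    push_cast
    linear_combination (-(a : ℂ)) * hg

end Cfsg.Agent.H21.K4Ch
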