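import Cfsg.Agent.H21.L3S

/-! Groups with an element of order three whose centralizer is `3³ : S₃`: centralizers in `J`. -/

set_option autoImplicit false
set_option synthInstance.maxSize 4096
set_option synthInstance.maxHeartbeats 200000

universe u

namespace Cfsg.Agent.H21.L3

open Equiv Subgroup Cfsg Cfsg.Agent.H63 Cfsg.Agent.H67 Cfsg.Agent.H57 Cfsg.Agent.H91.Pr
open N9 (HH)

/-- translations in `HH k` -/
def jv (k : Fin 4) (v : V) : HH k := ⟨tv v, tv_mem k v⟩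

theorem tri_aux : ∀ (k : Fin 4) (v : V), v ≠ 0 →
    (∃ s p, N9.cond k (s 0) (s 1) (s 2) ∧ (mon s p 1 = v ∨ mon s p 1 = -v)) ∨
    (∀ s p, N9.cond k (s 0) (s 1) (s 2) → mon s p v = v → ∀ u, mon s p (mon s p u) = u) ∨
    (k = 3 ∧ ∃ s p, mon s p ![0, 0, 1] = v) := by decide +kernel

variable {G : Type u} [Group G] [Finite G]

omit [Finite G] in
theorem mem_of_pow {J : Subgroup G} {g : G} (h3 : g ^ 3 ∈ J) (h4 : g ^ 4 ∈ J) : g ∈ J := by
  rwa [pow_succ, mul_mem_cancel_left h3] at h4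

namespace St

variable {k : Fin 4} {ν : HH k →* G} {J : Subgroup G} (h : St ν J)
include h

omit [Finite G] in
theorem eq {x y : HH k} : ν x = ν y ↔ x.1 = y.1 := h.inj.eq_iff.trans Subtype.ext_iff

omit [Finite G] in
theorem mJ' {x : HH k} : ν x ∈ J ↔ x.1 ∈ N9.J := by
  rw [h.hJ]; exact mem_map_iff_mem h.inj

omit [Finite G] in
theorem mN {g : G} : g ∈ N[J] ↔ ∃ x, ν x = g := by rw [← h.rng]; rfl

omit [Finite G] in
theorem memN (x : HH k) : ν x ∈ N[J] := h.mN.2 ⟨x, rfl⟩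

omit [Finite G] in
theorem memJ (v : V) : ν (jv k v) ∈ J := h.mJ'.2 ⟨rfl, rfl, rfl, rfl⟩

omit [Finite G] in
theorem mJ {g : G} (hg : g ∈ J) : ∃ v, ν (jv k v) = g := by
  obtain ⟨x, rfl⟩ := h.mN.1 (le_normalizer hg)
  exact ⟨x.1.v, h.eq.2 (eq_tv (h.mJ'.1 hg))⟩

omit h [Finite G] in
theorem ac (x : HH k) (v : V) :
    ν x * ν (jv k v) * (ν x)⁻¹ = ν (jv k (mon x.1.s x.1.p v)) := by
  rw [← map_inv, ← map_mul, ← map_mul]; exact congrArg ν (Subtype.ext (conj_tv _ _))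

omit [Finite G] in
theorem jeq {v w : V} : ν (jv k v) = ν (jv k w) ↔ v = w :=
  h.eq.trans ⟨fun e => congrArg N9.v e, fun e => congrArg tv e⟩

omit h [Finite G] in
theorem jadd (v w : V) : ν (jv k (v + w)) = ν (jv k v) * ν (jv k w) := by
  rw [← map_mul]; exact congrArg ν (Subtype.ext (tv_add _ _))

omit h [Finite G] in
theorem jneg (v : V) : ν (jv k (-v)) = (ν (jv k v))⁻¹ := by
  rw [← map_inv]; exact congrArg ν (Subtype.ext (tv_neg _))

omit h [Finite G] in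
theorem jzero : ν (jv k 0) = 1 := map_one ν

omit [Finite G] in
theorem cm {x y : G} (hx : x ∈ J) (hy : y ∈ J) : x * y = y * x := by
  obtain ⟨v, rfl⟩ := h.mJ hx
  obtain ⟨w, rfl⟩ := h.mJ hy
  rw [← jadd, ← jadd, add_comm]

omit [Finite G] in
theorem comm : IsMulCommutative J := ⟨⟨fun x y => Subtype.ext (h.cm x.2 y.2)⟩⟩

omit [Finite G] in
theorem exp {x : G} (hx : x ∈ J) : x ^ 3 = 1 := by
  obtain ⟨v, rfl⟩ := h.mJ hx
  rw [← map_pow, ← map_one ν]; exact congrArg ν (Subtype.ext (tv_cube v))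

omit [Finite G] in
theorem pJ : IsPGroup 3 J := fun x => ⟨1, Subtype.ext (h.exp x.2)⟩

omit [Finite G] in
theorem card : Nat.card J = 27 := by
  rw [h.hJ, card_map_of_injective h.inj, card_subgroupOf, card_J]
  exact fun x hx => eq_tv hx ▸ tv_mem k _

omit [Finite G] in
theorem ca' : C1[ν (jv k 1)] ≤ N[J] := by
  rw [show jv k 1 = ⟨N9.a, N9.a_mem_HH k⟩ from Subtype.ext tv_one]; exact h.ca

omit [Finite G] in
theorem cent {g : G} (hg : ∀ d ∈ J, g * d * g⁻¹ = d) : g ∈ J := by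
  obtain ⟨x, rfl⟩ := h.mN.1 (h.ca' (mem_centralizer_singleton_iff.2
    (mul_inv_eq_iff_eq_mul.1 (hg _ (h.memJ 1)))))
  exact h.mJ'.2 (mon_id (funext fun v => h.jeq.1 ((ac x v).symm.trans (hg _ (h.memJ v)))))

omit [Finite G] in
theorem e27 {A : Subgroup G} (hA : A ≤ N[J]) (hc : IsMulCommutative A) (h3 : ∀ x ∈ A, x ^ 3 = 1)
    (h27 : Nat.card A = 27) : A = J := by
  rw [← h.rng] at hA
  rw [h.hJ, ← L3.e27 (A := (A.comap ν).map (HH k).subtype) ?_ ?_ ?_, subgroupOf_map_subtype',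
    map_comap_eq_self hA]
  · refine ⟨⟨fun ⟨_, y, hy, rfl⟩ ⟨_, z, hz, rfl⟩ => Subtype.ext ?_⟩⟩
    exact congrArg (fun w : HH k => w.1) (h.inj (by
      rw [map_mul, map_mul, comm_of_isMulCommutative hc hy hz]) : y * z = z * y)
  · rintro _ ⟨y, hy, rfl⟩
    exact congrArg Subtype.val (h.inj (by rw [map_pow, h3 _ hy, map_one]) : y ^ 3 = 1)
  · rw [card_map_subtype, ← card_map_of_injective h.inj, map_comap_eq_self hA, h27]

omit [Finite G] in
theorem le_cent {w : G} (hw : w ∈ J) : J ≤ C1[w] := fun _ hx =>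
  mem_centralizer_singleton_iff.2 (h.cm hx hw)

omit [Finite G] in
theorem mem_of_cj {g : G} (hg : cj g J ≤ N[J]) : g ∈ N[J] :=
  cj_eq_self_iff.1 (h.e27 hg (isMulCommutative_cj_iff.2 h.comm) (fun x hx => by
    obtain ⟨y, hy, rfl⟩ := mem_cj'.1 hx
    rw [conj_pow, h.exp hy, mul_one, mul_inv_cancel]) (by rw [card_cj, h.card]))

omit [Finite G] in
theorem ti {g w : G} (hw : w ∈ J) (hC : C1[g * w * g⁻¹] ≤ N[J]) : g ∈ N[J] :=
  h.mem_of_cj ((cj_mono (h.le_cent hw)).trans ((cj_centralizer_singleton g w).trans_le hC))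

theorem sq {w : G} (hw : w ∈ J) (w1 : w ≠ 1) (h4 : ∀ n ∈ N[J], n * w = w * n → n ^ 4 ∈ J) :
    SQ (zpowers w) J C1[w] where
  nB := ⟨zpowers_le.2 (mem_centralizer_singleton_self w),
    le_normalizer_of_le_centralizer (centralizer_zpowers w).ge⟩
  BD := zpowers_le.2 hw
  DY := h.le_cent hw
  idx := by
    have := card_mul_relIndex (zpowers_le.2 hw)
    rw [Nat.card_zpowers, orderOf_eq_three (h.exp hw) w1, h.card] at this
    omega
  comm x hx y hy := by rw [h.cm hx hy, mul_inv_cancel_right, mul_inv_cancel]; exact one_mem _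
  exp x hx := h.exp hx ▸ one_mem _
  cent g hg hd := by
    have hg := mem_centralizer_singleton_iff.1 hg
    refine mem_of_pow (h.cent fun d dJ => ?_) (h4 g (mem_normalizer_fintype fun d dJ =>
      (mul_mem_cancel_right (inv_mem dJ)).1 (zpowers_le.2 hw (hd d dJ))) hg)
    obtain ⟨i, hi⟩ := hd d dJ
    have e1 : g * d * g⁻¹ = w ^ i * d := (eq_mul_inv_iff_mul_eq.1 hi).symm
    have e2 : g * w ^ i * g⁻¹ = w ^ i := by rw [← conj_zpow, hg, mul_inv_cancel_right]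
    have e3 : w ^ i * w ^ i * w ^ i = 1 := by
      rw [← pow_three', h.exp (zpow_mem hw i)]
    rw [show g ^ 3 * d * (g ^ 3)⁻¹ = g * (g * (g * d * g⁻¹) * g⁻¹) * g⁻¹ by
      simp only [pow_succ, pow_zero, one_mul, mul_inv_rev, mul_assoc], e1, conj_mul_of e2 e1,
      conj_mul_of e2 (conj_mul_of e2 e1), ← mul_assoc, ← mul_assoc, e3, one_mul]
  four n hn hN := h4 n hN (mem_centralizer_singleton_iff.1 hn)
  sig := (h.sig.mono le_top).sigQ (isPGroup_zpowers_of_pow (h.exp hw)) (centralizer_zpowers w).ge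

theorem sylJ {w : G} (hw : w ∈ J) (h4 : ∀ n ∈ N[J], n * w = w * n → n ^ 4 ∈ J) :
    IsSyl 3 J C1[w] := by
  by_contra hc
  obtain ⟨Q, h1, h2, h3⟩ := exists_lt_pgroup_normalizer (h.le_cent hw) h.pJ hc
  refine h1.not_ge fun q hq => ?_
  obtain ⟨n, hn⟩ := h3 ⟨_, hq⟩
  obtain ⟨m, hm⟩ := exists_pow_eq_self_of_coprime (x := q) (n := 4)
    (Nat.Coprime.coprime_dvd_right (orderOf_dvd_of_pow_eq_one (congrArg Subtype.val hn))
      (Nat.Coprime.pow_right n (by norm_num)))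
  exact hm ▸ pow_mem (h4 q (h2 hq).2 (mem_centralizer_singleton_iff.1 (h2 hq).1)) m

theorem fus {g w : G} (hw : w ∈ J) (hS : IsSyl 3 J C1[g * w * g⁻¹]) :
    ∃ n ∈ N[J], n * w * n⁻¹ = g * w * g⁻¹ := by
  obtain ⟨c, hc, h1⟩ := exists_cj_le_syl hS
    ((cj_mono (h.le_cent hw)).trans (cj_centralizer_singleton g w).le) (isPGroup_cj h.pJ g)
  rw [cj_cj] at h1
  refine ⟨c * g, mem_normalizer_of_cj_le h1, ?_⟩
  rw [← mul_inv_cancel_right (g * w * g⁻¹) c, ← mem_centralizer_singleton_iff.1 hc]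
  group

theorem tri {w : G} (hw : w ∈ J) (w1 : w ≠ 1) :
    C1[w] ≤ N[J] ∨ (k = 3 ∧ ∃ n ∈ N[J], n * ν (jv k ![0, 0, 1]) * n⁻¹ = w) := by
  obtain ⟨v, rfl⟩ := h.mJ hw
  rcases tri_aux k v (fun e => w1 (e ▸ jzero)) with ⟨s, p, hs, e⟩ | h1 | ⟨rfl, s, p, e⟩
  · left
    have h1 := cj_le_of_mem_normalizer (le_normalizer (h.memN ⟨⟨0, s, p⟩, hs⟩)) h.ca'
    rw [cj_centralizer_singleton, ac] at h1
    rcases e with e | e
    · exact e ▸ h1
    · rwa [show mon s p 1 = -v from e, jneg, ← centralizer_zpowers, zpowers_inv,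
        centralizer_zpowers] at h1
  · have h2 : ∀ n ∈ N[J], n * ν (jv k v) = ν (jv k v) * n → n * n ∈ J := fun n hn e => by
      obtain ⟨x, rfl⟩ := h.mN.1 hn
      rw [← mul_inv_eq_iff_eq_mul, ac, h.jeq] at e
      rw [← map_mul, h.mJ']
      exact mon_id ((mon_mul _ _).trans (funext (h1 _ _ x.2 e)))
    exact .inl ((h.sq hw w1 fun n hn e => by
      rw [show n ^ 4 = n * n * (n * n) by simp only [pow_succ, pow_zero, one_mul, mul_assoc]]
      exact mul_mem (h2 n hn e) (h2 n hn e)).normal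
        fun n hn hN => h2 n hN (mem_centralizer_singleton_iff.1 hn))
  · exact .inr ⟨rfl, _, h.memN ⟨⟨0, s, p⟩, by simp [N9.HH_three]⟩, (ac _ _).trans (by rw [← e])⟩

end St

end Cfsg.Agent.H21.L3
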