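import Cfsg.Agent.H21.L3C
import Cfsg.Agent.H12.L3Alpha

/-! The `3`-transfer step when all centralizers of elements of `J` normalize `J`. -/

set_option autoImplicit false
set_option synthInstance.maxSize 4096
set_option synthInstance.maxHeartbeats 200000

universe u

namespace Cfsg.Agent.H21.L3

open Equiv Subgroup Cfsg Cfsg.Agent.H63 Cfsg.Agent.H67 Cfsg.Agent.H57 Cfsg.Agent.H91.Pr
open N9 (HH)
open scoped commutatorElement

theorem na_aux : ∀ (s : Fin 3 → (ZMod 3)ˣ) p, N9.cond 2 (s 0) (s 1) (s 2) →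
    (mon s p 1 = 1 ∨ mon s p 1 = -1) → N9.cond 0 (s 0) (s 1) (s 2) := by decide +kernel

theorem ca_aux : ∀ (s : Fin 3 → (ZMod 3)ˣ) p, mon s p 1 = 1 → N9.cond 0 (s 0) (s 1) (s 2) := by
  decide +kernel

theorem a4_aux : ∀ (s : Fin 3 → (ZMod 3)ˣ) p, N9.cond 2 (s 0) (s 1) (s 2) → Perm.sign p = 1 →
    p = 1 ∨ ∀ v, mon s p (mon s p (mon s p v)) = v := by decide +kernel

theorem fix_aux : ∀ w v : V, (1 = w ∨ 1 = -w) → (v = 0 ∨ v = w ∨ v = -w) → v = 0 ∨ v = 1 ∨ v = -1 := by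
  decide +kernel

theorem v4_aux : ∀ (k : Fin 4) (a b c : (ZMod 3)ˣ), N9.cond k a b c → N9.cond 2 a b c →
    (a = 1 ∧ b = 1 ∧ c = 1) ∨ (N9.sg 1 (-1) (-1) ∈ HH k ∧ N9.sg (-1) 1 (-1) ∈ HH k ∧
      (∃ p, N9.pm p * N9.sg a b c * (N9.pm p)⁻¹ = N9.sg 1 (-1) (-1)) ∧
      ∃ p, N9.pm p * N9.sg a b c * (N9.pm p)⁻¹ = N9.sg (-1) 1 (-1)) := by decide +kernel

theorem v4_gen : ∀ a b c : (ZMod 3)ˣ, N9.cond 2 a b c → ∃ i j : Fin 2,
    N9.sg a b c = N9.sg 1 (-1) (-1) ^ i.1 * N9.sg (-1) 1 (-1) ^ j.1 := by decide +kernel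

theorem eq_tv_sg {x : N9} (h : x.p = 1) : x = tv x.v * N9.sg (x.s 0) (x.s 1) (x.s 2) := by
  ext i <;> fin_cases i <;> simp [tv, N9.sg, h]

theorem ss_cube {y : N9} (hy : y ∈ SS) : y ^ 3 ∈ N9.J := by
  obtain ⟨a, b, c⟩ := (pow_mem hy.1 3).1 rfl
  have : ∀ p : Perm (Fin 3), Perm.sign p = 1 → p ^ 3 = 1 := by decide
  exact ⟨(map_pow pp y 3).trans (this _ hy.2), a, b, c⟩

theorem ss_comm {y z : N9} (hy : y ∈ SS) (hz : z ∈ SS) : y * (z * y * z⁻¹)⁻¹ ∈ N9.J := by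
  have hy1 : y ∈ HH 0 := hy.1
  have hz1 : z ∈ HH 0 := hz.1
  obtain ⟨a, b, c⟩ := (mul_mem hy1 (inv_mem (mul_mem (mul_mem hz1 hy1) (inv_mem hz1)))).1 rfl
  have : ∀ p q : Perm (Fin 3), Perm.sign p = 1 → Perm.sign q = 1 → p * (q * p * q⁻¹)⁻¹ = 1 := by
    decide
  exact ⟨this _ _ hy.2 hz.2, a, b, c⟩

theorem J_le_SS : N9.J ≤ SS := fun x hx =>
  ⟨eq_tv hx ▸ tv_mem 0 _, show Perm.sign x.p = 1 by rw [hx.1, map_one]⟩

theorem v_gen : ∀ v : V, ∃ i j l : Fin 3,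
    tv v = tv ![1, 0, 0] ^ i.1 * tv ![0, 1, 0] ^ j.1 * tv ![0, 0, 1] ^ l.1 := by decide +kernel

variable {G : Type u} [Group G] [Finite G]

namespace St

variable {k : Fin 4} {ν : HH k →* G} {J : Subgroup G} (h : St ν J)
include h

omit [Finite G] in
theorem a_ne : ν (jv k 1) ≠ 1 := by rw [← jzero (ν := ν), Ne, h.jeq]; decide

omit [Finite G] in
theorem trans {y : HH k} (h3 : y.1 ^ 3 ∈ N9.J) (hy : ν y ∉ J) {w : G} (hw : w ∈ J)
    (e : ν y * w = w * ν y) : ∃ n ∈ J, n * ν y * n⁻¹ = w * ν y := by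
  obtain ⟨v, rfl⟩ := h.mJ hw
  rw [← mul_inv_eq_iff_eq_mul, ac, h.jeq] at e
  obtain ⟨n, rfl⟩ := (cube h3 (mt h.mJ'.2 hy)).2.2 v e
  exact ⟨_, h.memJ n, by rw [sub_eq_add_neg, jadd, jneg, ← ac]; group⟩

theorem syl : IsSyl 3 ((SS.subgroupOf (HH k)).map ν) ⊤ := by
  refine syl_mk le_top (isPGroup_SS.comap_subtype.map ν) fun hd =>
    not_dvd (ν.comp (inclusion (le_HH k))) (h.inj.comp (inclusion_injective _)) (fun g hg => ?_) ?_
  · obtain ⟨x, rfl⟩ := h.mN.1 (h.ca hg)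
    have e := mem_centralizer_singleton_iff.1 hg
    rw [show (ν.comp (inclusion (le_HH k))) ⟨N9.a, N9.a_mem_HH 0⟩ = ν (jv k 1) from
      congrArg ν (Subtype.ext tv_one.symm), ← mul_inv_eq_iff_eq_mul, ac, h.jeq] at e
    exact ⟨⟨x.1, ca_aux _ _ e⟩, rfl⟩
  · rw [← card_top, ← card_mul_relIndex (le_top : (SS.subgroupOf (HH k)).map ν ≤ ⊤),
      card_map_of_injective h.inj, card_subgroupOf (show SS ≤ HH k from inf_le_left.trans (le_HH k)), card_SS]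
    exact mul_dvd_mul_left 81 hd

variable (hC : ∀ w ∈ J, w ≠ 1 → C1[w] ≤ N[J])
include hC

omit [Finite G] in
theorem ti' {g w : G} (hw : w ∈ J) (w1 : w ≠ 1) (hg : g * w * g⁻¹ ∈ J) : g ∈ N[J] :=
  h.ti hw (hC _ hg (mt conj_eq_one_iff.1 w1))

theorem end3 {K : Subgroup G} [hK : K.Normal] (hJK : J ≤ K)
    (hA : ∀ x : HH k, ν x ∈ K → Perm.sign x.1.p = 1 ∧ x.1 ∈ HH 2) : J.Normal := by
  have hS := h.syl
  set S := (SS.subgroupOf (HH k)).map ν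
  set a := ν (jv k 1) with ha
  have aJ : a ∈ J := h.memJ 1
  have mS : ∀ {x : HH k}, ν x ∈ S ↔ x.1 ∈ SS := mem_map_iff_mem h.inj
  have JS : J ≤ S := h.hJ ▸ map_mono (comap_mono J_le_SS)
  have cS : ∀ {g : G}, g ∈ S → g * a = a * g := by
    rintro _ ⟨x, hx, rfl⟩
    rw [ha, ← map_mul, ← map_mul, h.eq]
    show x.1 * tv 1 = tv 1 * x.1
    rw [tv_one]; exact comm_a _ hx.1
  have NA : ∀ g ∈ K, ∀ y ∈ S, y ∉ J → g * a * g⁻¹ ∈ J → y * (g * a * g⁻¹) = g * a * g⁻¹ * y →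
      g ∈ S := by
    rintro g hg _ ⟨y, hy, rfl⟩ yJ h1 h2
    obtain ⟨x, rfl⟩ := h.mN.1 (h.ti' hC aJ h.a_ne h1)
    obtain ⟨w, hw⟩ := (cube (ss_cube hy) (mt h.mJ'.2 yJ)).2.1
    rw [ha, ac, ← mul_inv_eq_iff_eq_mul, ac, h.jeq] at h2
    refine mS.2 ⟨na_aux _ _ (hA x hg).2 ((fix_aux w _ ((hw 1 ?_).resolve_left (by decide))
      (hw _ h2)).resolve_left fun e => h.a_ne ?_), (hA x hg).1⟩
    · exact comm_tv.1 (by rw [tv_one]; exact comm_a _ hy.1)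
    · exact conj_eq_one_iff.1 (show ν x * ν (jv k 1) * (ν x)⁻¹ = 1 by rw [ac, e, jzero])
  have SC : ∀ g, ∀ w ∈ J, g * w * g⁻¹ ∈ S → g * w * g⁻¹ ∈ J := fun g w hw hy => by
    by_contra yJ
    have w1 : w ≠ 1 := fun e => yJ (by rw [e, mul_one, mul_inv_cancel]; exact one_mem _)
    have c1 := cS hy
    obtain ⟨y, hy0, e⟩ := hy
    obtain ⟨x, hx⟩ := h.mN.1 (hC w hw w1 (show g⁻¹ * a * g ∈ C1[w] from
      mem_centralizer_singleton_iff.2 (by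
        calc _ = g⁻¹ * (a * (g * w * g⁻¹)) * g := by group
          _ = _ := by rw [← c1]; group)))
    have xJ : ν x ∉ J := fun hm => yJ (conj_mem_of_mem_normalizer (by
      simpa using inv_mem (h.ti' hC aJ h.a_ne (g := g⁻¹) (by rwa [inv_inv, ← hx]))) hw)
    obtain ⟨n, nJ, hn⟩ := h.trans (ss_cube hy0) (e ▸ yJ) aJ (e ▸ c1)
    obtain ⟨m, mJ, hm⟩ := h.trans (y := x) (by
        rw [← Subgroup.coe_pow, ← h.mJ', map_pow, hx, ← inv_inv g, inv_inv g⁻¹, conj_pow, h.exp aJ]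
        simp) xJ hw (by
      rw [hx]
      calc _ = g⁻¹ * (a * (g * w * g⁻¹)) * g := by group
        _ = _ := by rw [← c1]; group)
    have y3 : ν y ^ 3 = 1 := by rw [e, conj_pow, h.exp hw, mul_one, mul_inv_cancel]
    have e1 : g * m * g⁻¹ * a * (g * m * g⁻¹)⁻¹ = ν y * a := by
      rw [e]
      calc _ = g * (m * (g⁻¹ * a * g) * m⁻¹) * g⁻¹ := by group
        _ = _ := by rw [← hx, hm, hx]; group
    have e2 : g * m * g⁻¹ * ν y * (g * m * g⁻¹)⁻¹ = ν y := by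
      rw [e]
      calc _ = g * (m * w * m⁻¹) * g⁻¹ := by group
        _ = _ := by rw [h.cm mJ hw, mul_inv_cancel_right]
    have e3 : n * a * n⁻¹ = a := by rw [h.cm nJ aJ, mul_inv_cancel_right]
    have hk : n * (g * m * g⁻¹) ∈ K := mul_mem (hJK nJ) (hK.conj_mem _ (hJK mJ) g)
    generalize g * m * g⁻¹ = r at e1 e2 hk
    have f1 : n * r * a * (n * r)⁻¹ = a * ν y * a := by
      rw [← conj_mul_of hn e3, ← e1]; group
    have f2 : n * r * ν y * (n * r)⁻¹ = a * ν y := by rw [← hn, ← congrArg (n * · * n⁻¹) e2]; group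
    have cc : Commute a (ν y) := (e ▸ c1 :).symm
    have f3 : n * r * (n * r) * a * (n * r * (n * r))⁻¹ = a⁻¹ := by
      rw [conj_two f1 (conj_mul_of (conj_mul_of f1 f2) f1), eq_inv_iff_mul_eq_one]
      calc _ = a ^ 3 * a ^ 3 * ν y ^ 3 := by
            simp only [pow_succ, pow_zero, one_mul, mul_assoc, cc.symm.left_comm, cc.symm.eq]
        _ = 1 := by rw [h.exp aJ, y3]; group
    have f4 := cS (NA _ (mul_mem hk hk) _ (mS.2 hy0) (e ▸ yJ) (f3 ▸ inv_mem aJ)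
      (f3 ▸ cc.inv_left.symm))
    rw [f4, mul_inv_cancel_right] at f3
    have := h.exp aJ
    rw [pow_succ, pow_two, eq_inv_iff_mul_eq_one.1 f3, one_mul] at this
    exact h.a_ne this
  have hSK : IsSyl 3 (S ⊓ K) K := hall_inf_normal hS ⟨le_top, le_normalizer_of_normal⟩
  have hF : S ⊓ K ⊓ ⁅K, K⁆ ≤ J := focal_subgroup_le hSK fun x hx u hu hm => by
    rw [show ⁅x, u⁆ = x * (u * x * u⁻¹)⁻¹ by rw [commutatorElement_def]; group]
    by_cases xJ : x ∈ J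
    · exact mul_mem xJ (inv_mem (SC u x xJ hm.1))
    have xJ' : u * x * u⁻¹ ∉ J := fun e => xJ (by simpa [mul_assoc] using SC u⁻¹ _ e (by simpa [mul_assoc] using hx.1))
    have aE : a ∈ S ⊓ K ⊓ C1[u * x * u⁻¹] :=
      ⟨⟨JS aJ, hJK aJ⟩, mem_centralizer_singleton_iff.2 (cS hm.1).symm⟩
    have NE : ∀ q ∈ K, q * a * q⁻¹ ∈ S ⊓ K ⊓ C1[u * x * u⁻¹] → q ∈ S := fun q hq h1 =>
      NA q hq _ hm.1 xJ' (SC q a aJ h1.1.1) (mem_centralizer_singleton_iff.1 h1.2).symm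
    have hE : IsSyl 3 (S ⊓ K ⊓ C1[u * x * u⁻¹]) (K ⊓ C1[u * x * u⁻¹]) :=
      syl_of_normalizer_le (syl_self (((syl_isPGroup hS).to_inf_left).to_inf_left))
        (inf_le_inf_right _ inf_le_right) fun q hq =>
          ⟨⟨NE q hq.1.1 (conj_mem_of_mem_normalizer hq.2 aE), hq.1.1⟩, hq.1.2⟩
    obtain ⟨c, hc, h1⟩ := exists_cj_le_syl hE (K := zpowers (u * a * u⁻¹)) (zpowers_le.2
      ⟨hK.conj_mem _ (hJK aJ) u, mem_centralizer_singleton_iff.2 (by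
        rw [← conj_mul_of rfl rfl, ← conj_mul_of rfl rfl, cS hx.1])⟩)
      (isPGroup_zpowers_of_pow (p := 3) (by rw [conj_pow, h.exp aJ, mul_one, mul_inv_cancel]))
    obtain ⟨z, hz, e⟩ := NE (c * u) (mul_mem hc.1 hu) (by
      simpa only [mul_assoc, mul_inv_rev] using h1 (conj_mem_cj (mem_zpowers _)))
    obtain ⟨y, hy, rfl⟩ := hx.1
    have e1 : u * ν y * u⁻¹ = ν z * ν y * (ν z)⁻¹ := by
      rw [e, ← mul_inv_cancel_right (u * ν y * u⁻¹) c, ← mem_centralizer_singleton_iff.1 hc.2]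
      group
    rw [e1, ← map_inv, ← map_mul, ← map_mul, ← map_inv, ← map_mul, h.mJ']
    exact ss_comm hy hz
  have nK : N[J] ≤ N[⁅K, K⁆ ⊔ J] := le_normalizer_sup le_normalizer_of_normal le_rfl
  have n3 : ⁅K, K⁆ ⊔ J ⊴ K := ⟨sup_le (commutator_le_left _ _) hJK,
    le_normalizer_of_commutator_le le_sup_left (sup_le (commutator_le_left _ _) hJK)⟩
  have hJ3 : IsSyl 3 J (⁅K, K⁆ ⊔ J) := by
    have := hall_inf_normal hSK n3
    rwa [inf_sup_of_le_normalizer' (.inr le_normalizer_of_normal) (le_inf JS hJK),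
      sup_eq_right.2 hF] at this
  generalize ⁅K, K⁆ ⊔ J = L at nK n3 hJ3
  have hp : ∀ x : HH k, ν x ∈ L → x.1.p = 1 := fun x hx => by
    refine (a4_aux _ _ (hA x (n3.1 hx)).2 (hA x (n3.1 hx)).1).elim id fun e => ?_
    refine (h.mJ'.1 (mem_of_cube hJ3 hx (h.memN x) (k := 2) ?_)).1
    rw [pow_two, pow_mul, h.exp]
    rw [← map_pow, h.mJ', Subgroup.coe_pow, pow_succ, pow_two]
    exact mon_id (by rw [mon_mul, mon_mul]; exact funext e)
  have hL : L ≤ N[J] := by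
    by_cases hu : ∀ x : HH k, ν x ∈ L → x.1 ∈ N9.J
    · rw [h.sig.burnside le_top (le_normalizer_of_le (hall_le hJ3)) hJ3 fun g hg => by
        obtain ⟨x, rfl⟩ := h.mN.1 hg.2
        exact le_centralizer_iff_isMulCommutative.2 h.comm (h.mJ'.2 (hu x hg.1))]
      exact le_normalizer
    push Not at hu
    obtain ⟨x, hx, xJ⟩ := hu
    obtain ⟨m1, m2, ⟨p, e1⟩, q, e2⟩ := (v4_aux k _ _ _ x.2 (hA x (n3.1 hx)).2).resolve_left
      fun e => xJ ⟨hp x hx, e⟩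
    have hs : ν ((jv k x.1.v)⁻¹ * x) ∈ L := by
      rw [map_mul, map_inv]; exact mul_mem (inv_mem (hall_le hJ3 (h.memJ _))) hx
    have hs' : ∀ p y, N9.pm p * N9.sg (x.1.s 0) (x.1.s 1) (x.1.s 2) * (N9.pm p)⁻¹ = y.1 →
        ν y ∈ L := fun p y e => by
      have := conj_mem_of_mem_normalizer (nK (h.memN ⟨_, le_HH k (pm_mem p)⟩)) hs
      rw [← map_inv, ← map_mul, ← map_mul] at this
      convert this
      refine Subtype.ext (e.symm.trans ?_)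
      show _ = N9.pm p * ((tv x.1.v)⁻¹ * x.1) * (N9.pm p)⁻¹
      rw [inv_mul_eq_iff_eq_mul.2 (eq_tv_sg (hp x hx))]
    have c : ∀ v w, Commute (ν (jv k v)) (ν (jv k w)) := fun v w => h.cm (h.memJ v) (h.memJ w)
    refine H12.L3.alpha (e₁ := ν (jv k ![1, 0, 0])) (e₂ := ν (jv k ![0, 1, 0]))
      (e₃ := ν (jv k ![0, 0, 1])) (u₁ := ν ⟨_, m1⟩) (u₂ := ν ⟨_, m2⟩) ?_ h.card (c _ _) (c _ _) (c _ _)
      (h.exp (h.memJ _)) (h.exp (h.memJ _)) (h.exp (h.memJ _)) ?_ ?_ ?_ ?_ ?_ ?_ ?_ ?_ ?_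
      (hall_le hJ3) (hs' p _ e1) (hs' q _ e2) (fun g hg => ?_)
      fun w hw w1 => inf_le_right.trans (hC w hw w1)
    · refine le_antisymm (fun g hg => ?_) ((closure_le _).2 (by
        rintro _ (rfl | rfl | rfl) <;> exact h.memJ _))
      obtain ⟨v, rfl⟩ := h.mJ hg
      obtain ⟨i, j, l, e⟩ := v_gen v
      rw [show jv k v = jv k ![1, 0, 0] ^ i.1 * jv k ![0, 1, 0] ^ j.1 * jv k ![0, 0, 1] ^ l.1 from
        Subtype.ext e, map_mul, map_mul, map_pow, map_pow, map_pow]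
      exact mul_mem (mul_mem (pow_mem (subset_closure (by simp)) _)
        (pow_mem (subset_closure (by simp)) _)) (pow_mem (subset_closure (by simp)) _)
    · rw [← map_mul, ← map_one ν, h.eq]; show N9.sg _ _ _ * N9.sg _ _ _ = 1; decide
    · rw [← map_mul, ← map_one ν, h.eq]; show N9.sg _ _ _ * N9.sg _ _ _ = 1; decide
    · rw [Commute, SemiconjBy, ← map_mul, ← map_mul, h.eq]
      show N9.sg _ _ _ * N9.sg _ _ _ = N9.sg _ _ _ * N9.sg _ _ _; decide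
    · rw [ac, h.jeq]; dsimp only; decide
    iterate 3 (rw [ac, ← jneg, h.jeq]; dsimp only; decide)
    · rw [ac, h.jeq]; dsimp only; decide
    · rw [ac, ← jneg, h.jeq]; dsimp only; decide
    obtain ⟨y, rfl⟩ := h.mN.1 hg.2
    obtain ⟨i, j, e⟩ := v4_gen _ _ _ (hA y (n3.1 hg.1)).2
    rw [show y = jv k y.1.v * (⟨_, m1⟩ ^ i.1 * ⟨_, m2⟩ ^ j.1) from
      Subtype.ext ((eq_tv_sg (hp y hg.1)).trans (by rw [e]; rfl)), map_mul, map_mul, map_pow, map_pow]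
    exact mul_mem_sup (h.memJ _) (mul_mem (pow_mem (subset_closure (by simp)) _)
      (pow_mem (subset_closure (by simp)) _))
  have hKN : K ≤ N[J] := n3.2.trans (normalizer_le_normalizer_of_normal_hall hJ3 ⟨hall_le hJ3, hL⟩)
  exact normalizer_eq_top_iff.1 (eq_top_iff.2 fun g _ => h.mem_of_cj
    ((cj_le_of_mem_normalizer (le_normalizer_of_normal (H := K) (K := ⊤) trivial) hJK).trans hKN))

end St

end Cfsg.Agent.H21.L3
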