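import Cfsg.Agent.H21.L3E
import Cfsg.Agent.H21.L3Z
import Cfsg.Agent.H6.ZStar

/-! If all centralizers of elements of `J` normalize `J`, then `J` is normal. -/

set_option autoImplicit false
set_option synthInstance.maxSize 4096
set_option synthInstance.maxHeartbeats 200000

universe u

namespace Cfsg.Agent.H21.L3

open Equiv Subgroup Cfsg Cfsg.Agent.H63 Cfsg.Agent.H67 Cfsg.Agent.H57 Cfsg.Agent.H91.Pr
open N9 (HH)
open scoped commutatorElement

/-- the monomial element with given signs and permutation -/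
abbrev mo (s : Fin 3 → (ZMod 3)ˣ) (p : Perm (Fin 3)) : N9 := ⟨fun _ => 0, s, p⟩

/-- the swap of the first two coordinates in `HH k` -/
def tt (k : Fin 4) : HH k := ⟨N9.t, le_HH k (pm_mem _)⟩

theorem eq_tv_mo (x : N9) : x = tv x.v * mo x.s x.p := by ext i <;> simp [tv]

theorem ct_sq {x : N9} (h : x * N9.t = N9.t * x) :
    x * x ∈ N9.J ∧ x * (N9.t * N9.σ) * x⁻¹ * (N9.t * N9.σ)⁻¹ ∈ N9.J :=
  (by decide +kernel : ∀ s p, (mo s p * N9.t).s = (N9.t * mo s p).s →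
    (mo s p * N9.t).p = (N9.t * mo s p).p → mo s p * mo s p ∈ N9.J ∧
      mo s p * (N9.t * N9.σ) * (mo s p)⁻¹ * (N9.t * N9.σ)⁻¹ ∈ N9.J) x.s x.p
    (congrArg N9.s h :) (congrArg N9.p h :)

theorem ce_aux {x : N9} (h1 : mon x.s x.p 1 = 1) (h2 : mon x.s x.p ![0, 0, 1] = ![0, 0, 1]) :
    x ∈ N9.J ∨ x * N9.t ∈ N9.J :=
  (by decide +kernel : ∀ s p, mon s p 1 = 1 → mon s p ![0, 0, 1] = ![0, 0, 1] →
    mo s p ∈ N9.J ∨ mo s p * N9.t ∈ N9.J) x.s x.p h1 h2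

theorem sig_comm (x : N9) : x * N9.σ * x⁻¹ * N9.σ⁻¹ ∈ N9.J ∧ x * N9.t * x⁻¹ ≠ N9.t * N9.σ :=
  ((by decide +kernel : ∀ s p, mo s p * N9.σ * (mo s p)⁻¹ * N9.σ⁻¹ ∈ N9.J ∧
    (mo s p * N9.t * (mo s p)⁻¹).s ≠ (N9.t * N9.σ).s) x.s x.p).imp_right (mt (congrArg N9.s))

theorem sq_aux (x : N9) : Perm.sign (x * x).p = 1 ∧ x * x ∈ HH 2 :=
  (by decide +kernel : ∀ s p, Perm.sign (mo s p * mo s p).p = 1 ∧ mo s p * mo s p ∈ HH 2) x.s x.p

theorem sqrt_aux : ∀ k s p, N9.σ ∉ HH k → mo s p ∈ HH k → mo s p ∈ HH 2 ∧ (Perm.sign p = 1 →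
    ∃ s' p', mo s' p' ∈ HH k ∧ mo s' p' * mo s' p' = mo s p) := by decide +kernel

theorem fpf_aux : ∀ s p, (∀ v, mon s p (mon s p v) = v) →
    (∃ v, v ≠ 0 ∧ mon s p v = v) ∨ mo s p = N9.σ := by decide +kernel

theorem sig_aux : ∀ v, tv v * (tv v * N9.σ) * (tv v)⁻¹ = N9.σ := by decide +kernel

theorem inv_aux : ∀ y : N9, y * y = 1 → ∃ q, tv (-y.v) * N9.pm q * N9.t * (tv (-y.v) * N9.pm q)⁻¹ * y =
    y * (tv (-y.v) * N9.pm q * N9.t * (tv (-y.v) * N9.pm q)⁻¹) := by decide +kernel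

theorem k1_aux : ∀ x ∈ HH 1, x * (N9.t * N9.σ) = N9.t * N9.σ * x →
    (x * N9.t = N9.t * x → x = 1 ∨ x = N9.t ∨ x = N9.t * N9.σ ∨ x = N9.t * (N9.t * N9.σ)) ∧
    (x * tv ![1, -1, 0] = tv ![1, -1, 0] * x → ∃ i : Fin 3, x = tv ![1, -1, 0] ^ i.1 ∨
      x * (N9.t * N9.σ) = tv ![1, -1, 0] ^ i.1) := by decide +kernel

variable {G : Type u} [Group G] [Finite G]

namespace St

variable {k : Fin 4} {ν : HH k →* G} {J : Subgroup G} (h : St ν J)
include h

omit [Finite G] in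
theorem cm_iff {x y : HH k} : ν x * ν y = ν y * ν x ↔ x.1 * y.1 = y.1 * x.1 := by
  rw [← map_mul, ← map_mul, h.eq]; rfl

omit [Finite G] in
theorem ord {x : HH k} : orderOf (ν x) = orderOf x.1 := by
  rw [orderOf_injective ν h.inj, orderOf_coe]

omit [Finite G] in
theorem t2 : ν (tt k) * ν (tt k) = 1 := by
  rw [← map_mul, ← map_one ν, h.eq]; show N9.t * N9.t = 1; decide

omit [Finite G] in
theorem t1 : ν (tt k) ≠ 1 := by rw [← map_one ν, Ne, h.eq]; show N9.t ≠ 1; decide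

omit [Finite G] in
theorem card_D : Nat.card ↥(J ⊓ C1[ν (tt k)]) = 9 := by
  refine (Nat.card_eq_of_bijective (fun i : ZMod 3 × ZMod 3 => (⟨ν (jv k ![i.1, i.1, i.2]),
    h.memJ _, mem_centralizer_singleton_iff.2 (h.cm_iff.2 (comm_tv.2 ?_).symm)⟩ :
      ↥(J ⊓ C1[ν (tt k)]))) ⟨fun i j e => ?_, fun ⟨g, hg⟩ => ?_⟩).symm.trans (by simp)
  · show mon N9.t.s N9.t.p _ = _
    revert i; decide
  · have := h.jeq.1 (congrArg Subtype.val e)
    exact Prod.ext (congrFun this 0) (congrFun this 2)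
  · obtain ⟨v, rfl⟩ := h.mJ hg.1
    exact ⟨(v 0, v 2), Subtype.ext (h.jeq.2 ((by decide : ∀ v : V, mon N9.t.s N9.t.p v = v →
      ![v 0, v 0, v 2] = v) v (comm_tv.1 (h.cm_iff.1
        (mem_centralizer_singleton_iff.1 hg.2)).symm)))⟩

variable (hC : ∀ w ∈ J, w ≠ 1 → C1[w] ≤ N[J])
include hC

theorem ct : C1[ν (tt k)] ≤ N[J] := by
  have t2 := h.t2
  have t1 := h.t1
  have c9 := h.card_D
  have aD : ν (jv k 1) ∈ J ⊓ C1[ν (tt k)] := ⟨h.memJ _, mem_centralizer_singleton_iff.2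
    (h.cm_iff.2 (comm_tv.2 (show mon N9.t.s N9.t.p _ = _ by decide)).symm)⟩
  have eD : ν (jv k ![0, 0, 1]) ∈ J ⊓ C1[ν (tt k)] := ⟨h.memJ _, mem_centralizer_singleton_iff.2
    (h.cm_iff.2 (comm_tv.2 (show mon N9.t.s N9.t.p _ = _ by decide)).symm)⟩
  have hc : ∀ g ∈ C1[ν (tt k)], (∀ d ∈ J ⊓ C1[ν (tt k)], g * d = d * g) →
      g ∈ J ⊓ C1[ν (tt k)] ∨ g * ν (tt k) ∈ J ⊓ C1[ν (tt k)] := fun g hg e => by
    obtain ⟨x, rfl⟩ := h.mN.1 (h.ca' (mem_centralizer_singleton_iff.2 (e _ aD)))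
    exact (ce_aux (comm_tv.1 (h.cm_iff.1 (e _ aD))) (comm_tv.1 (h.cm_iff.1 (e _ eD)))).imp
      (fun e => ⟨h.mJ'.2 e, hg⟩) fun e => ⟨map_mul ν x _ ▸ h.mJ'.2 e,
        mul_mem hg (mem_centralizer_singleton_self _)⟩
  have hs : ∀ n ∈ C1[ν (tt k)], n ∈ N[J] → n * n ∈ J ⊓ C1[ν (tt k)] := fun n hn hN => by
    obtain ⟨x, rfl⟩ := h.mN.1 hN
    exact ⟨map_mul ν x x ▸ h.mJ'.2 (ct_sq (h.cm_iff.1 (mem_centralizer_singleton_iff.1 hn))).1,
      mul_mem hn hn⟩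
  have a1 := h.a_ne
  generalize ν (tt k) = t at *
  generalize ν (jv k 1) = a at *
  have DJ : J ⊓ C1[t] ≤ J := inf_le_left
  have Dt : J ⊓ C1[t] ≤ C1[t] := inf_le_right
  have nD : N[J] ⊓ C1[t] ≤ N[J ⊓ C1[t]] :=
    le_normalizer_inf inf_le_left (le_normalizer_of_le inf_le_right)
  generalize J ⊓ C1[t] = D at *
  have nB : zpowers t ⊴ C1[t] := ⟨zpowers_le.2 (mem_centralizer_singleton_self t),
    le_normalizer_of_le_centralizer (centralizer_zpowers t).ge⟩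
  have tB := mem_zpowers t
  have cD : ∀ {d}, d ∈ D → Commute d t := fun hd => mem_centralizer_singleton_iff.1 (Dt hd)
  have t3 : ∀ {d}, d ∈ D → (d * t) ^ 3 = t := fun hd => by
    rw [(cD hd).mul_pow, h.exp (DJ hd), one_mul, pow_succ, pow_two, t2, one_mul]
  have mE : ∀ {g}, g ∈ D ⊔ zpowers t → g ∈ D ∨ ∃ d ∈ D, d * t = g := fun hg => by
    obtain ⟨d, hd, b, hb, rfl⟩ := (mem_sup_of_le_normalizer (Dt.trans nB.2)).1 hg
    rcases mem_zp2 t2 hb with rfl | rfl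
    exacts [.inl (by rwa [mul_one]), .inr ⟨d, hd, rfl⟩]
  have mE' : ∀ {g}, g ∈ D ∨ g * t ∈ D → g ∈ D ⊔ zpowers t := fun hg => hg.elim mem_sup_left
    fun e => (mul_mem_cancel_right (mem_sup_right tB)).1 (mem_sup_left e)
  have nE : N[D ⊔ zpowers t] ≤ N[J] := fun n hn => h.ti' hC (DJ aD) a1 (DJ
    ((mE (conj_mem_of_mem_normalizer hn (mem_sup_left aD))).resolve_right fun ⟨d, hd, e⟩ => t1 (by
      rw [← t3 hd, e, conj_pow, h.exp (DJ aD), mul_one, mul_inv_cancel])))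
  have c2 : Nat.card (zpowers t) = 2 := by
    rw [Nat.card_zpowers]; exact orderOf_eq_prime (by rw [pow_two, t2]) t1
  have hq : SQ (zpowers t) (D ⊔ zpowers t) C1[t] :=
    { nB := nB
      BD := le_sup_right
      DY := sup_le Dt nB.1
      idx := by
        have := card_inf_mul_relIndex (zpowers t) D
        rw [inf_eq_bot_of_coprime' (by rw [c2, c9]; norm_num), card_bot, one_mul, c9] at this
        rw [relIndex_sup_of_le_normalizer (Dt.trans nB.2), this]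
      comm := fun x hx y hy => by
        have c : ∀ {x y}, x ∈ D → y ∈ D → Commute x y := fun hx hy => h.cm (DJ hx) (DJ hy)
        have : Commute x y := by
          rcases mE hx with a | ⟨x, a, rfl⟩ <;> rcases mE hy with b | ⟨y, b, rfl⟩
          exacts [c a b, (c a b).mul_right (cD a), (c a b).mul_left (cD b).symm,
            ((c a b).mul_right (cD a)).mul_left ((cD b).symm.mul_right (.refl t))]
        rw [this.eq, mul_inv_cancel_right, mul_inv_cancel]; exact one_mem _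
      exp := fun x hx => by
        rcases mE hx with a | ⟨x, a, rfl⟩
        · rw [h.exp (DJ a)]; exact one_mem _
        · rwa [t3 a]
      cent := fun g hg e => mE' (hc g hg fun d hd => by
        rcases mem_zp2 t2 (e d (mem_sup_left hd)) with e | e
        · rwa [mul_inv_eq_one, cje] at e
        · refine absurd ?_ t1
          rw [← t3 hd, (cD hd).eq, ← mul_inv_eq_iff_eq_mul.1 e, conj_pow, h.exp (DJ hd), mul_one,
            mul_inv_cancel])
      four := fun n hn hN => by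
        rw [show n ^ 4 = n * n * (n * n) by simp only [pow_succ, pow_zero, one_mul, mul_assoc]]
        exact mem_sup_left (mul_mem (hs n hn (nE hN)) (hs n hn (nE hN)))
      sig := fun K h1 h2 h3 h4 g hg => by
        have cK : (Nat.card D).Coprime (Nat.card K) := by
          rw [c9, ← card_mul_relIndex h1, c2]
          exact Nat.Coprime.mul_right (by norm_num) (Nat.Coprime.pow_left 2 h3.symm)
        have KN : K ≤ N[J] := coprime_abelian_gen_cent1 (A := D)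
          ⟨⟨fun x y => Subtype.ext (h.cm (DJ x.2) (DJ y.2))⟩⟩ (fun hD => by
            obtain ⟨x, hx⟩ := hD.exists_ofOrder_eq_natCard
            have := orderOf_dvd_of_pow_eq_one (show x ^ 3 = 1 from Subtype.ext (h.exp (DJ x.2)))
            rw [hx, c9] at this
            exact absurd this (by norm_num)) (le_sup_left.trans h4) cK
          fun w hw w1 => inf_le_right.trans (hC w (DJ hw) w1)
        have hi := inf_eq_bot_of_coprime' cK
        have hK := le_centralizer_iff.1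
          (le_centralizer_of_inf_eq_bot (le_sup_left.trans h4) ((le_inf KN h2).trans nD) hi)
        rcases hc g (h2 hg) fun d hd => hK hd g hg with e | e
        · rw [mem_bot.1 (hi.le ⟨e, hg⟩)]; exact one_mem _
        · rw [eq_inv_of_mul_eq_one_left (mem_bot.1 (hi.le ⟨e, mul_mem hg (h1 tB)⟩))]
          exact inv_mem tB }
  exact (hq.normal fun n hn hN => mem_sup_left (hs n hn (nE hN))).trans nE

theorem ft {g w : G} (hw : w ∈ J) (w1 : w ≠ 1)
    (e : g * ν (tt k) * g⁻¹ * w = w * (g * ν (tt k) * g⁻¹)) : g ∈ N[J] := by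
  have h1 : g⁻¹ * w * g⁻¹⁻¹ ∈ C1[ν (tt k)] := mem_centralizer_singleton_iff.2 (by
    calc _ = g⁻¹ * (w * (g * ν (tt k) * g⁻¹)) * g := by group
      _ = _ := by rw [← e]; group)
  obtain ⟨x, hx⟩ := h.mN.1 (h.ct hC h1)
  have h2 := (h.mJ' (x := x * x)).2 (ct_sq (h.cm_iff.1 (mem_centralizer_singleton_iff.1 (hx ▸ h1)))).1
  refine inv_mem_iff.1 (h.ti' hC hw w1 (mem_of_pow (by
    rw [conj_pow, h.exp hw, mul_one, mul_inv_cancel]; exact one_mem _) ?_))
  rw [← hx, show ν x ^ 4 = ν (x * x) * ν (x * x) by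
    simp only [map_mul, pow_succ, pow_zero, one_mul, mul_assoc]]
  exact mul_mem h2 h2

theorem star_or : (∀ g, g * ν (tt k) * g⁻¹ ∈ N[J] → g ∈ N[J]) ∨
    ∃ (m : N9.σ ∈ HH k) (g : G), g * ν (tt k) * g⁻¹ = ν ⟨_, m⟩ := by
  by_contra hc
  push Not at hc
  obtain ⟨⟨g, hg, gN⟩, hc⟩ := hc
  obtain ⟨y, hy⟩ := h.mN.1 hg
  have y2 : y.1 * y.1 = 1 := h.eq.1 (show ν (y * y) = ν 1 by
    rw [map_mul, hy, ← cjm, h.t2, map_one]; group)
  rcases fpf_aux y.1.s y.1.p (congrFun ((mon_mul y.1 y.1).symm.trans (y2 ▸ mon_one))) with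
    ⟨v, v0, e⟩ | e
  · exact gN (h.ft hC (h.memJ v) (by rwa [← jzero (ν := ν), Ne, h.jeq])
      (hy ▸ h.cm_iff.2 (comm_tv.2 e)))
  · have e1 : tv y.1.v * y.1 * (tv y.1.v)⁻¹ = N9.σ := by
      rw [← sig_aux y.1.v, ← e, ← eq_tv_mo]
    refine hc (e1 ▸ (jv k y.1.v * y * (jv k y.1.v)⁻¹).2) (ν (jv k y.1.v) * g) ?_
    rw [cjc, ← hy, ← map_inv, ← map_mul, ← map_mul, h.eq]
    exact e1

theorem endO {z : HH k} (hz : IsIsolatedInvolution (ν z))
    (e : mon z.1.s z.1.p ![0, 0, 1] = -![0, 0, 1]) : J.Normal := by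
  have := H3.pPrimeCore_characteristic 2 G
  have h3 := H6.zstar G hz (ν (jv k ![0, 0, 1]))
  rw [ac, e, ← jneg, ← jadd, show -![0, 0, 1] + -![0, 0, 1] = (![0, 0, 1] : V) by decide] at h3
  have hp : ∀ p, ν (jv k (mon (N9.pm p).s p ![0, 0, 1])) ∈ pPrimeCore 2 G := fun p =>
    ac (ν := ν) ⟨_, le_HH k (pm_mem p)⟩ _ ▸ Normal.conj_mem inferInstance _ h3 _
  have h1 := hp (swap 0 2)
  have h2 := hp (swap 1 2)
  rw [show mon (N9.pm _).s _ ![0, 0, 1] = ![1, 0, 0] by decide] at h1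
  rw [show mon (N9.pm _).s _ ![0, 0, 1] = ![0, 1, 0] by decide] at h2
  refine h.end3 hC (K := pPrimeCore 2 G) (fun g hg => ?_) fun x hx => ?_
  · obtain ⟨v, rfl⟩ := h.mJ hg
    obtain ⟨i, j, l, e⟩ := v_gen v
    rw [show jv k v = jv k ![1, 0, 0] ^ i.1 * jv k ![0, 1, 0] ^ j.1 * jv k ![0, 0, 1] ^ l.1 from
      Subtype.ext e, map_mul, map_mul, map_pow, map_pow, map_pow]
    exact mul_mem (mul_mem (pow_mem h1 _) (pow_mem h2 _)) (pow_mem h3 _)
  · obtain ⟨m, hm⟩ := exists_pow_eq_self_of_coprime (x := x.1) (n := 2) (by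
      rw [← h.ord]
      exact ((H3.pPrimeCore_coprime 2 G).coprime_dvd_left (orderOf_dvd_card_of_mem hx)).symm)
    rw [← hm, ← pow_mul, mul_comm, pow_mul, pow_two]
    exact sq_aux _

theorem caseI : J.Normal := by
  by_cases m : N9.σ ∈ HH k
  · have s2 : orderOf (ν ⟨_, m⟩) = 2 :=
      h.ord.trans (orderOf_eq_prime (show N9.σ ^ 2 = 1 by decide) (show N9.σ ≠ 1 by decide))
    rcases h.star_or hC with hs | ⟨m, g, hg⟩
    · refine h.endO hC (z := ⟨_, m⟩) (iso_star hs h.t2 (h.memN _) s2 (h.cm_iff.2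
        (show N9.t * N9.σ = N9.σ * N9.t by decide)) (fun y hy y2 => ?_) fun n hn e => ?_)
        (by dsimp only; decide)
      · obtain ⟨y, rfl⟩ := h.mN.1 hy
        obtain ⟨q, hq⟩ := inv_aux y.1 (h.eq.1 (show ν (y * y) = ν 1 by rw [map_mul, y2, map_one]))
        refine ⟨_, h.memN (jv k (-y.1.v) * ⟨_, le_HH k (pm_mem q)⟩), ?_⟩
        rw [← map_inv, ← map_mul ν _ (tt k), ← map_mul ν _ _⁻¹, h.cm_iff]
        exact hq
      · obtain ⟨n, rfl⟩ := h.mN.1 hn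
        have h1 := h.exp ((h.mJ' (x := n * ⟨N9.σ, m⟩ * n⁻¹ * (⟨N9.σ, m⟩ : HH k)⁻¹)).2
          (by simp only [Subgroup.coe_mul, Subgroup.coe_inv]; exact (sig_comm n.1).1))
        rw [map_mul, map_mul, map_mul, map_inv, map_inv, pow_succ, e.symm.inv_right.mul_pow,
          conj_pow, inv_pow, ← s2, pow_orderOf_eq_one] at h1
        simpa [mul_inv_eq_one] using h1
    obtain rfl | rfl := (by decide : ∀ k, N9.σ ∈ HH k → k = 1 ∨ k = 3) k m
    · have cJ := h.memJ ![1, -1, 0]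
      have c1 : ν (jv 1 ![1, -1, 0]) ≠ 1 := by rw [← jzero (ν := ν), Ne, h.jeq]; decide
      have cz : ν (jv 1 ![1, -1, 0]) * ν (tt 1 * ⟨_, m⟩) = ν (tt 1 * ⟨_, m⟩) * ν (jv 1 ![1, -1, 0]) :=
        h.cm_iff.2 (show tv _ * (N9.t * N9.σ) = N9.t * N9.σ * tv _ by decide)
      refine h.endO hC (z := tt 1 * ⟨_, m⟩) (iso_max (t := ν (tt 1)) (g₀ := g)
        (orderOf_eq_prime (by rw [pow_two, h.t2]) h.t1) (h.ord.trans (orderOf_eq_prime
          (show (N9.t * N9.σ) ^ 2 = 1 by decide) (show N9.t * N9.σ ≠ 1 by decide)))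
        (h.cm_iff.2 (show N9.t * (N9.t * N9.σ) = N9.t * N9.σ * N9.t by decide)) (fun y hy => ?_)
        (fun y hy e => ?_) (by rw [hg, map_mul, ← mul_assoc, h.t2, one_mul]) (fun g e => ?_)
        (orderOf_eq_three (h.exp cJ) c1) cz (by
          rw [ac, ← jneg, h.jeq]; show mon N9.t.s N9.t.p _ = _; decide) fun y hy e => ?_)
        (show mon (N9.t * N9.σ).s (N9.t * N9.σ).p _ = _ by decide)
      · obtain ⟨y, rfl⟩ := h.mN.1 (h.ct hC (mem_centralizer_singleton_iff.2 hy))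
        rw [← map_inv, ← map_inv, ← map_mul, ← map_mul, ← map_mul]
        exact h.exp (h.mJ'.2 (ct_sq (h.cm_iff.1 hy)).2)
      · obtain ⟨y, rfl⟩ := h.mN.1 (h.ct hC (mem_centralizer_singleton_iff.2 hy))
        rw [← map_one ν, ← map_mul, h.eq, h.eq, h.eq, h.eq]
        exact (k1_aux _ y.2 (h.cm_iff.1 e)).1 (h.cm_iff.1 hy)
      · obtain ⟨y, rfl⟩ := h.mN.1 (h.ft hC cJ c1 (e ▸ cz.symm))
        rw [← map_inv, ← map_mul, ← map_mul, h.eq] at e
        exact (sig_comm y.1).2 e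
      · obtain ⟨y, rfl⟩ := h.mN.1 (hC _ cJ c1 (mem_centralizer_singleton_iff.2 hy))
        obtain ⟨i, hi⟩ := (k1_aux _ y.2 (h.cm_iff.1 e)).2 (h.cm_iff.1 hy)
        have := pow_mem (mem_zpowers (ν (jv 1 ![1, -1, 0]))) i.1
        rw [← map_pow] at this
        rw [← map_mul]
        exact hi.imp (fun e => by rwa [h.eq.2 (show y.1 = (jv 1 _ ^ i.1).1 from e)])
          fun e => by rwa [h.eq.2 (show (y * (tt 1 * ⟨_, m⟩)).1 = (jv 1 _ ^ i.1).1 from e)]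
    · have h1 : g⁻¹ * ν ⟨N9.ρ1 * N9.t, by decide⟩ * g⁻¹⁻¹ ∈ C1[ν (tt 3)] :=
        mem_centralizer_singleton_iff.2 (by
          calc _ = g⁻¹ * (ν ⟨N9.ρ1 * N9.t, by decide⟩ * (g * ν (tt 3) * g⁻¹)) * g := by group
            _ = g⁻¹ * ((g * ν (tt 3) * g⁻¹) * ν ⟨N9.ρ1 * N9.t, by decide⟩) * g := by
              rw [hg, h.cm_iff.2 (show N9.ρ1 * N9.t * N9.σ = N9.σ * (N9.ρ1 * N9.t) by decide)]
            _ = _ := by group)
      obtain ⟨x, hx⟩ := h.mN.1 (h.ct hC h1)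
      have h2 := h.exp ((h.mJ' (x := x * x)).2
        (ct_sq (h.cm_iff.1 (mem_centralizer_singleton_iff.1 (hx ▸ h1)))).1)
      rw [map_mul, hx, ← cjm, conj_pow, conj_eq_one_iff, ← map_mul, ← map_pow, ← map_one ν,
        h.eq] at h2
      exact absurd h2 (show (N9.ρ1 * N9.t * (N9.ρ1 * N9.t)) ^ 3 ≠ 1 by decide)
  have hs := (h.star_or hC).resolve_right fun ⟨m', _⟩ => m m'
  obtain ⟨R, hR, tR⟩ := exists_syl_ge (p := 2) (K := zpowers (ν (tt k))) (M := N[J] ⊓ ⊤)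
    (zpowers_le.2 ⟨h.memN _, trivial⟩) (isPGroup_zpowers_of_pow (by rw [pow_two, h.t2]))
  obtain ⟨S, rfl⟩ := exists_sylow_top (syl_star hs hR (tR (mem_zpowers _)))
  have mM : ∀ x : HH k, ν x ∈ ((alternatingGroup (Fin 3)).comap (pp.comp (HH k).subtype)).map ν ↔
      Perm.sign x.1.p = 1 := fun x => mem_map_iff_mem h.inj
  have st : ∀ x : HH k, Perm.sign (x * tt k).1.p = -Perm.sign x.1.p := fun x => by
    show Perm.sign (x.1.p * swap 0 1) = _
    simp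
  obtain ⟨K, hK, K2, tK⟩ := H87.thompson_transfer_involution
    (H87.odd_index_of_sylow_le S ((hall_le hR).trans inf_le_left))
    (M := ((alternatingGroup (Fin 3)).comap (pp.comp (HH k).subtype)).map ν)
    (index_eq_two_iff.2 ⟨⟨_, h.memN (tt k)⟩, fun ⟨b, hb⟩ => by
      obtain ⟨x, rfl⟩ := h.mN.1 hb
      simp only [mem_subgroupOf, MulMemClass.mk_mul_mk, ← map_mul, mM, st]
      rcases Int.units_eq_one_or (Perm.sign x.1.p) with e | e <;> simp [e]⟩)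
    (x := ν (tt k)) (by rw [pow_two, h.t2]) fun g hg => by
      obtain ⟨x, rfl⟩ := h.mN.1 (hs g (h.rng ▸ map_le_range _ _ hg))
      rw [← map_inv, ← map_mul, ← map_mul, mM] at hg
      exact (by decide : ∀ p : Perm (Fin 3), Perm.sign (p * swap 0 1 * p⁻¹) ≠ 1) x.1.p hg
  have JK : J ≤ K := fun c hc => by
    rw [show c = c * c * (c * c) by rw [← pow_two c, ← pow_add, pow_succ', h.exp hc, mul_one]]
    exact mul_self_mem_of_index_two K2 _
  refine h.end3 hC JK fun x hx => ⟨?_, (sqrt_aux k _ x.1.p m x.2).1⟩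
  by_contra e
  obtain ⟨s, p, m1, e1⟩ := (sqrt_aux k (x * tt k).1.s (x * tt k).1.p m (x * tt k).2).2 (by
    rw [st, Int.units_ne_iff_eq_neg.1 e, neg_neg])
  refine tK ((mul_mem_cancel_left hx).1 ?_)
  rw [← map_mul, show x * tt k = jv k (x * tt k).1.v * (⟨_, m1⟩ * ⟨_, m1⟩) from
    Subtype.ext ((eq_tv_mo _).trans (congrArg (tv _ * ·) e1.symm)), map_mul, map_mul]
  exact mul_mem (JK (h.memJ _)) (mul_self_mem_of_index_two K2 _)

end St

end Cfsg.Agent.H21.L3
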