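import Cfsg.Agent.H21.L3I
import Cfsg.Agent.H33.SymSix
import Cfsg.Agent.H78.CoxeterA

/-! The subgroup `S₆` of the centralizer of `e₃`. -/

set_option autoImplicit false
set_option synthInstance.maxSize 4096
set_option synthInstance.maxHeartbeats 200000

universe u

namespace Cfsg.Agent.H21.L3

open Equiv Subgroup Cfsg Cfsg.Agent.H63 Cfsg.Agent.H67 Cfsg.Agent.H57 Cfsg.Agent.H91.Pr
open N9 (HH e1 e2 e3 ρ1 ρ2 ρ3)

theorem conj_rep {n p : ℕ} [Fact p.Prime] {x y : Perm (Fin n)} (hx : x ^ p = 1) (hy : y ^ p = 1)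
    (h : x.support.card = y.support.card) : ∃ q, q * x * q⁻¹ = y := by
  have h1 := Perm.cycleType_of_pow_prime_eq_one hx
  have h2 := Perm.cycleType_of_pow_prime_eq_one hy
  rw [← Perm.sum_cycleType, ← Perm.sum_cycleType, h1, h2, Multiset.sum_replicate,
    Multiset.sum_replicate, smul_eq_mul, smul_eq_mul,
    Nat.mul_left_inj (Fact.out : p.Prime).ne_zero] at h
  rw [← isConj_iff, Perm.isConj_iff_cycleType_eq, h1, h2, h]

theorem dvd_supp {n p : ℕ} [Fact p.Prime] {x : Perm (Fin n)} (hx : x ^ p = 1) :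
    p ∣ x.support.card ∧ x.support.card ≤ n := by
  refine ⟨?_, (Finset.card_le_univ _).trans_eq (Fintype.card_fin n)⟩
  rw [← Perm.sum_cycleType, Perm.cycleType_of_pow_prime_eq_one hx, Multiset.sum_replicate]
  exact dvd_mul_left _ _

theorem cj_swap {α : Type*} [DecidableEq α] (q : Perm α) (a b : α) :
    q * swap a b * q⁻¹ = swap (q a) (q b) := (swap_apply_apply q a b).symm

/-- the permutation `(03)(14)(25)` -/
def T6 : Perm (Fin 6) := swap 0 3 * swap 1 4 * swap 2 5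

theorem sw_aux : ∀ p q r s : Fin 6, p ≠ q → swap r s ≠ swap p q → (swap r s * swap p q) ^ 3 = 1 →
    ∃ a b c, Function.Injective ![a, b, c] ∧ swap r s = swap a b ∧ swap p q = swap b c := by
  decide +kernel

theorem T_aux : ∀ T : Perm (Fin 6), T * T = 1 → Commute (T * swap 0 1 * T⁻¹) (swap 0 1) →
    Commute (T * swap 0 1 * T⁻¹) (swap 1 2) → Commute (T * swap 1 2 * T⁻¹) (swap 0 1) →
    Commute (T * swap 1 2 * T⁻¹) (swap 1 2) →
    ∃ q : Perm (Fin 6), q 0 = 0 ∧ q 1 = 1 ∧ q 2 = 2 ∧ q * T * q⁻¹ = T6 := by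
  unfold Commute SemiconjBy; decide +kernel

theorem norm6 {S₁ S₂ T c : Perm (Fin 6)} (h2 : S₂ * S₂ = 1) (hc : c * S₂ * c⁻¹ = S₁) (ne : S₁ ≠ S₂)
    (h3 : (S₁ * S₂) ^ 3 = 1) (t2 : T * T = 1) (c11 : Commute (T * S₁ * T⁻¹) S₁)
    (c12 : Commute (T * S₁ * T⁻¹) S₂) (c21 : Commute (T * S₂ * T⁻¹) S₁)
    (c22 : Commute (T * S₂ * T⁻¹) S₂) : ∃ α : Perm (Fin 6) ≃* Perm (Fin 6),
      α S₁ = swap 0 1 ∧ α S₂ = swap 1 2 ∧ α T = T6 := by
  have : Fact (Nat.Prime 2) := ⟨Nat.prime_two⟩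
  have h2' : S₂ ^ 2 = 1 := by rw [pow_two, h2]
  obtain ⟨α, p, q, pq, e⟩ : ∃ α : Perm (Fin 6) ≃* Perm (Fin 6), (α S₂).IsSwap := by
    obtain ⟨⟨m, hm⟩, h6⟩ := dvd_supp h2'
    obtain rfl | rfl | rfl | rfl : m = 0 ∨ m = 1 ∨ m = 2 ∨ m = 3 := by omega
    · rw [Perm.card_support_eq_zero.1 hm] at hc ne; simp [← hc] at ne
    · exact ⟨.refl _, Perm.card_support_eq_two.1 hm⟩
    · obtain ⟨q, hq⟩ := conj_rep h2' (y := swap 0 1 * swap 2 3) (by decide) (hm.trans (by decide))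
      have := (by unfold Commute SemiconjBy; decide +kernel : ∀ E : Perm (Fin 6),
        Commute E (swap 0 1 * swap 2 3) → E ^ 3 = 1 → E = 1) (q * (T * (S₁ * S₂) * T⁻¹) * q⁻¹)
        (hq ▸ (cjm T _ _ ▸ c12.mul_left c22).conj q) (by simp [conj_pow, h3])
      rw [conj_eq_one_iff, conj_eq_one_iff, ← h2, mul_left_inj] at this
      exact absurd this ne
    · obtain ⟨β, hβ⟩ := H33.exists_outer_six (Ω := Fin 6) rfl
      obtain ⟨q, hq⟩ := isConj_iff.1 (H33.isConj_of_fpf_involution (a := β (swap 0 1))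
        (by rw [← map_mul, swap_mul_self, map_one]) h2 (hβ _ ⟨0, 1, by decide, rfl⟩) fun x =>
          Perm.mem_support.1 (Finset.eq_univ_of_card _ hm ▸ Finset.mem_univ x))
      exact ⟨β.symm, _, _, (β.symm q).injective.ne (show (0 : Fin 6) ≠ 1 by decide), by
        rw [← hq, map_mul, map_mul, map_inv, MulEquiv.symm_apply_apply, cj_swap]⟩
  have e' : α S₁ = swap (α c p) (α c q) := by rw [← hc, map_mul, map_mul, map_inv, e, cj_swap]
  obtain ⟨a, b, d, hi, e1, e2⟩ := sw_aux p q _ _ pq (e' ▸ e ▸ α.injective.ne ne)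
    (by rw [← e, ← e', ← map_mul, ← map_pow, h3, map_one])
  obtain ⟨r, hr⟩ := Perm.exists_extending_pair _ ![0, 1, 2] hi (by decide)
  let γ := α.trans (MulAut.conj r)
  have g1 : γ S₁ = swap 0 1 := by
    show r * α S₁ * r⁻¹ = _
    rw [e', e1, cj_swap]; exact congrArg₂ swap (hr 0) (hr 1)
  have g2 : γ S₂ = swap 1 2 := by
    show r * α S₂ * r⁻¹ = _
    rw [e, e2, cj_swap]; exact congrArg₂ swap (hr 1) (hr 2)
  have k : ∀ {x y}, Commute (T * x * T⁻¹) y → Commute (γ T * γ x * (γ T)⁻¹) (γ y) := fun h => by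
    simpa only [map_mul, map_inv] using h.map γ
  obtain ⟨w, w0, w1, w2, hw⟩ := T_aux (γ T) (by rw [← map_mul, t2, map_one]) (g1 ▸ k c11)
    (g1 ▸ g2 ▸ k c12) (g1 ▸ g2 ▸ k c21) (g2 ▸ k c22)
  refine ⟨γ.trans (MulAut.conj w), ?_, ?_, hw⟩
  · show w * γ S₁ * w⁻¹ = _
    rw [g1, cj_swap, w0, w1]
  · show w * γ S₂ * w⁻¹ = _
    rw [g2, cj_swap, w1, w2]

theorem perm_ext {n : ℕ} {M : Type*} [Monoid M] {f g : Perm (Fin (n + 1)) →* M}
    (h : ∀ i : Fin n, f (swap i.castSucc i.succ) = g (swap i.castSucc i.succ)) : f = g :=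
  MonoidHom.eq_of_eqOn_denseM (Perm.mclosure_swap_castSucc_succ n) (by rintro _ ⟨i, rfl⟩; exact h i)

theorem z_aux : ∀ Z : Perm (Fin 6), Z * swap 0 1 = swap 0 1 * Z → Z * swap 4 5 = swap 4 5 * Z →
    (swap 1 2 * Z) ^ 3 = 1 → (Z * swap 3 4) ^ 3 = 1 → Z = swap 2 3 := by decide +kernel

theorem card_ce : Nat.card C1[e3] = 216 := by
  show Nat.card C1[tv ![0, 0, 1]] = 216
  rw [Nat.card_congr (Equiv.subtypeEquivRight (q := fun x : N9 => mon x.s x.p ![0, 0, 1] = ![0, 0, 1])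
    fun x => mem_centralizer_singleton_iff.trans comm_tv), Nat.card_eq_fintype_card]
  decide +kernel

theorem four_aux {x : N9} {v : V} (v0 : v ≠ 0) (h0 : v 0 = 0) (h : x * tv v = tv v * x) :
    x ^ 4 ∈ N9.J := by
  rw [show x ^ 4 = x * x * (x * x) by simp only [pow_succ, pow_zero, one_mul, mul_assoc]]
  exact (by decide +kernel : ∀ (v : V) s p, v ≠ 0 → v 0 = 0 → mon s p v = v →
    mo s p * mo s p * (mo s p * mo s p) ∈ N9.J) v x.s x.p v0 h0 (comm_tv.1 h)

variable {G : Type u} [Group G]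

/-- the embedding of the whole model -/
def ph (ν : HH 3 →* G) : N9 →* G :=
  ν.comp ((MonoidHom.id N9).codRestrict (HH 3) fun x => N9.HH_three ▸ mem_top x)

structure K6 (φ : N9 →* G) (κ : Perm (Fin 6) →* G) : Prop where
  k01 : κ (swap 0 1) = φ (e1 * ρ1)
  k12 : κ (swap 1 2) = φ ρ1
  k34 : κ (swap 3 4) = φ (e2 * ρ2)
  k45 : κ (swap 4 5) = φ ρ2
  kt : κ T6 = φ N9.t
  ce : ∀ π, Commute (κ π) (φ e3)
  cr : ∀ π, Commute (κ π) (φ ρ3)
  all : ∀ g, Commute g (φ e3) → ∃ c ∈ zpowers (φ e3), ∃ π, g = c * κ π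
  dis : ∀ π, κ π ∈ zpowers (φ e3) → π = 1

namespace St

variable {ν : HH 3 →* G} {J : Subgroup G} (h : St ν J)
include h

theorem pinj : Function.Injective (ph ν) := fun _ _ e => h.eq.1 e

theorem peq {x y : N9} : ph ν x = ph ν y ↔ x = y := h.eq

theorem pJ' {x : N9} : ph ν x ∈ J ↔ x ∈ N9.J := h.mJ'

theorem pN {g : G} : g ∈ N[J] ↔ ∃ x, ph ν x = g :=
  h.mN.trans ⟨fun ⟨x, e⟩ => ⟨x.1, e⟩, fun ⟨_, e⟩ => ⟨_, e⟩⟩

theorem pcm {x y : N9} : Commute (ph ν x) (ph ν y) ↔ x * y = y * x := h.cm_iff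

theorem pfour {v : V} (v0 : v ≠ 0) (h0 : v 0 = 0) :
    ∀ n ∈ N[J], n * ph ν (tv v) = ph ν (tv v) * n → n ^ 4 ∈ J := fun n hn e => by
  obtain ⟨x, rfl⟩ := h.pN.1 hn
  exact map_pow (ph ν) x 4 ▸ h.pJ'.2 (four_aux v0 h0 (h.pcm.1 e))

theorem exists_K6 [Finite G] (hn : ¬ C1[ph ν e3] ≤ N[J]) : ∃ κ, K6 (ph ν) κ := by
  set φ := ph ν
  have eJ : φ e3 ∈ J := h.memJ _
  have e1' : φ e3 ≠ 1 := by rw [← map_one φ, Ne, h.peq]; decide
  have e3' := h.exp eJ
  have mC : ∀ {x}, x * e3 = e3 * x → φ x ∈ C1[φ e3] := fun e =>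
    mem_centralizer_singleton_iff.2 (h.pcm.2 e)
  have mN : ∀ {x}, x * e3 = e3 * x → φ x ∈ C1[φ e3] ⊓ N[J] := fun e => ⟨mC e, h.pN.2 ⟨_, rfl⟩⟩
  obtain ⟨f₀, s₀, k₀⟩ := ((h.sq eJ e1' (h.pfour (by decide) rfl)).d8 (ρ := φ (ρ1 * N9.t))
    (σ := φ ρ1) (by
      have := card_mul_relIndex (zpowers_le.2 (mN rfl))
      have c : Nat.card ↥(C1[φ e3] ⊓ N[J]) = 216 := by
        rw [show C1[φ e3] ⊓ N[J] = C1[e3].map φ from le_antisymm (fun g hg => by
          obtain ⟨x, rfl⟩ := h.pN.1 hg.2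
          exact ⟨x, mem_centralizer_singleton_iff.2 (h.pcm.1
            (mem_centralizer_singleton_iff.1 hg.1)), rfl⟩) (by
          rintro _ ⟨x, hx, rfl⟩; exact mN (mem_centralizer_singleton_iff.1 hx)),
          card_map_of_injective h.pinj, card_ce]
      rw [Nat.card_zpowers, orderOf_eq_three e3' e1', c] at this
      omega) (mN (by decide)) (mN (by decide)) (by rw [← map_mul, h.pJ']; decide)
      (by rw [← map_mul, ← map_mul, h.pJ']; decide)
      (by rw [← map_mul, h.pJ']; decide)).resolve_left hn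
  let θ : C1[e3] →* C1[φ e3] := (φ.comp (C1[e3]).subtype).codRestrict _ fun x =>
    mC (mem_centralizer_singleton_iff.1 x.2)
  let m : ∀ x : N9, (e : x * e3 = e3 * x := by decide) → C1[e3] := fun x e =>
    ⟨x, mem_centralizer_singleton_iff.2 e⟩
  refine (norm6 (S₁ := f₀ (θ (m (e1 * ρ1)))) (S₂ := f₀ (θ (m ρ1))) (T := f₀ (θ (m N9.t)))
    (c := f₀ (θ (m e1⁻¹))) ?_ ?_ (fun e => ?_) ?_ ?_ ?_ ?_ ?_ ?_).elim fun α ⟨a1, a2, a3⟩ => ?_
  · rw [← map_mul, ← map_mul, show m ρ1 * m ρ1 = 1 from Subtype.ext (by decide), map_one, map_one]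
  · rw [← map_inv, ← map_inv, ← map_mul, ← map_mul, ← map_mul, ← map_mul]
    exact congrArg _ (congrArg _ (Subtype.ext (by decide)))
  · rw [← mul_inv_eq_one, ← map_inv, ← map_mul, k₀, ← map_inv, ← map_mul] at e
    rcases mem_zp3 e3' e with e | e | e
    · exact absurd (h.peq.1 (e.trans (map_one φ).symm)) (by decide)
    · exact absurd (h.peq.1 e) (by decide)
    · exact absurd (h.peq.1 (e.trans (map_inv φ _).symm)) (by decide)
  · rw [← map_mul, ← map_mul, ← map_pow, ← map_pow,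
      show (m (e1 * ρ1) * m ρ1) ^ 3 = 1 from Subtype.ext (by decide), map_one, map_one]
  · rw [← map_mul, ← map_mul, show m N9.t * m N9.t = 1 from Subtype.ext (by decide), map_one, map_one]
  iterate 4
    rw [← map_inv, ← map_inv, ← map_mul, ← map_mul, ← map_mul, ← map_mul]
    exact Commute.map (Commute.map (Subtype.ext (by decide)) _) _
  let f := α.toMonoidHom.comp f₀
  have kf : ∀ y, f y = 1 ↔ y.1 ∈ zpowers (φ e3) := fun y => α.map_eq_one_iff.trans (k₀ y)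
  have a4 : f (θ (m (e2 * ρ2))) = swap 3 4 := by
    rw [show m (e2 * ρ2) = m N9.t * m (e1 * ρ1) * (m N9.t)⁻¹ from Subtype.ext (by decide)]
    simp only [map_mul, map_inv]
    exact (congrArg₂ (fun x y => x * y * x⁻¹) a3 a1).trans (by decide)
  have a5 : f (θ (m ρ2)) = swap 4 5 := by
    rw [show m ρ2 = m N9.t * m ρ1 * (m N9.t)⁻¹ from Subtype.ext (by decide)]
    simp only [map_mul, map_inv]
    exact (congrArg₂ (fun x y => x * y * x⁻¹) a3 a2).trans (by decide)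
  have cz : ∀ (y : C1[φ e3]) {c}, c ∈ zpowers (φ e3) → Commute y.1 c := by
    rintro y _ ⟨i, rfl⟩
    exact Commute.zpow_right (mem_centralizer_singleton_iff.1 y.2) i
  have sq1 : ∀ {c}, c ∈ zpowers (φ e3) → c * c = 1 → c = 1 := fun {c} hc e => by
    have : c ^ 3 = 1 := h.exp (zpowers_le.2 eJ hc)
    rwa [pow_succ, pow_two, e, one_mul] at this
  obtain ⟨y, hy⟩ := α.surjective.comp s₀ (swap 2 3)
  replace hy : f y = swap 2 3 := hy
  let x : Fin 5 → C1[φ e3] := ![θ (m (e1 * ρ1)), θ (m ρ1), y ^ 3, θ (m (e2 * ρ2)), θ (m ρ2)]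
  have fx : ∀ i, f (x i) = swap i.castSucc i.succ := fun i => by
    fin_cases i
    exacts [a1, a2, (map_pow f y 3).trans (by rw [hy]; decide), a4, a5]
  have x2 : ∀ i, x i * x i = 1 := fun i => by
    have k : ∀ z : C1[e3], z.1 * z.1 = 1 → θ z * θ z = 1 := fun z e => by
      rw [← map_mul, show z * z = 1 from Subtype.ext e, map_one]
    fin_cases i
    exacts [k _ (by decide), k _ (by decide), Subtype.ext (by
      have := h.exp (zpowers_le.2 eJ ((kf (y * y)).1 (by rw [map_mul, hy, swap_mul_self])))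
      exact (show y.1 ^ 3 * y.1 ^ 3 = (y.1 * y.1) ^ 3 from ((Commute.refl _).mul_pow 3).symm).trans
        this),
      k _ (by decide), k _ (by decide)]
  have rel : ∀ i j n, (swap i.castSucc i.succ * swap j.castSucc j.succ) ^ n = 1 →
      (x i * x j) ^ n = 1 := fun i j n e => by
    have h1 := (kf ((x i * x j) ^ n)).1 (by rw [map_pow, map_mul, fx, fx, e])
    refine Subtype.ext (sq1 h1 (congrArg Subtype.val (show (x i * x j) ^ n * (x i * x j) ^ n = 1
      from ?_)))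
    nth_rw 1 [← cje.2 (Subtype.ext (cz (x i) h1) : x i * (x i * x j) ^ n = _ * x i)]
    rw [← conj_pow, ← mul_assoc, x2, one_mul, ← inv_eq_of_mul_eq_one_right (x2 j), ← mul_inv_rev,
      inv_pow, inv_eq_of_mul_eq_one_right (x2 j), inv_mul_cancel]
  obtain ⟨κ, hκ⟩ := H78.exists_hom_perm_of_coxeter 5 x x2
    (fun i j e => rel i j 3 (by revert i j; decide)) fun i j e => by
      have := rel i j 2 (by revert i j; decide)
      rw [pow_two, ← eq_inv_iff_mul_eq_one, mul_inv_rev, inv_eq_of_mul_eq_one_right (x2 i),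
        inv_eq_of_mul_eq_one_right (x2 j)] at this
      exact this
  have fκ : ∀ π, f (κ π) = π := DFunLike.congr_fun
    (perm_ext (f := f.comp κ) (g := MonoidHom.id _) fun i => by rw [MonoidHom.comp_apply, hκ, fx]; rfl)
  have al : ∀ g : C1[φ e3], g.1 * (κ (f g)).1⁻¹ ∈ zpowers (φ e3) := fun g =>
    (kf (g * (κ (f g))⁻¹)).1 (by rw [map_mul, map_inv, fκ, mul_inv_cancel])
  have inv : ∀ g : C1[φ e3], g * g = 1 → κ (f g) = g := fun g e => Subtype.ext (by
    refine (mul_inv_eq_one.1 (sq1 (al g) ?_)).symm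
    have e2 : (κ (f g)).1 * (κ (f g)).1 = 1 := by
      rw [← Subgroup.coe_mul, ← map_mul, ← map_mul, e, map_one, map_one]; rfl
    rw [← (cz g (al g)).eq.symm.trans (mul_assoc _ _ _).symm |> fun h => mul_assoc _ g.1 _,
      ← (cz g (al g)).eq, ← mul_assoc, ← Subgroup.coe_mul, e, Subgroup.coe_one, one_mul,
      ← mul_inv_rev, e2, inv_one])
  have r2 : φ ρ3 * φ ρ3 = 1 := by rw [← map_mul, ← map_one φ, h.peq]; decide
  have re : φ ρ3 * φ e3 * (φ ρ3)⁻¹ = (φ e3)⁻¹ := by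
    rw [← map_inv, ← map_inv, ← map_mul, ← map_mul, h.peq]; decide
  let c : C1[φ e3] →* C1[φ e3] := ((MulAut.conj (φ ρ3)).toMonoidHom.comp (C1[φ e3]).subtype).codRestrict _
    fun g => mem_centralizer_singleton_iff.2 (Commute.inv_right_iff.1 (re ▸ Commute.conj
      (mem_centralizer_singleton_iff.1 g.2) _))
  have cθ : ∀ z : C1[e3], ρ3 * z.1 = z.1 * ρ3 → c (θ z) = θ z := fun z e =>
    Subtype.ext (cje.2 (h.pcm.2 e))
  have cx : ∀ i, c (x i) = x i := fun i => by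
    have c0 : c (x 0) = x 0 := cθ _ (by decide)
    have c1 : c (x 1) = x 1 := cθ _ (by decide)
    have c3 : c (x 3) = x 3 := cθ _ (by decide)
    have c4 : c (x 4) = x 4 := cθ _ (by decide)
    have k : ∀ {i j n}, (x i * x j) ^ n = 1 → (f (c (x i)) * f (c (x j))) ^ n = 1 := fun e => by
      rw [← map_mul, ← map_mul, ← map_pow, ← map_pow, e, map_one, map_one]
    have k2 : ∀ {a b : Perm (Fin 6)}, a * a = 1 → b * b = 1 → (a * b) ^ 2 = 1 → a * b = b * a :=
      fun ha hb e => by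
        rwa [pow_two, ← eq_inv_iff_mul_eq_one, mul_inv_rev, inv_eq_of_mul_eq_one_right ha,
          inv_eq_of_mul_eq_one_right hb] at e
    have z2 : c (x 2) * c (x 2) = 1 := by rw [← map_mul, x2, map_one]
    have z2' : f (c (x 2)) * f (c (x 2)) = 1 := by rw [← map_mul, z2, map_one]
    have c2 : c (x 2) = x 2 := by
      have b0 := k (rel 2 0 2 (by decide))
      have b1 := k (rel 1 2 3 (by decide))
      have b3 := k (rel 2 3 3 (by decide))
      have b4 := k (rel 2 4 2 (by decide))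
      rw [c0, fx] at b0
      rw [c1, fx] at b1
      rw [c3, fx] at b3
      rw [c4, fx] at b4
      rw [← inv _ z2, z_aux _ (k2 z2' (swap_mul_self _ _) b0) (k2 z2' (swap_mul_self _ _) b4) b1 b3]
      exact hκ 2
    fin_cases i
    exacts [c0, c1, c2, c3, c4]
  have cκ : ∀ π, c (κ π) = κ π := DFunLike.congr_fun
    (perm_ext (f := c.comp κ) (g := κ) fun i => by rw [MonoidHom.comp_apply, hκ, cx])
  exact ⟨(C1[φ e3]).subtype.comp κ, congrArg Subtype.val (hκ 0), congrArg Subtype.val (hκ 1),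
    congrArg Subtype.val (hκ 3), congrArg Subtype.val (hκ 4), congrArg Subtype.val
      ((congrArg κ a3.symm).trans (inv (θ (m N9.t)) (by
        rw [← map_mul, show m N9.t * m N9.t = 1 from Subtype.ext (by decide), map_one]))),
    fun π => mem_centralizer_singleton_iff.1 (κ π).2,
    fun π => (cje.1 (congrArg Subtype.val (cκ π))).symm,
    fun g hg => ⟨_, al ⟨g, mem_centralizer_singleton_iff.2 hg⟩, _, (inv_mul_cancel_right _ _).symm⟩,
    fun π hπ => (fκ π).symm.trans ((kf _).2 hπ)⟩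

end St

end Cfsg.Agent.H21.L3
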