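import Cfsg.Agent.H21.L3K

/-! Fusion of the reflections and the centralizer of three commuting reflections. -/

set_option autoImplicit false
set_option synthInstance.maxSize 4096
set_option synthInstance.maxHeartbeats 200000

universe u

namespace Cfsg.Agent.H21.L3

open Equiv Subgroup Cfsg Cfsg.Agent.H63 Cfsg.Agent.H67 Cfsg.Agent.H57 Cfsg.Agent.H91.Pr
open N9 (HH e1 e2 e3 ρ1 ρ2 ρ3)

/-- the base group `⟨(03), (14), (25)⟩` -/
def C6 : Subgroup (Perm (Fin 6)) := C1[swap 0 3] ⊓ C1[swap 1 4] ⊓ C1[swap 2 5]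

theorem mem_C6 {π : Perm (Fin 6)} : π ∈ C6 ↔ (π * swap 0 3 = swap 0 3 * π ∧
    π * swap 1 4 = swap 1 4 * π) ∧ π * swap 2 5 = swap 2 5 * π := by
  simp only [C6, mem_inf, mem_centralizer_singleton_iff]

instance : DecidablePred (· ∈ C6) := fun _ => decidable_of_iff _ mem_C6.symm

theorem c6_gen : ∀ π ∈ C6, ∃ i j l : Fin 2, π = swap 0 3 ^ i.1 * swap 1 4 ^ j.1 * swap 2 5 ^ l.1 := by
  decide +kernel

theorem c6_cls : ∀ π ∈ C6, π * π = 1 ∧ (π = 1 ∨ ((π = swap 0 3 ∨ π = swap 1 4 ∨ π = swap 2 5) ∧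
    ∃ q, q * π * q⁻¹ = swap 1 2) ∨ (∃ q, q * π * q⁻¹ = swap 1 2 * swap 4 5) ∨ π = T6) := by
  decide +kernel

theorem c6_norm : ∀ π, π * T6 = T6 * π → π * swap 0 3 * π⁻¹ ∈ C6 ∧ π * swap 1 4 * π⁻¹ ∈ C6 ∧
    π * swap 2 5 * π⁻¹ ∈ C6 := by decide +kernel

theorem cr_four {x : N9} (h : x * ρ1 = ρ1 * x) : x ^ 4 ∈ N9.J := by
  rw [show x ^ 4 = x * x * (x * x) by simp only [pow_succ, pow_zero, one_mul, mul_assoc]]
  exact (by decide +kernel : ∀ s p, (mo s p * ρ1).s = (ρ1 * mo s p).s →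
    mo s p * mo s p * (mo s p * mo s p) ∈ N9.J) x.s x.p (congrArg N9.s h :)

theorem fix_e3 : ∀ (v : V) s p, v 0 = 0 → mon s p ![0, 0, 1] = v →
    ∃ s p, mon s p v = ![0, 0, 1] ∧ mo s p * ρ1 = ρ1 * mo s p := by decide +kernel

/-- the six elements of `⟨e₃, ρ₃⟩` -/
def L6 (y : N9) : Prop := (y = 1 ∨ y = e3 ∨ y = e3⁻¹) ∨ y = ρ3 ∨ y = e3 * ρ3 ∨ y = e3⁻¹ * ρ3

variable {G : Type u} [Group G]

theorem cmc {a b : G} (h : Commute a b) (g : G) : Commute (g * a * g⁻¹) (g * b * g⁻¹) := h.conj g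

namespace K6

variable {φ : N9 →* G} {κ : Perm (Fin 6) →* G} (hk : K6 φ κ)
include hk

theorem inj : Function.Injective κ :=
  (injective_iff_map_eq_one κ).2 fun π e => hk.dis π (e ▸ one_mem _)

theorem cz (π : Perm (Fin 6)) {c : G} (hc : c ∈ zpowers (φ e3)) : Commute (κ π) c := by
  obtain ⟨i, rfl⟩ := hc
  exact (hk.ce π).zpow_right i

theorem cL (π : Perm (Fin 6)) {y : N9} (hy : L6 y) : Commute (κ π) (φ y) := by
  rcases hy with (rfl | rfl | rfl) | rfl | rfl | rfl <;> try simp only [map_one, map_mul, map_inv]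
  exacts [.one_right _, hk.ce π, (hk.ce π).inv_right, hk.cr π, (hk.ce π).mul_right (hk.cr π),
    (hk.ce π).inv_right.mul_right (hk.cr π)]

end K6

variable [Finite G]

namespace St

variable {ν : HH 3 →* G} {J : Subgroup G} (h : St ν J)
include h

local notation "φ" => ph ν

omit [Finite G] in
theorem pv (v : V) : φ (tv v) ∈ J := h.memJ v

omit [Finite G] in
theorem pne {x : N9} (hx : x ≠ 1) : φ x ≠ 1 := by rwa [← map_one φ, Ne, h.peq]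

omit h [Finite G] in
theorem pcj {a x y : N9} (e : a * x * a⁻¹ = y) : φ a * φ x * (φ a)⁻¹ = φ y := by
  rw [← e, map_mul, map_mul, map_inv]

theorem cb {v : V} (v0 : v ≠ 0) (hv : ∀ s p, mon s p ![0, 0, 1] ≠ v) : C1[φ (tv v)] ≤ N[J] := by
  refine (h.tri (h.pv v) (by rw [← jzero (ν := ν)]; exact mt h.jeq.1 v0)).resolve_right ?_
  rintro ⟨-, n, hn, e⟩
  obtain ⟨x, rfl⟩ := h.mN.1 hn
  exact hv _ _ (h.jeq.1 ((ac x _).symm.trans e))

omit [Finite G] in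
theorem ti2 {g w : G} (hC : C1[w] ≤ N[J]) (hg : g * w * g⁻¹ ∈ J) : g ∈ N[J] :=
  inv_mem_iff.1 (h.ti hg (by rwa [show g⁻¹ * (g * w * g⁻¹) * g⁻¹⁻¹ = w by group]))

theorem nf0 {g y w : G} (hg : g * y * g⁻¹ = φ ρ1) (hw : Commute w y) (w3 : w ^ 3 = 1) (w1 : w ≠ 1) :
    ∃ g v, g * y * g⁻¹ = φ ρ1 ∧ v ≠ 0 ∧ v 0 = 0 ∧ g * w * g⁻¹ = φ (tv v) := by
  have hS : IsSyl 3 (J ⊓ C1[φ ρ1]) C1[φ ρ1] := by
    by_contra hc
    obtain ⟨Q, h1, h2, h3⟩ := exists_lt_pgroup_normalizer inf_le_right h.pJ.to_inf_left hc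
    refine h1.not_ge fun q hq => ⟨?_, (h2 hq).1⟩
    obtain ⟨x, rfl⟩ := h.pN.1 (h.ti2 (h.cb (v := ![0, 1, 1]) (by decide) (by decide +kernel))
      (conj_mem_of_mem_normalizer (h2 hq).2 ⟨h.pv _,
        mem_centralizer_singleton_iff.2 (h.pcm.2 (by decide))⟩).1)
    obtain ⟨n, hn⟩ := h3 ⟨_, hq⟩
    obtain ⟨m, hm⟩ := exists_pow_eq_self_of_coprime (x := φ x) (n := 4)
      (Nat.Coprime.coprime_dvd_right (orderOf_dvd_of_pow_eq_one (congrArg Subtype.val hn))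
        (Nat.Coprime.pow_right n (by norm_num)))
    exact hm ▸ pow_mem (map_pow φ x 4 ▸ h.pJ'.2 (cr_four (h.pcm.1
      (mem_centralizer_singleton_iff.1 (h2 hq).1)))) m
  obtain ⟨c, hc, h1⟩ := exists_cj_le_syl hS (K := zpowers (g * w * g⁻¹))
    (zpowers_le.2 (mem_centralizer_singleton_iff.2 (hg ▸ cmc hw g)))
    (isPGroup_zpowers_of_pow (by rw [conj_pow, w3, mul_one, mul_inv_cancel]))
  have h2 := h1 (conj_mem_cj (mem_zpowers _))
  obtain ⟨v, hv⟩ := h.mJ h2.1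
  refine ⟨c * g, v, by rw [cjc, hg, cje, mem_centralizer_singleton_iff.1 hc], fun e => w1 ?_,
    (by decide : ∀ v : V, mon ρ1.s ρ1.p v = v → v 0 = 0) v (comm_tv.1 (h.pcm.1
      (mem_centralizer_singleton_iff.1 (hv ▸ h2.2 : φ (tv v) ∈ C1[φ ρ1])).symm)), by
        rw [cjc]; exact hv.symm⟩
  rwa [e, jzero, eq_comm, conj_eq_one_iff, conj_eq_one_iff] at hv

theorem nf_t {g : G} {y : N9} (hy : y * tv ![1, 1, 0] = tv ![1, 1, 0] * y) (p1 : y.p ≠ 1) :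
    g * φ y * g⁻¹ ≠ φ ρ1 := fun hg => by
  obtain ⟨g, v, e1, -, -, e2⟩ := h.nf0 hg (h.pcm.2 hy.symm) (h.exp (h.pv _)) (h.pne (by decide))
  obtain ⟨n, rfl⟩ := h.pN.1 (h.ti2 (h.cb (by decide) (by decide +kernel)) (e2 ▸ h.pv v))
  rw [pcj rfl, h.peq] at e1
  exact p1 (conj_eq_one_iff.1 (congrArg N9.p e1))

theorem nf_s {g : G} : g * φ N9.σ * g⁻¹ ≠ φ ρ1 := fun hg => by
  obtain ⟨g, v, -, v0, h0, e2⟩ := h.nf0 hg (w := φ N9.x) (h.pcm.2 (by decide))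
    (by rw [← map_pow, ← map_one φ, h.peq]; decide) (h.pne (by decide))
  obtain ⟨c, hc, h1⟩ := exists_cj_le_syl (h.sylJ (h.pv v) (h.pfour v0 h0))
    (K := zpowers (g * φ (tv 1) * g⁻¹)) (zpowers_le.2 (mem_centralizer_singleton_iff.2
      (e2 ▸ cmc (h.pcm.2 (by decide)) g)))
    (isPGroup_zpowers_of_pow (by rw [conj_pow, h.exp (h.pv _), mul_one, mul_inv_cancel]))
  have h2 := h.ti2 (g := c * g) h.ca' (cjc c g _ ▸ h1 (conj_mem_cj (mem_zpowers _)))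
  have h3 := conj_mem_of_mem_normalizer (inv_mem h2) (h.pv v)
  rw [← cje.2 (mem_centralizer_singleton_iff.1 hc), ← e2, ← cjc c, ← cjc, inv_mul_cancel, one_mul,
    inv_one, mul_one, h.pJ'] at h3
  exact absurd h3 (by decide)

variable {κ : Perm (Fin 6) →* G} (hk : K6 (ph ν) κ)
include hk

theorem nf_u {g : G} : g * φ (ρ1 * ρ2) * g⁻¹ ≠ φ ρ1 := fun hg => by
  obtain ⟨g, v, e1, v0, h0, e2⟩ := h.nf0 hg (w := φ (tv ![0, 0, 1])) (h.pcm.2 (by decide))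
    (h.exp (h.pv _)) (h.pne (by decide))
  obtain ⟨n, hn, e⟩ := h.fus (g := g) (h.pv ![0, 0, 1]) (e2 ▸ h.sylJ (h.pv v) (h.pfour v0 h0))
  obtain ⟨x, rfl⟩ := h.pN.1 hn
  rw [e2, pcj (conj_tv _ _)] at e
  obtain ⟨s, p, f1, f2⟩ := fix_e3 v _ _ h0 (h.jeq.1 e)
  obtain ⟨c, hc, π, e3⟩ := hk.all (φ (mo s p) * g) (cje.1 (by
    show _ * φ (tv ![0, 0, 1]) * _ = φ (tv ![0, 0, 1])
    rw [cjc, e2, pcj (conj_tv _ _), f1]))
  have e4 : φ (mo s p) * g * φ (ρ1 * ρ2) * (φ (mo s p) * g)⁻¹ = φ ρ1 := by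
    rw [cjc, e1, pcj (cje.2 f2)]
  rw [e3, map_mul, ← hk.k12, ← hk.k45, ← map_mul, cjc, ← map_inv, ← map_mul, ← map_mul,
    cje.2 (hk.cz _ hc).symm.eq] at e4
  simpa using congrArg Perm.sign (hk.inj e4)

theorem cB {g : G} (h1 : Commute g (κ (swap 0 3))) (h2 : Commute g (κ (swap 1 4)))
    (h3 : Commute g (κ (swap 2 5))) : ∃ π ∈ C6, ∃ y, L6 y ∧ g = κ π * φ y := by
  have eJ : φ e3 ∈ J := h.pv _
  have e3' := h.exp eJ
  have e1' : φ e3 ≠ 1 := h.pne (by decide)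
  have mB : ∀ {g}, Commute g (κ (swap 0 3)) → Commute g (κ (swap 1 4)) → Commute g (κ (swap 2 5)) →
      g ∈ C[C6.map κ] := fun h1 h2 h3 => by
    rintro _ ⟨π, hπ, rfl⟩
    obtain ⟨i, j, l, rfl⟩ := c6_gen π hπ
    simp only [map_mul, map_pow]
    exact (((h1.pow_right _).mul_right (h2.pow_right _)).mul_right (h3.pow_right _)).symm
  have cB : ∀ {g}, (∀ π, Commute (κ π) g) → g ∈ C[C6.map κ] := fun e => by
    rintro _ ⟨π, -, rfl⟩; exact e π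
  have k0 : ∀ g ∈ C[C6.map κ], Commute g (φ e3) → ∃ c ∈ zpowers (φ e3), ∃ π ∈ C6, g = κ π * c :=
    fun g hg e => by
      obtain ⟨c, hc, π, rfl⟩ := hk.all g e
      have h1 := (mul_mem_cancel_left (cB fun π => hk.cz π hc)).1 hg
      have k : ∀ ρ ∈ C6, π * ρ = ρ * π := fun ρ hρ =>
        hk.inj (by rw [map_mul, map_mul]; exact (h1 _ ⟨ρ, hρ, rfl⟩).symm)
      exact ⟨c, hc, π, mem_C6.2 ⟨⟨k _ (by decide), k _ (by decide)⟩, k _ (by decide)⟩,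
        (hk.cz π hc).symm⟩
  have B2 : IsPGroup 2 (C6.map κ) := IsPGroup.map (fun π => ⟨1, Subtype.ext
    ((pow_two π.1).trans (c6_cls _ π.2).1)⟩) κ
  have BZ : C6.map κ ≤ C[C6.map κ] := by
    rintro _ ⟨π, hπ, rfl⟩
    obtain ⟨⟨a, b⟩, c⟩ := mem_C6.1 hπ
    exact mB (Commute.map a κ) (Commute.map b κ) (Commute.map c κ)
  have DB : J ⊓ C1[φ N9.t] ≤ N[C6.map κ] := fun d hd => by
    obtain ⟨c, hc, π, rfl⟩ := hk.all d (h.cm hd.1 eJ)
    have h1 := mem_centralizer_singleton_iff.1 ((mul_mem_cancel_left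
      (mem_centralizer_singleton_iff.2 (hk.kt ▸ (hk.cz T6 hc).symm))).1 hd.2)
    rw [← hk.kt, ← map_mul, ← map_mul] at h1
    obtain ⟨a, b, c⟩ := c6_norm π (hk.inj h1)
    refine mul_mem (le_normalizer_of_le_centralizer le_rfl (cB fun π => hk.cz π hc))
      (le_normalizer_map κ ⟨π, mem_normalizer_fintype fun ρ hρ => ?_, rfl⟩)
    obtain ⟨i, j, l, rfl⟩ := c6_gen ρ hρ
    rw [cjm, cjm, ← conj_pow, ← conj_pow, ← conj_pow]
    exact mul_mem (mul_mem (pow_mem a _) (pow_mem b _)) (pow_mem c _)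
  have eZ : φ e3 ∈ C[C6.map κ] := cB hk.ce
  have eD : φ e3 ∈ J ⊓ C1[φ N9.t] := ⟨eJ, mem_centralizer_singleton_iff.2 (h.pcm.2 (by decide))⟩
  have b1 : ∀ {g r c}, r ∈ C6.map κ → c ∈ zpowers (φ e3) → g * φ e3 * g⁻¹ = r * c → r = 1 := by
    rintro g _ c ⟨π, hπ, rfl⟩ hc e
    refine eq_one_of_cube B2 ⟨π, hπ, rfl⟩ ?_
    have := congrArg (· ^ 3) e
    simpa only [conj_pow, e3', (hk.cz π hc).mul_pow, h.exp (zpowers_le.2 eJ hc), mul_one,
      mul_inv_cancel, eq_comm] using this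
  have hg := mB h1 h2 h3
  have hN := L0q (D := J ⊓ C1[φ N9.t]) ⟨BZ, le_normalizer_of_le_centralizer le_rfl⟩
    h.pJ.to_inf_left (le_normalizer_centralizer DB) DB (fun K a1 a2 a3 a4 g hg => by
      have c3 : (Nat.card K).Coprime 3 := by
        obtain ⟨n, hn⟩ := IsPGroup.iff_card.1 B2
        rw [← card_mul_relIndex a1, hn]
        exact Nat.Coprime.mul_left (Nat.Coprime.pow_left _ (by norm_num)) a3
      have hi : J ⊓ K = ⊥ := inf_eq_bot_of_coprime' (h.card ▸ Nat.Coprime.pow_left 3 c3.symm)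
      have c9 : Nat.card ↥(J ⊓ C1[φ N9.t]) = 9 := h.card_D
      suffices hK : K ≤ C1[φ e3] by
        obtain ⟨c, hc, π, hπ, rfl⟩ := k0 g (a2 hg) (mem_centralizer_singleton_iff.1 (hK hg))
        rw [mem_bot.1 (hi.le ⟨zpowers_le.2 eJ hc, (mul_mem_cancel_left (a1 ⟨π, hπ, rfl⟩)).1 hg⟩),
          mul_one]
        exact ⟨π, hπ, rfl⟩
      refine coprime_abelian_gen_cent1 (A := J ⊓ C1[φ N9.t])
        ⟨⟨fun x y => Subtype.ext (h.cm x.2.1 y.2.1)⟩⟩ (fun hD => by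
          obtain ⟨x, hx⟩ := hD.exists_ofOrder_eq_natCard
          have := orderOf_dvd_of_pow_eq_one (show x ^ 3 = 1 from Subtype.ext (h.exp x.2.1))
          rw [hx, c9] at this
          exact absurd this (by norm_num)) a4 (c9 ▸ Nat.Coprime.pow_left 2 c3.symm)
        fun w hw w1 y hy => ?_
      rcases h.tri hw.1 w1 with e | ⟨-, n, hn, e⟩
      · rw [mem_centralizer_singleton_iff, ← cje, ← mul_inv_eq_one]
        refine mem_bot.1 (hi.le ⟨mul_mem (conj_mem_of_mem_normalizer (e hy.2) eJ) (J.inv_mem eJ), ?_⟩)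
        rw [mul_assoc y, mul_assoc y]
        exact mul_mem hy.1 (conj_mem_of_mem_normalizer (a4 eD) (K.inv_mem hy.1))
      · obtain ⟨x, rfl⟩ := h.mN.1 hn
        rw [ac] at e
        subst e
        have h4 := hy.2
        rcases (by decide +kernel : ∀ s p, mon N9.t.s N9.t.p (mon s p ![0, 0, 1]) =
          mon s p ![0, 0, 1] → mon s p ![0, 0, 1] = ![0, 0, 1] ∨ mon s p ![0, 0, 1] = -![0, 0, 1])
          _ _ (comm_tv.1 (h.pcm.1 (mem_centralizer_singleton_iff.1 hw.2).symm)) with e | e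
        · rwa [e] at h4
        · rwa [e, jneg, ← centralizer_zpowers, zpowers_inv, centralizer_zpowers] at h4)
    eZ (fun ⟨π, _, e⟩ => e1' (by rw [← e, hk.dis π (e ▸ mem_zpowers _), map_one]))
    (e3' ▸ one_mem _) (fun g hg e => by
      obtain ⟨c, hc, π, hπ, rfl⟩ := k0 g hg (cje.1 (mul_inv_eq_one.1
        (b1 e (mem_zpowers _) (inv_mul_cancel_right _ _).symm)))
      exact mul_mem_sup ⟨π, hπ, rfl⟩ hc) hg
  obtain ⟨r, hr, c, hc, e⟩ := (mem_sup_of_le_normalizer' (zpowers_le.2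
    (le_normalizer_of_le_centralizer le_rfl eZ))).1
    (conj_mem_of_mem_normalizer hN (mem_sup_right (mem_zpowers _)))
  rw [b1 hr hc e.symm, one_mul] at e
  have k1 : ∀ c ∈ zpowers (φ e3), ∃ y, (y = 1 ∨ y = e3 ∨ y = e3⁻¹) ∧ c = φ y := fun c hc => by
    rcases mem_zp3 e3' hc with rfl | rfl | rfl
    exacts [⟨1, .inl rfl, (map_one _).symm⟩, ⟨_, .inr (.inl rfl), rfl⟩,
      ⟨_, .inr (.inr rfl), (map_inv _ _).symm⟩]
  rcases mem_zp3 e3' hc with rfl | rfl | rfl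
  · exact absurd (conj_eq_one_iff.1 e.symm) e1'
  · obtain ⟨c, hc, π, hπ, rfl⟩ := k0 g hg (cje.1 e.symm)
    obtain ⟨y, hy, rfl⟩ := k1 c hc
    exact ⟨π, hπ, y, .inl hy, rfl⟩
  · obtain ⟨c, hc, π, hπ, e⟩ := k0 (g * (φ ρ3)⁻¹) (mul_mem hg (inv_mem (cB hk.cr))) (cje.1 (by
      rw [cjc, ← map_inv, pcj (show _ = e3⁻¹ by decide), map_inv, conj_inv_of e.symm, inv_inv]))
    obtain ⟨y, hy, rfl⟩ := k1 c hc
    exact ⟨π, hπ, y * ρ3, .inr (by rcases hy with rfl | rfl | rfl <;> simp), by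
      rw [map_mul, ← mul_assoc, ← e, inv_mul_cancel_right]⟩

theorem cls {π : Perm (Fin 6)} (hπ : π ∈ C6) {y : N9} (hy : L6 y) (hc : IsConj (φ ρ1) (κ π * φ y)) :
    (y = 1 ∧ (π = swap 0 3 ∨ π = swap 1 4 ∨ π = swap 2 5)) ∨
      (π = 1 ∧ (y = ρ3 ∨ y = e3 * ρ3 ∨ y = e3⁻¹ * ρ3)) := by
  obtain ⟨g, hg⟩ := isConj_iff.1 hc.symm
  obtain ⟨p2, hp⟩ := c6_cls π hπ
  have k : ∀ g q {y}, L6 y → g * (κ π * φ y) * g⁻¹ =
      g * (κ q)⁻¹ * (κ (q * π * q⁻¹) * φ y) * (g * (κ q)⁻¹)⁻¹ := fun g q y hy => by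
    rw [map_mul, map_mul, map_inv, mul_assoc _ _ (φ y), (hk.cL q hy).inv_left.eq]; group
  have y2 : y * y = 1 := by
    have := congrArg (fun x => x * x) hg
    simp only [← cjm, ← map_mul, show ρ1 * ρ1 = 1 by decide, map_one, conj_eq_one_iff] at this
    rwa [← pow_two, (hk.cL π hy).mul_pow, ← map_pow, ← map_pow, pow_two, p2, map_one, one_mul,
      ← map_one φ, h.peq, pow_two] at this
  rcases hy with (rfl | rfl | rfl) | hy
  · refine .inl ⟨rfl, ?_⟩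
    rcases hp with rfl | hp | ⟨q, e⟩ | rfl
    · exact absurd (by simpa using hg.symm) (h.pne (show ρ1 ≠ 1 by decide))
    · exact hp.1
    · rw [k g q (.inl (.inl rfl)), e, map_mul, hk.k12, hk.k45, map_one, mul_one, ← map_mul] at hg
      exact absurd hg (h.nf_u hk)
    · rw [hk.kt, ← map_mul] at hg
      exact absurd hg (h.nf_t (by decide) (by decide))
  · exact absurd y2 (by decide)
  · exact absurd y2 (by decide)
  refine .inr ⟨?_, hy⟩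
  obtain ⟨c, hc, e⟩ : ∃ c, L6 c ∧ c * ρ3 * c⁻¹ = y := by
    rcases hy with rfl | rfl | rfl
    exacts [⟨1, .inl (.inl rfl), by decide⟩, ⟨_, .inl (.inr (.inr rfl)), by decide⟩,
      ⟨_, .inl (.inr (.inl rfl)), by decide⟩]
  rw [← pcj e, ← cje.2 (hk.cL π hc).symm.eq, ← cjm, ← cjc] at hg
  rcases hp with rfl | ⟨-, q, e⟩ | ⟨q, e⟩ | rfl
  · rfl
  · rw [k _ q (.inr (.inl rfl)), e, hk.k12, ← map_mul, ← pcj (show N9.pm (swap 1 2) * (ρ1 * ρ2) *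
      (N9.pm (swap 1 2))⁻¹ = ρ1 * ρ3 by decide), ← cjc] at hg
    exact absurd hg (h.nf_u hk)
  · rw [k _ q (.inr (.inl rfl)), e, map_mul κ, hk.k12, hk.k45, ← map_mul, ← map_mul,
      show ρ1 * ρ2 * ρ3 = N9.σ by decide] at hg
    exact absurd hg h.nf_s
  · rw [hk.kt, ← map_mul] at hg
    exact absurd hg (h.nf_t (by decide) (by decide))

end St

end Cfsg.Agent.H21.L3
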