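import Cfsg.Agent.H21.L3N

/-! Construction of the subgroup `S₉`. -/

set_option autoImplicit false
set_option synthInstance.maxSize 4096
set_option synthInstance.maxHeartbeats 200000

universe u

namespace Cfsg.Agent.H21.L3

open Equiv Subgroup Cfsg Cfsg.Agent.H63 Cfsg.Agent.H67 Cfsg.Agent.H57 Cfsg.Agent.H91.Pr
open N9 (HH e1 e2 e3 ρ1 ρ2 ρ3)

theorem n9_gen : ∀ s p, ∃ a b c i j l : Fin 2, mo s p = ρ1 ^ a.1 * ρ2 ^ b.1 * ρ3 ^ c.1 *
    (N9.t ^ i.1 * (N9.x * N9.t * N9.x⁻¹) ^ j.1 * N9.t ^ l.1) := by decide +kernel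

variable {G : Type u} [Group G]

/-- a subgroup `S₆` with prescribed generators, commuting with two further elements -/
structure KW (κ : Perm (Fin 6) →* G) (s1 s2 s4 s5 s7 s8 : G) : Prop where
  inj : Function.Injective κ
  k01 : κ (swap 0 1) = s1
  k12 : κ (swap 1 2) = s2
  k34 : κ (swap 3 4) = s4
  k45 : κ (swap 4 5) = s5
  c7 : ∀ π, Commute (κ π) s7
  c8 : ∀ π, Commute (κ π) s8

namespace KW

variable {κ κ₁ κ₂ : Perm (Fin 6) →* G} {s1 s2 s4 s5 s7 s8 : G}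

theorem rot (h : KW κ s1 s2 s4 s5 s7 s8) {X : G} (e1 : X * s1 * X⁻¹ = s4) (e2 : X * s2 * X⁻¹ = s5)
    (e4 : X * s4 * X⁻¹ = s7) (e5 : X * s5 * X⁻¹ = s8) (e7 : X * s7 * X⁻¹ = s1)
    (e8 : X * s8 * X⁻¹ = s2) : KW ((MulAut.conj X).toMonoidHom.comp κ) s4 s5 s7 s8 s1 s2 :=
  ⟨(MulAut.conj X).injective.comp h.inj, (congrArg (X * · * X⁻¹) h.k01).trans e1,
    (congrArg (X * · * X⁻¹) h.k12).trans e2, (congrArg (X * · * X⁻¹) h.k34).trans e4,
    (congrArg (X * · * X⁻¹) h.k45).trans e5,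
    fun π => e7 ▸ cmc (h.c7 π) X, fun π => e8 ▸ cmc (h.c8 π) X⟩

theorem cm (h : KW κ s1 s2 s4 s5 s7 s8) {a b : Perm (Fin 6)} :
    Commute (κ a) (κ b) ↔ a * b = b * a := ⟨fun e => e.of_map h.inj, fun e => Commute.map e κ⟩

theorem cls (κ : Perm (Fin 6) →* G) {a b c d : Fin 6} (h : a ≠ b) (h' : c ≠ d) :
    IsConj (κ (swap a b)) (κ (swap c d)) := κ.map_isConj (Perm.isConj_swap h h')

theorem comm [Finite G] (h : KW κ s1 s2 s4 s5 s7 s8) (h₁ : KW κ₁ s4 s5 s7 s8 s1 s2)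
    (h₂ : KW κ₂ s7 s8 s1 s2 s4 s5)
    (hP : ∀ y, IsConj s2 y → Commute y s4 → Commute y s2 → Commute y (κ (swap 0 5)) →
      y = s4 ∨ y = s2 ∨ y = κ (swap 0 5) ∨ y = s7 ∨ y = s8 ∨ y = s7 * s8 * s7⁻¹)
    (hU : ∀ y, Commute y s4 → Commute y s2 → Commute y (κ (swap 0 5)) → Commute y s7 → y * y = 1) :
    Commute (κ₁ (swap 2 3)) (κ₂ (swap 2 3)) := by
  have c0 : IsConj s2 (κ (swap 0 5)) := h.k12 ▸ cls κ (by decide) (by decide)
  have c1 : ∀ {a b}, a ≠ b → IsConj s2 (κ₁ (swap a b)) := fun e =>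
    (h.k12 ▸ h.k34 ▸ cls κ (by decide) (by decide) : IsConj s2 s4).trans
      (h₁.k01 ▸ cls κ₁ (by decide) e)
  have c2 : IsConj s2 (κ₂ (swap 2 3)) := h₂.k45 ▸ cls κ₂ (by decide) (by decide)
  have k4 : Commute (κ (swap 0 5)) s4 := h.k34 ▸ h.cm.2 (by decide)
  have k2 : Commute (κ (swap 0 5)) s2 := h.k12 ▸ h.cm.2 (by decide)
  have n4 : κ (swap 0 5) ≠ s4 := h.k34 ▸ h.inj.ne (by decide)
  have n2 : κ (swap 0 5) ≠ s2 := h.k12 ▸ h.inj.ne (by decide)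
  have k7 := h.c7 (swap 0 5)
  have k8 := h.c8 (swap 0 5)
  generalize κ (swap 0 5) = k at *
  have b4 : Commute s7 s4 := h.k34 ▸ (h.c7 _).symm
  have b2 : Commute s7 s2 := h.k12 ▸ (h.c7 _).symm
  have b8 : ¬ Commute s8 s7 := h₁.k45 ▸ h₁.k34 ▸ mt h₁.cm.1 (by decide)
  have b9 : ¬ Commute (s7 * s8 * s7⁻¹) s7 := fun e => b8 (by simpa [mul_assoc] using cmc e s7⁻¹)
  have n7 : k ≠ s7 := fun e => b8 (e ▸ k8).symm
  have mM : ∀ {y}, y ∈ C1[s4] ⊓ C1[s2] ↔ Commute y s4 ∧ Commute y s2 := by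
    simp only [mem_inf, mem_centralizer_singleton_iff]; exact Iff.rfl
  have mU : ∀ {y}, y ∈ C1[s4] ⊓ C1[s2] ⊓ (C1[k] ⊓ C1[s7]) ↔
      (Commute y s4 ∧ Commute y s2) ∧ Commute y k ∧ Commute y s7 := by
    simp only [mem_inf, mem_centralizer_singleton_iff]; exact Iff.rfl
  have sq : ∀ y ∈ C1[s4] ⊓ C1[s2] ⊓ (C1[k] ⊓ C1[s7]), y * y = 1 := fun y hy =>
    hU y (mU.1 hy).1.1 (mU.1 hy).1.2 (mU.1 hy).2.1 (mU.1 hy).2.2
  have U2 : IsPGroup 2 ↥(C1[s4] ⊓ C1[s2] ⊓ (C1[k] ⊓ C1[s7])) := fun y =>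
    ⟨1, Subtype.ext ((pow_two y.1).trans (sq _ y.2))⟩
  obtain ⟨Q, q1, q2, -⟩ := exists_lt_pgroup_normalizer inf_le_left U2 fun hS => by
    obtain ⟨g, -, hg⟩ := exists_cj_le_syl hS (K := zpowers (κ₁ (swap 2 3 * swap 3 4 * swap 4 5)))
      (zpowers_le.2 (mM.2 ⟨by rw [← h₁.k01, h₁.cm]; decide, h₁.c8 _⟩))
      ((isPGroup_zpowers_of_pow (p := 2 ^ 2) (by
        rw [← map_pow, ← map_one κ₁]; exact congrArg κ₁ (by decide))).of_pow)
    have := sq _ (hg (conj_mem_cj (mem_zpowers _)))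
    rw [← cjm, conj_eq_one_iff, ← map_mul, ← map_one κ₁] at this
    exact absurd (h₁.inj this) (by decide)
  obtain ⟨n, nQ, nU⟩ := SetLike.exists_of_lt q1
  obtain ⟨n4', n2'⟩ := mM.1 (q2 nQ).1
  have key : ∀ y, IsConj s2 y → y ≠ s4 → y ≠ s2 → y ∈ C1[s4] ⊓ C1[s2] ⊓ (C1[k] ⊓ C1[s7]) →
      n * y * n⁻¹ = k ∨ n * y * n⁻¹ = s7 := fun y c a b hy => by
    obtain ⟨⟨u1, u2⟩, u3, u4⟩ := mU.1 (conj_mem_of_mem_normalizer (q2 nQ).2 hy)
    rcases hP _ (c.trans (isConj_iff.2 ⟨n, rfl⟩)) u1 u2 u3 with e | e | e | e | e | e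
    · exact absurd (by simpa using e.trans (cje.2 n4').symm) a
    · exact absurd (by simpa using e.trans (cje.2 n2').symm) b
    · exact .inl e
    · exact .inr e
    · exact absurd (e ▸ u4) b8
    · exact absurd (e ▸ u4) b9
  have a8 : Commute s8 s4 := h.k34 ▸ (h.c8 _).symm
  have a2 : Commute s8 s2 := h.k12 ▸ (h.c8 _).symm
  have f1 := key k c0 n4 n2 (mU.2 ⟨⟨k4, k2⟩, .refl _, k7⟩)
  have f2 := key s7 (h₁.k34 ▸ c1 (by decide)) (fun e => b8 (e ▸ a8)) (fun e => b8 (e ▸ a2))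
    (mU.2 ⟨⟨b4, b2⟩, k7.symm, .refl _⟩)
  obtain ⟨g1, g2⟩ : n * k * n⁻¹ = s7 ∧ n * s7 * n⁻¹ = k := by
    rcases f1 with f1 | f1 <;> rcases f2 with f2 | f2
    · exact absurd (by simpa using f1.trans f2.symm) n7
    · exact absurd (mU.2 ⟨⟨n4', n2'⟩, cje.1 f1, cje.1 f2⟩) nU
    · exact ⟨f1, f2⟩
    · exact absurd (by simpa using f1.trans f2.symm) n7
  have key2 : ∀ y, IsConj s2 y → Commute y s4 → Commute y s2 → Commute y s7 → ¬ Commute y s8 →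
      y ≠ s7 → y = n * s8 * n⁻¹ ∨ y = k * (n * s8 * n⁻¹) * k⁻¹ := fun y c u1 u2 u3 u4 u5 => by
    have t : ∀ {a b}, n * a * n⁻¹ = b → Commute y b → Commute (n⁻¹ * y * n) a := fun e u => by
      simpa [← e, mul_assoc] using cmc u n⁻¹
    have t' : ∀ {a}, n⁻¹ * y * n = a → y = n * a * n⁻¹ := fun e => by rw [← e]; group
    rcases hP _ (c.trans (isConj_iff.2 ⟨n⁻¹, by rw [inv_inv]⟩)) (t (cje.2 n4') u1) (t (cje.2 n2') u2)
      (t g1 u3) with e | e | e | e | e | e <;> replace e := t' e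
    · exact absurd ((e.trans (cje.2 n4')) ▸ a8.symm) u4
    · exact absurd ((e.trans (cje.2 n2')) ▸ a2.symm) u4
    · exact absurd (e.trans g1) u5
    · exact absurd ((e.trans g2) ▸ k8) u4
    · exact .inl e
    · exact .inr (by rw [e, ← g2]; group)
  have hE := key2 (κ₁ (swap 2 5)) (c1 (by decide)) (h₁.k01 ▸ h₁.cm.2 (by decide)) (h₁.c8 _)
    (h₁.k34 ▸ h₁.cm.2 (by decide)) (h₁.k45 ▸ mt h₁.cm.1 (by decide))
    (h₁.k34 ▸ h₁.inj.ne (by decide))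
  have hD := key2 (κ₂ (swap 2 3)) c2 (h₂.c7 _) (h₂.k45 ▸ h₂.cm.2 (by decide))
    (h₂.k01 ▸ h₂.cm.2 (by decide)) (h₂.k12 ▸ mt h₂.cm.1 (by decide))
    (h₂.k01 ▸ h₂.inj.ne (by decide))
  have ne : κ₂ (swap 2 3) ≠ κ₁ (swap 2 5) := fun e =>
    absurd (h₁.cm.1 (h₁.k12 ▸ e ▸ h₂.c8 (swap 2 3))) (by decide)
  have br : k * (n * s8 * n⁻¹) * k⁻¹ = n * s8 * n⁻¹ * k * (n * s8 * n⁻¹)⁻¹ := by
    rw [← g2, ← cjc, ← cjc, show n * s7 * n⁻¹ * n = n * s7 by group,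
      show n * s8 * n⁻¹ * n = n * s8 by group, cjc, cjc, ← h₁.k34, ← h₁.k45]
    simp only [← map_inv, ← map_mul]
    congr 3
    decide
  have kk : k * k = 1 := hU k k4 k2 (.refl _) k7
  generalize n * s8 * n⁻¹ = C at *
  have fin : κ₂ (swap 2 3) = κ₁ (swap 2 5) * k * (κ₁ (swap 2 5))⁻¹ := by
    rcases hE with hE | hE <;> rcases hD with hD | hD
    · exact absurd (hD.trans hE.symm) ne
    · rw [hD, hE, br]
    · rw [hD, hE]
      calc C = k * (C * k * C⁻¹) * k⁻¹ := by rw [← br, ← cjc, kk]; group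
        _ = _ := by group
    · exact absurd (hD.trans hE.symm) ne
  rw [fin, show swap (2 : Fin 6) 3 = swap 2 5 * (swap 3 4 * swap 4 5 * (swap 3 4)⁻¹) * (swap 2 5)⁻¹ by
    decide, map_mul, map_mul, map_inv, map_mul, map_mul, map_inv, h₁.k34, h₁.k45]
  exact cmc ((k7.mul_right k8).mul_right k7.inv_right).symm _

theorem exists_psi (h : KW κ s1 s2 s4 s5 s7 s8) (h₁ : KW κ₁ s4 s5 s7 s8 s1 s2)
    (hc : Commute (κ (swap 2 3)) (κ₁ (swap 2 3))) : ∃ ψ : Perm (Fin 9) →* G, Function.Injective ψ ∧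
      (∀ i : Fin 5, ψ (swap (i.castAdd 3).castSucc (i.castAdd 3).succ) = κ (swap i.castSucc i.succ)) ∧
      ∀ i : Fin 5, ψ (swap (i.natAdd 3).castSucc (i.natAdd 3).succ) = κ₁ (swap i.castSucc i.succ) := by
  let x : Fin 8 → G := ![s1, s2, κ (swap 2 3), s4, s5, κ₁ (swap 2 3), s7, s8]
  have xa : ∀ i : Fin 5, x (i.castAdd 3) = κ (swap i.castSucc i.succ) := fun i => by
    fin_cases i
    exacts [h.k01.symm, h.k12.symm, rfl, h.k34.symm, h.k45.symm]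
  have xb : ∀ i : Fin 5, x (i.natAdd 3) = κ₁ (swap i.castSucc i.succ) := fun i => by
    fin_cases i
    exacts [h₁.k01.symm, h₁.k12.symm, rfl, h₁.k34.symm, h₁.k45.symm]
  have rel : ∀ (n : ℕ) (i j : Fin 8), ((∃ a b : Fin 5, a.castAdd 3 = i ∧ b.castAdd 3 = j ∧
      (swap a.castSucc a.succ * swap b.castSucc b.succ) ^ n = 1) ∨ ∃ a b : Fin 5, a.natAdd 3 = i ∧
      b.natAdd 3 = j ∧ (swap a.castSucc a.succ * swap b.castSucc b.succ) ^ n = 1) →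
      (x i * x j) ^ n = 1 := by
    rintro n _ _ (⟨a, b, rfl, rfl, e⟩ | ⟨a, b, rfl, rfl, e⟩)
    · rw [xa, xa, ← map_mul, ← map_pow, e, map_one]
    · rw [xb, xb, ← map_mul, ← map_pow, e, map_one]
  have x2 : ∀ i, x i * x i = 1 := fun i => (pow_one _).symm.trans (rel 1 i i (by revert i; decide))
  obtain ⟨ψ, hψ⟩ := H78.exists_hom_perm_of_coxeter 8 x x2
    (fun i j e => rel 3 i j (by revert i j; decide)) fun i j e => by
      by_cases hij : i.1 < 3 ∧ 4 < j.1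
      · obtain ⟨a, rfl⟩ : ∃ a : Fin 5, a.natAdd 3 = j := by revert i j; decide
        obtain rfl | rfl | rfl : i = 0 ∨ i = 1 ∨ i = 2 := by revert i a; decide
        · exact xb a ▸ (h₁.c7 _).symm
        · exact xb a ▸ (h₁.c8 _).symm
        · obtain rfl | rfl | rfl : a = 2 ∨ a = 3 ∨ a = 4 := by revert a; decide
          exacts [hc, h.c7 _, h.c8 _]
      have := rel 2 i j (by revert i j; decide)
      rw [pow_two, ← eq_inv_iff_mul_eq_one, mul_inv_rev, inv_eq_of_mul_eq_one_right (x2 i),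
        inv_eq_of_mul_eq_one_right (x2 j)] at this
      exact this
  refine ⟨ψ, (ψ.ker_eq_bot_iff).1 (by_contra fun hk => ?_), fun i => (hψ _).trans (xa i),
    fun i => (hψ _).trans (xb i)⟩
  have := Perm.alternatingGroup_le_of_normal (by simp) ((nontrivial_iff_ne_bot _).2 hk)
    (Perm.mem_alternatingGroup.2 (show Perm.sign (swap (0 : Fin 9) 1 * swap 1 2) = 1 by decide))
  rw [MonoidHom.mem_ker, map_mul, show ψ (swap 0 1) = _ from (hψ 0).trans (xa 0),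
    show ψ (swap 1 2) = _ from (hψ 1).trans (xa 1), ← map_mul, ← map_one κ] at this
  exact absurd (h.inj this) (by decide)

end KW

theorem range_le {n : ℕ} {κ : Perm (Fin (n + 1)) →* G} {M : Subgroup G}
    (h : ∀ i : Fin n, κ (swap i.castSucc i.succ) ∈ M) (π : Perm (Fin (n + 1))) : κ π ∈ M :=
  ((Perm.mclosure_swap_castSucc_succ n).ge.trans (Submonoid.closure_le.2 (by
    rintro _ ⟨i, rfl⟩; exact h i)) : ⊤ ≤ (M.comap κ).toSubmonoid) trivial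

/-- The subgroup `S₉` is strongly `3`-embedded and contains the centralizer of three commuting
transpositions. -/
structure E9 (ψ : Perm (Fin 9) →* G) : Prop where
  inj : Function.Injective ψ
  h3 : ∀ y, y ^ 3 = 1 → y ≠ 1 → ∀ g, g * ψ y * g⁻¹ ∈ ψ.range → g ∈ ψ.range
  hB : ∀ g, Commute g (ψ (swap 0 3)) → Commute g (ψ (swap 1 4)) → Commute g (ψ (swap 2 5)) →
    g ∈ ψ.range

theorem St.exists_E9 [Finite G] {ν : HH 3 →* G} {J : Subgroup G} (h : St ν J)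
    (hn : ¬ C1[ph ν e3] ≤ N[J]) : ∃ ψ : Perm (Fin 9) →* G, E9 ψ := by
  obtain ⟨κ, hk⟩ := h.exists_K6 hn
  set φ := ph ν
  have w : KW κ (φ (e1 * ρ1)) (φ ρ1) (φ (e2 * ρ2)) (φ ρ2) (φ (e3 * ρ3)) (φ ρ3) :=
    ⟨hk.inj, hk.k01, hk.k12, hk.k34, hk.k45, fun π => hk.cL π (.inr (.inr (.inl rfl))), hk.cr⟩
  have r1 : φ N9.x * φ (e1 * ρ1) * (φ N9.x)⁻¹ = φ (e2 * ρ2) := St.pcj (by decide)
  have r2 : φ N9.x * φ ρ1 * (φ N9.x)⁻¹ = φ ρ2 := St.pcj (by decide)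
  have r4 : φ N9.x * φ (e2 * ρ2) * (φ N9.x)⁻¹ = φ (e3 * ρ3) := St.pcj (by decide)
  have r5 : φ N9.x * φ ρ2 * (φ N9.x)⁻¹ = φ ρ3 := St.pcj (by decide)
  have r7 : φ N9.x * φ (e3 * ρ3) * (φ N9.x)⁻¹ = φ (e1 * ρ1) := St.pcj (by decide)
  have r8 : φ N9.x * φ ρ3 * (φ N9.x)⁻¹ = φ ρ1 := St.pcj (by decide)
  have w₁ := w.rot r1 r2 r4 r5 r7 r8
  have w₂ := w₁.rot r4 r5 r7 r8 r1 r2
  obtain ⟨q, q0, q1, q2⟩ : ∃ q : Perm (Fin 6), q * swap 0 3 * q⁻¹ = swap 3 4 ∧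
      q * swap 1 4 * q⁻¹ = swap 1 2 ∧ q * swap 2 5 * q⁻¹ = swap 0 5 :=
    ⟨swap 0 2 * swap 0 4, by decide⟩
  have cq : ∀ {y}, Commute y (φ (e2 * ρ2)) → Commute y (φ ρ1) → Commute y (κ (swap 0 5)) →
      ∃ π ∈ C6, ∃ z, L6 z ∧ (κ q)⁻¹ * y * κ q = κ π * φ z ∧ y = κ (q * π * q⁻¹) * φ z :=
    fun {y} a b c => by
      have t : ∀ {u v}, q * u * q⁻¹ = v → Commute y (κ v) → Commute ((κ q)⁻¹ * y * κ q) (κ u) :=
        fun e c => by simpa [← e, mul_assoc] using cmc c (κ q)⁻¹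
      obtain ⟨π, hπ, z, hz, e⟩ := h.cB hk (t q0 (hk.k34 ▸ a)) (t q1 (hk.k12 ▸ b)) (t q2 c)
      exact ⟨π, hπ, z, hz, e, by
        rw [map_mul, map_mul, map_inv, mul_assoc, (hk.cL q hz).inv_left.eq, ← mul_assoc,
          mul_assoc (κ q), ← e]; group⟩
  have hc := w.comm w₁ w₂ (fun y c a b d => by
    obtain ⟨π, hπ, z, hz, e, rfl⟩ := cq a b d
    rcases h.cls hk hπ hz (c.trans (isConj_iff.2 ⟨(κ q)⁻¹, by rw [inv_inv, e]⟩)) with
      ⟨rfl, rfl | rfl | rfl⟩ | ⟨rfl, rfl | rfl | rfl⟩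
    · simp only [q0, map_one, mul_one, hk.k34, true_or]
    · simp only [q1, map_one, mul_one, hk.k12, true_or, or_true]
    · simp only [q2, map_one, mul_one, true_or, or_true]
    · simp only [mul_one, mul_inv_cancel, map_one, one_mul, true_or, or_true]
    · simp only [mul_one, mul_inv_cancel, map_one, one_mul, true_or, or_true]
    · rw [show φ (e3 * ρ3) * φ ρ3 * (φ (e3 * ρ3))⁻¹ = φ (e3⁻¹ * ρ3) from St.pcj (by decide)]
      simp only [mul_one, mul_inv_cancel, map_one, one_mul, or_true]) fun y a b c d => by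
    obtain ⟨π, hπ, z, hz, -, rfl⟩ := cq a b c
    have h1 := h.pcm.1 (inv_mul_cancel_left (κ (q * π * q⁻¹)) (φ z) ▸ (w.c7 _).inv_left.mul_left d)
    rw [← pow_two, (hk.cL _ hz).mul_pow, ← map_pow, ← map_pow, conj_pow, pow_two, (c6_cls π hπ).1,
      show z ^ 2 = 1 by
        rcases hz with (rfl | rfl | rfl) | rfl | rfl | rfl <;> revert h1 <;> decide]
    simp
  obtain ⟨ψ, inj, p1, p2⟩ := w.exists_psi w₁ (by
    simpa [mul_assoc] using cmc (show Commute (φ N9.x * κ _ * (φ N9.x)⁻¹)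
      (φ N9.x * (φ N9.x * κ _ * (φ N9.x)⁻¹) * (φ N9.x)⁻¹) from hc) (φ N9.x)⁻¹)
  have m0 := range_le (M := ψ.range) fun i => ⟨_, p1 i⟩
  have m1 := range_le (M := ψ.range) fun i => ⟨_, p2 i⟩
  have a0 : ψ (swap 0 1) = κ (swap 0 1) := p1 0
  have a1 : ψ (swap 1 2) = κ (swap 1 2) := p1 1
  have a2 : ψ (swap 2 3) = κ (swap 2 3) := p1 2
  have a3 : ψ (swap 3 4) = κ (swap 3 4) := p1 3
  have a4 : ψ (swap 4 5) = κ (swap 4 5) := p1 4
  have a6 : ψ (swap 6 7) = φ (e3 * ρ3) := (p2 3).trans w₁.k34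
  have a7 : ψ (swap 7 8) = φ ρ3 := (p2 4).trans w₁.k45
  have b1 : ψ (swap 0 1 * swap 1 2) = φ (tv ![1, 0, 0]) := by
    rw [map_mul, a0, a1, hk.k01, hk.k12, ← map_mul, h.peq]; decide
  have b2 : ψ (swap 3 4 * swap 4 5) = φ (tv ![0, 1, 0]) := by
    rw [map_mul, a3, a4, hk.k34, hk.k45, ← map_mul, h.peq]; decide
  have b3 : ψ (swap 6 7 * swap 7 8) = φ (tv ![0, 0, 1]) := by
    rw [map_mul, a6, a7, ← map_mul, h.peq]; decide
  have hH : ∀ x, φ x ∈ ψ.range := fun x => by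
    obtain ⟨i, j, l, e⟩ := v_gen x.v
    obtain ⟨a, b, c, i', j', l', e'⟩ := n9_gen x.s x.p
    have t : φ N9.t ∈ ψ.range := hk.kt ▸ m0 _
    have u : ∀ {a y}, ψ a = y → y ∈ ψ.range := fun e => ⟨_, e⟩
    rw [eq_tv_mo x, e, e']
    simp only [map_mul, map_pow]
    refine mul_mem (mul_mem (mul_mem (pow_mem (u b1) _) (pow_mem (u b2) _)) (pow_mem (u b3) _))
      (mul_mem (mul_mem (mul_mem (pow_mem (hk.k12 ▸ m0 _) _) (pow_mem (hk.k45 ▸ m0 _) _))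
        (pow_mem (u a7) _)) (mul_mem (mul_mem (pow_mem t _) (pow_mem ?_ _)) (pow_mem t _)))
    rw [map_inv, ← hk.kt]
    exact m1 T6
  have NJ : N[J] ≤ ψ.range := fun g hg => by obtain ⟨x, rfl⟩ := h.pN.1 hg; exact hH x
  have hC : ∀ w ∈ J, w ≠ 1 → C1[w] ≤ ψ.range := fun w hw w1 => by
    rcases h.tri hw w1 with e | ⟨-, n, hn, rfl⟩
    · exact e.trans NJ
    · rw [← cj_centralizer_singleton]
      refine cj_le_of_mem_normalizer (le_normalizer (NJ hn)) fun g hg => ?_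
      obtain ⟨c, hc, π, rfl⟩ := hk.all g (mem_centralizer_singleton_iff.1 hg)
      exact mul_mem (zpowers_le.2 (hH _) hc) (m0 π)
  have hF : ∀ w ∈ J, w ≠ 1 → ∀ g, g * w * g⁻¹ ∈ J → g ∈ ψ.range := fun w hw w1 g hg => by
    rcases h.tri hg (mt conj_eq_one_iff.1 w1) with e | ⟨-, n, hn, e⟩
    · exact NJ (h.ti hw e)
    have e' : n⁻¹ * g * w * (n⁻¹ * g)⁻¹ = φ (tv ![0, 0, 1]) := by rw [cjc, ← e]; group; rfl
    obtain ⟨m, hm, e''⟩ := h.fus hw (e' ▸ h.sylJ (h.pv _) (h.pfour (by decide) rfl))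
    have := hC w hw w1 (show m⁻¹ * (n⁻¹ * g) ∈ C1[w] from mem_centralizer_singleton_iff.2 (cje.1 (by
      rw [cjc, ← e'']; group)))
    rwa [mul_mem_cancel_left (inv_mem (NJ hm)), mul_mem_cancel_left (inv_mem (NJ hn))] at this
  have hJ : ∀ y : Perm (Fin 9), y ^ 3 = 1 → ∃ q, ψ q * ψ y * (ψ q)⁻¹ ∈ J := fun y hy => by
    have k : ∀ z, z ^ 3 = 1 → y.support.card = z.support.card → ψ z ∈ J →
        ∃ q, ψ q * ψ y * (ψ q)⁻¹ ∈ J := fun z a b c => by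
      obtain ⟨q, rfl⟩ := conj_rep hy a b
      exact ⟨q, by rwa [← map_inv, ← map_mul, ← map_mul]⟩
    obtain ⟨⟨m, hm⟩, h9⟩ := dvd_supp hy
    obtain rfl | rfl | rfl | rfl : m = 0 ∨ m = 1 ∨ m = 2 ∨ m = 3 := by omega
    · exact k 1 (one_pow _) (hm.trans (by decide)) (map_one ψ ▸ one_mem _)
    · exact k _ (by decide) (hm.trans (by decide)) (b1 ▸ h.pv _)
    · exact k (swap 0 1 * swap 1 2 * (swap 3 4 * swap 4 5)) (by decide) (hm.trans (by decide))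
        (by rw [map_mul, b1, b2]; exact mul_mem (h.pv _) (h.pv _))
    · exact k (swap 0 1 * swap 1 2 * (swap 3 4 * swap 4 5) * (swap 6 7 * swap 7 8)) (by decide)
        (hm.trans (by decide))
        (by rw [map_mul, map_mul, b1, b2, b3]; exact mul_mem (mul_mem (h.pv _) (h.pv _)) (h.pv _))
  refine ⟨ψ, inj, fun y y3 y1 g ⟨z, hz⟩ => ?_, fun g c1 c2 c3 => ?_⟩
  · obtain ⟨q, hq⟩ := hJ y y3
    obtain ⟨r, hr⟩ := hJ z (inj (by rw [map_pow, hz, conj_pow, ← map_pow, y3]; simp))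
    have := hF _ hq (mt conj_eq_one_iff.1 (mt (map_eq_one_iff ψ inj).1 y1)) (ψ r * g * (ψ q)⁻¹) (by
      convert hr using 1; rw [hz]; group)
    rwa [mul_mem_cancel_right (ψ.range.inv_mem ⟨q, rfl⟩),
      mul_mem_cancel_left (show ψ r ∈ ψ.range from ⟨r, rfl⟩)] at this
  · obtain ⟨π, -, z, -, rfl⟩ := h.cB hk (g := g) (by
      rwa [show swap (0 : Fin 9) 3 = swap 2 3 * swap 1 2 * swap 0 1 * swap 1 2 * swap 2 3 by decide,
        map_mul, map_mul, map_mul, map_mul, a0, a1, a2, ← map_mul, ← map_mul, ← map_mul, ← map_mul,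
        show (swap 2 3 * swap 1 2 * swap 0 1 * swap 1 2 * swap 2 3 : Perm (Fin 6)) = swap 0 3 by
          decide] at c1) (by
      rwa [show swap (1 : Fin 9) 4 = swap 3 4 * swap 2 3 * swap 1 2 * swap 2 3 * swap 3 4 by decide,
        map_mul, map_mul, map_mul, map_mul, a1, a2, a3, ← map_mul, ← map_mul, ← map_mul, ← map_mul,
        show (swap 3 4 * swap 2 3 * swap 1 2 * swap 2 3 * swap 3 4 : Perm (Fin 6)) = swap 1 4 by
          decide] at c2) (by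
      rwa [show swap (2 : Fin 9) 5 = swap 4 5 * swap 3 4 * swap 2 3 * swap 3 4 * swap 4 5 by decide,
        map_mul, map_mul, map_mul, map_mul, a2, a3, a4, ← map_mul, ← map_mul, ← map_mul, ← map_mul,
        show (swap 4 5 * swap 3 4 * swap 2 3 * swap 3 4 * swap 4 5 : Perm (Fin 6)) = swap 2 5 by
          decide] at c3)
    exact mul_mem (m0 π) (hH z)

end Cfsg.Agent.H21.L3
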