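import Cfsg.Agent.H21.L3W
import Cfsg.Agent.H21.L3A

/-! Groups with an element of order three whose centralizer is `3³ : S₃`: the set-up. -/

set_option autoImplicit false
set_option synthInstance.maxSize 4096
set_option synthInstance.maxHeartbeats 200000

universe u

namespace Cfsg.Agent.H21.L3

open Equiv Subgroup Cfsg Cfsg.Agent.H63 Cfsg.Agent.H67 Cfsg.Agent.H57 Cfsg.Agent.H91.Pr
open N9 (HH)

/-- the permutation part -/
def pp : N9 →* Perm (Fin 3) := MonoidHom.mk' N9.p fun _ _ => rfl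

theorem comm_tv {x : N9} {v : V} : x * tv v = tv v * x ↔ mon x.s x.p v = v := by
  rw [← mul_inv_eq_iff_eq_mul, conj_tv]
  exact ⟨fun e => congrArg N9.v e, fun e => congrArg tv e⟩

theorem cube_aux : ∀ s p, (∀ v, mon s p (mon s p (mon s p v)) = v) → (∀ v, mon s p v = v) ∨
    (p ≠ 1 ∧ (∃ w, ∀ v, mon s p v = v → v = 0 ∨ v = w ∨ v = -w) ∧
      ∀ w, mon s p w = w → ∃ n, n - mon s p n = w) := by decide +kernel

theorem mon_one : mon (1 : N9).s (1 : N9).p = id := by ext v i; simp [mon]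

theorem cube {y : N9} (h : y ^ 3 ∈ N9.J) (hy : y ∉ N9.J) : y.p ≠ 1 ∧
    (∃ w, ∀ v, mon y.s y.p v = v → v = 0 ∨ v = w ∨ v = -w) ∧
      ∀ w, mon y.s y.p w = w → ∃ n, n - mon y.s y.p n = w := by
  refine (cube_aux y.s y.p fun v => ?_).resolve_left fun e => hy (mon_id (funext e))
  have h1 : mon (y ^ 3).s (y ^ 3).p v = v := comm_tv.1 (by
    rw [← eq_tv h, ← tv_add, ← tv_add, add_comm])
  rwa [pow_succ, pow_two, mon_mul, mon_mul] at h1

theorem tv_neg (v : V) : tv (-v) = (tv v)⁻¹ :=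
  eq_inv_of_mul_eq_one_left (by rw [← tv_add, neg_add_cancel]; rfl)

theorem tv_cube (v : V) : tv v ^ 3 = 1 := by revert v; decide +kernel

theorem card_J : Nat.card N9.J = 27 := by rw [Nat.card_eq_fintype_card]; decide +kernel

theorem e27 {A : Subgroup N9} (hc : IsMulCommutative A) (h3 : ∀ x ∈ A, x ^ 3 = 1)
    (h : Nat.card A = 27) : A = N9.J := by
  refine eq_of_le_of_card_ge (fun y hy => ?_) (by rw [h, card_J])
  by_contra hJ
  obtain ⟨-, ⟨w, hw⟩, -⟩ := cube (h3 y hy ▸ one_mem _) hJ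
  have h1 : pp.ker ⊓ A ≤ zpowers (tv w) := fun z hz => by
    have zJ : z ∈ N9.J := by
      by_contra h4
      exact (cube (h3 z hz.2 ▸ one_mem _) h4).1 hz.1
    rw [← eq_tv zJ]
    rcases hw z.v (comm_tv.1 (by rw [eq_tv zJ]; exact comm_of_isMulCommutative hc hy hz.2)) with
      e | e | e <;> rw [e]
    exacts [one_mem _, mem_zpowers _, tv_neg w ▸ inv_mem (mem_zpowers _)]
  have h2 := card_inf_mul_relIndex pp.ker A
  have h4 := card_le_of_le h1
  have h5 := orderOf_le_of_pow_eq_one (by norm_num) (tv_cube w)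
  have h6 : pp.ker.relIndex A ∣ 6 := by
    rw [relIndex_ker, show 6 = Nat.card (Perm (Fin 3)) by rw [Nat.card_perm, Nat.card_fin]; rfl]
    exact card_subgroup_dvd_card _
  have h7 : pp.ker.relIndex A ∣ 27 := h ▸ Dvd.intro_left _ h2
  have h8 := Nat.le_of_dvd (by norm_num) (Nat.dvd_gcd h6 h7)
  rw [Nat.card_zpowers] at h4
  norm_num at h8
  nlinarith

theorem le_HH (k : Fin 4) : HH 0 ≤ HH k := fun x hx => by
  obtain ⟨e0, e1, e2⟩ := hx.1 rfl
  refine ⟨fun _ => ⟨e0, e1, e2⟩, fun _ => ?_, fun _ => ?_⟩ <;> simp [e0, e1, e2]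

/-- The Sylow `3`-subgroup. -/
def SS : Subgroup N9 := HH 0 ⊓ (alternatingGroup (Fin 3)).comap pp

instance : DecidablePred (· ∈ SS) := fun g =>
  inferInstanceAs (Decidable (g ∈ HH 0 ∧ Perm.sign g.p = 1))

theorem ss_nine : ∀ y ∈ SS, y ^ 3 ^ 2 = 1 := fun y hy => by
  have : ∀ y ∈ SS, (y * y * y) * (y * y * y) * (y * y * y) = 1 := by decide +kernel
  rw [← this y hy]
  simp only [show 3 ^ 2 = 9 from rfl, pow_succ, pow_zero, one_mul, mul_assoc]

theorem isPGroup_SS : IsPGroup 3 SS := fun y => ⟨2, Subtype.ext (ss_nine _ y.2)⟩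

theorem card_SS : Nat.card SS = 81 := by rw [Nat.card_eq_fintype_card]; decide +kernel

theorem zs_aux : ∀ y ∈ HH 0, y * N9.e1 = N9.e1 * y → y * N9.x = N9.x * y →
    y = 1 ∨ y = N9.a ∨ y = N9.a⁻¹ := by decide +kernel

variable {G : Type u} [Group G] [Finite G]

theorem not_dvd (ν : HH 0 →* G) (inj : Function.Injective ν)
    (h : C1[ν ⟨N9.a, N9.a_mem_HH 0⟩] ≤ ν.range) : ¬ 3 ^ 5 ∣ Nat.card G := fun hd => by
  obtain ⟨P, hP⟩ := (show IsPGroup 3 ((SS.subgroupOf (HH 0)).map ν) from 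
    (isPGroup_SS.comap_subtype).map ν).exists_le_sylow
  have h1 : 3 ^ 5 ∣ Nat.card P := P.pow_dvd_card_of_pow_dvd_card hd
  have : Nontrivial P := Finite.one_lt_card_iff_nontrivial.1
    (lt_of_lt_of_le (by norm_num) (Nat.le_of_dvd Nat.card_pos h1))
  have := P.2.center_nontrivial
  obtain ⟨⟨z, hz⟩, z1⟩ := exists_ne (1 : center P)
  have h2 : ∀ y : HH 0, y.1 ∈ SS → ν y * z = z * ν y := fun y hy =>
    congrArg Subtype.val (mem_center_iff.1 hz ⟨ν y, hP ⟨y, hy, rfl⟩⟩)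
  obtain ⟨y, hy⟩ := h (mem_centralizer_singleton_iff.2 (h2 ⟨N9.a, _⟩ (by decide)).symm)
  have h3 : ∀ w : HH 0, w.1 ∈ SS → y.1 * w = w * y := fun w hw =>
    congrArg Subtype.val (inj (by rw [map_mul, map_mul, hy, h2 w hw]) : y * w = w * y)
  have h4 : (P : Subgroup G) ≤ ν.range := fun g hg => h (mem_centralizer_singleton_iff.2 (by
    have e : g * z = z * g := congrArg Subtype.val (mem_center_iff.1 hz ⟨g, hg⟩)
    rw [← hy] at e
    rcases zs_aux y y.2 (h3 ⟨N9.e1, by decide⟩ (by decide)) (h3 ⟨N9.x, by decide⟩ (by decide)) with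
      c | c | c
    · exact absurd (Subtype.ext (Subtype.ext (by rw [← hy, show y = 1 from Subtype.ext c, map_one]; rfl))) z1
    · rwa [show y = ⟨N9.a, N9.a_mem_HH 0⟩ from Subtype.ext c] at e
    · rw [show y = (⟨N9.a, N9.a_mem_HH 0⟩ : HH 0)⁻¹ from Subtype.ext c, map_inv] at e
      exact Commute.inv_right_iff.1 e))
  have h5 := h1.trans (card_dvd_of_le h4)
  rw [← Nat.card_congr (MonoidHom.ofInjective inj).toEquiv, Nat.card_eq_fintype_card,
    show Fintype.card (HH 0) = 162 by decide +kernel] at h5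
  norm_num at h5

instance : MulAction N9 (Fin 3 × ZMod 3) where
  smul x q := (x.p q.1, x.v (x.p q.1) + x.s (x.p q.1) * q.2)
  one_smul q := Prod.ext rfl (show (0 : ZMod 3) + (1 : (ZMod 3)ˣ) * q.2 = q.2 by simp)
  mul_smul x y q := Prod.ext rfl (by
    show (x * y).v (x.p (y.p q.1)) + (x * y).s (x.p (y.p q.1)) * q.2 =
      x.v (x.p (y.p q.1)) + x.s (x.p (y.p q.1)) * (y.v (y.p q.1) + y.s (y.p q.1) * q.2)
    simp [mul_add, mul_assoc, add_assoc])

/-- the action on nine points -/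
def lam : N9 →* Perm (Fin 9) :=
  (Equiv.permCongrHom (finProdFinEquiv : Fin 3 × Fin 3 ≃ Fin (3 * 3))).toMonoidHom.comp
    (MulAction.toPermHom N9 (Fin 3 × ZMod 3))

theorem lam_inj : Function.Injective lam :=
  (injective_iff_map_eq_one lam).2 (by decide +kernel)

/-- the product of three `3`-cycles -/
def a9 : Perm (Fin 9) := swap 0 1 * swap 1 2 * swap 3 4 * swap 4 5 * swap 6 7 * swap 7 8

theorem lam_a : lam N9.a = a9 := by decide +kernel

theorem card_a9 : Nat.card C1[a9] = 162 := by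
  have ho : orderOf a9 = 3 := orderOf_eq_three (by decide) (by decide)
  obtain ⟨n, hn⟩ := Perm.cycleType_prime_order (σ := a9) (ho ▸ Nat.prime_three)
  have h1 := a9.sum_cycleType
  rw [hn, ho, Multiset.sum_replicate, show a9.support.card = 9 by decide] at h1
  obtain rfl : n = 2 := by simp at h1; omega
  rw [Perm.nat_card_centralizer, hn, ho]
  decide

theorem comm_a : ∀ y ∈ HH 0, y * N9.a = N9.a * y := fun y hy => by
  obtain ⟨e0, e1, e2⟩ := hy.1 rfl
  rw [← tv_one, comm_tv]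
  have : ∀ i, y.s i = 1 := fun i => by fin_cases i <;> assumption
  ext i; simp [mon, this]

/-- The set-up. -/
structure St {k : Fin 4} (ν : HH k →* G) (J : Subgroup G) : Prop where
  inj : Function.Injective ν
  rng : ν.range = N[J]
  hJ : J = (N9.J.subgroupOf (HH k)).map ν
  ca : C1[ν ⟨N9.a, N9.a_mem_HH k⟩] ≤ N[J]
  sig : Sig J ⊤

theorem exists_St {x : G} (hx : orderOf x = 3) (eC : C1[x] ≃* C1[a9]) {J : Subgroup G}
    (hJC : J ≤ C1[x]) (hc : IsMulCommutative J) (h3 : ∀ j ∈ J, j ^ 3 = 1) (h27 : Nat.card J = 27)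
    (hs : Sig J ⊤) : ∃ (k : Fin 4) (ν : HH k →* G), St ν J := by
  let l : HH 0 →* C1[a9] := (lam.comp (HH 0).subtype).codRestrict _ fun y =>
    mem_centralizer_singleton_iff.2 (by
      rw [← lam_a]; exact (map_mul lam _ _).symm.trans ((congrArg lam (comm_a y y.2)).trans
        (map_mul lam _ _)))
  have hl : Function.Injective l := fun y z e => Subtype.ext (lam_inj (congrArg Subtype.val e))
  have hl' := hl.bijective_of_nat_card_le (by
    rw [card_a9, Nat.card_eq_fintype_card]; decide +kernel)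
  let ν : HH 0 →* G := C1[x].subtype.comp (eC.symm.toMonoidHom.comp l)
  have inj : Function.Injective ν := C1[x].subtype_injective.comp (eC.symm.injective.comp hl)
  have hr : ν.range = C1[x] := le_antisymm (by rintro _ ⟨y, rfl⟩; exact (eC.symm (l y)).2)
    fun g hg => by
      obtain ⟨y, hy⟩ := hl'.2 (eC ⟨g, hg⟩)
      exact ⟨y, by show (eC.symm (l y) : G) = g; rw [hy, eC.symm_apply_apply]⟩
  have hx' : C1[ν ⟨N9.a, N9.a_mem_HH 0⟩] = C1[x] := by
    obtain ⟨y, hy⟩ := hr.ge (mem_centralizer_singleton_self x)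
    have h1 : ∀ w : HH 0, y.1 * w = w * y := fun w => congrArg Subtype.val (inj (by
      rw [map_mul, map_mul, hy]
      exact (mem_centralizer_singleton_iff.1 (hr.le ⟨w, rfl⟩)).symm) : y * w = w * y)
    rw [← hy] at hx ⊢
    rcases zs_aux y y.2 (h1 ⟨N9.e1, by decide⟩) (h1 ⟨N9.x, by decide⟩) with c | c | c
    · rw [show y = 1 from Subtype.ext c, map_one, orderOf_one] at hx; omega
    · rw [show y = ⟨N9.a, N9.a_mem_HH 0⟩ from Subtype.ext c]
    · rw [show y = (⟨N9.a, N9.a_mem_HH 0⟩ : HH 0)⁻¹ from Subtype.ext c, map_inv,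
        ← centralizer_zpowers, ← centralizer_zpowers, zpowers_inv]
  have hJ : J = (N9.J.subgroupOf (HH 0)).map ν := by
    rw [← e27 (A := (J.comap ν).map (HH 0).subtype) ?_ ?_ ?_, subgroupOf_map_subtype',
      map_comap_eq_self (hr ▸ hJC)]
    · refine ⟨⟨fun ⟨_, y, hy, rfl⟩ ⟨_, z, hz, rfl⟩ => Subtype.ext ?_⟩⟩
      exact congrArg (fun w : HH 0 => w.1) (inj (by
        rw [map_mul, map_mul, comm_of_isMulCommutative hc hy hz]) : y * z = z * y)
    · rintro _ ⟨y, hy, rfl⟩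
      exact congrArg Subtype.val (inj (by rw [map_pow, h3 _ hy, map_one]) : y ^ 3 = 1)
    · rw [card_map_subtype, ← card_map_of_injective inj, map_comap_eq_self (hr ▸ hJC), h27]
  have hN : ν.range ≤ N[J] := by
    rintro _ ⟨y, rfl⟩
    rw [hJ]
    refine le_normalizer_map ν ⟨y, mem_normalizer_fintype fun z hz => ?_, rfl⟩
    show y.1 * z.1 * y.1⁻¹ ∈ N9.J
    rw [← eq_tv (x := z.1) hz, conj_tv]; exact ⟨rfl, rfl, rfl, rfl⟩
  obtain ⟨k, μ, h1, h2, h4, h5⟩ := wlemma G ν J _ inj hJ rfl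
    (by rw [hx', ← hr, inf_eq_right.2 hN]) (not_dvd ν inj (by rw [hx', hr]))
  exact ⟨k, μ, h1, h2, h4, by rw [← h5, hx', ← hr]; exact hN, hs⟩

end Cfsg.Agent.H21.L3
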