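import Mathlib
import Cfsg.Agent.H17.GroupAlg

/-! Landau's theorem: a finite group with at most `k` conjugacy classes has bounded order. -/

set_option autoImplicit false

namespace Cfsg.Agent.H21

theorem exists_bound_egyptian (k : ℕ) : ∀ r : ℚ, ∃ N : ℕ, ∀ s : Multiset ℕ, s.card ≤ k →
    (∀ n ∈ s, 0 < n) → (s.map (fun n : ℕ => (1 : ℚ) / n)).sum = r → ∀ n ∈ s, n ≤ N := by
  induction k with
  | zero =>
    intro r
    refine ⟨0, fun s hs _ _ n hn => ?_⟩
    have : s = 0 := Multiset.card_eq_zero.1 (Nat.le_zero.1 hs)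
    simp [this] at hn
  | succ k ih =>
    intro r
    choose N hN using ih
    refine ⟨⌈((k + 1 : ℕ) : ℚ) / r⌉₊ +
      (Finset.range (⌈((k + 1 : ℕ) : ℚ) / r⌉₊ + 1)).sup (fun m : ℕ => N (r - 1 / m)), ?_⟩
    intro s hs hpos hsum n hn
    classical
    obtain ⟨m, hm, hmin⟩ := Finset.exists_min_image s.toFinset id ⟨n, Multiset.mem_toFinset.2 hn⟩
    rw [Multiset.mem_toFinset] at hm
    have hm0 : (0 : ℚ) < m := by exact_mod_cast hpos m hm
    have hle : r ≤ ((k + 1 : ℕ) : ℚ) * (1 / m) := by
      rw [← hsum]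
      calc (s.map (fun n : ℕ => (1 : ℚ) / n)).sum
          ≤ (s.map (fun n : ℕ => (1 : ℚ) / n)).card • ((1 : ℚ) / m) := by
            apply Multiset.sum_le_card_nsmul
            intro x hx
            obtain ⟨a, ha, rfl⟩ := Multiset.mem_map.1 hx
            apply one_div_le_one_div_of_le hm0
            exact_mod_cast hmin a (Multiset.mem_toFinset.2 ha)
        _ ≤ ((k + 1 : ℕ) : ℚ) * (1 / m) := by
            rw [Multiset.card_map, nsmul_eq_mul]
            apply mul_le_mul_of_nonneg_right
            · exact_mod_cast hs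
            · positivity
    have hs' : s = m ::ₘ s.erase m := (Multiset.cons_erase hm).symm
    have hsum' : ((s.erase m).map (fun n : ℕ => (1 : ℚ) / n)).sum = r - 1 / m := by
      rw [← hsum]
      conv_rhs => rw [hs']
      rw [Multiset.map_cons, Multiset.sum_cons]
      ring
    have hr : 0 < r := by
      have h0 : 0 ≤ ((s.erase m).map (fun n : ℕ => (1 : ℚ) / n)).sum := by
        apply Multiset.sum_nonneg
        intro x hx
        obtain ⟨a, _, rfl⟩ := Multiset.mem_map.1 hx
        positivity
      have h1 : (0 : ℚ) < 1 / m := by positivity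
      linarith
    have hmL : m ≤ ⌈((k + 1 : ℕ) : ℚ) / r⌉₊ := by
      have : (m : ℚ) ≤ ((k + 1 : ℕ) : ℚ) / r := by
        rw [le_div_iff₀ hr]
        rw [mul_one_div, le_div_iff₀ hm0] at hle
        linarith
      exact_mod_cast this.trans (Nat.le_ceil _)
    by_cases hnm : n = m
    · subst hnm; omega
    · have hn' : n ∈ s.erase m := (Multiset.mem_erase_of_ne hnm).2 hn
      have hcard : (s.erase m).card ≤ k := by
        rw [Multiset.card_erase_of_mem hm]
        exact Nat.pred_le_iff.2 hs
      have h1 := hN _ _ hcard (fun a ha => hpos a (Multiset.mem_of_mem_erase ha)) hsum' n hn'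
      have h2 : N (r - 1 / m) ≤ (Finset.range (⌈((k + 1 : ℕ) : ℚ) / r⌉₊ + 1)).sup
          (fun m : ℕ => N (r - 1 / m)) :=
        Finset.le_sup (f := fun m : ℕ => N (r - 1 / m)) (Finset.mem_range.2 (by omega))
      omega

theorem sum_index_centralizer_rep (G : Type*) [Group G] [Finite G] [Fintype (ConjClasses G)] :
    ∑ C : ConjClasses G, (Subgroup.centralizer ({H17.rep C} : Set G)).index = Nat.card G := by
  classical
  have := Fintype.ofFinite G
  rw [Nat.card_eq_fintype_card, ← Finset.card_univ,
    Finset.card_eq_sum_card_fiberwise (f := ConjClasses.mk) (t := Finset.univ)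
      (fun _ _ => Finset.mem_coe.2 (Finset.mem_univ _))]
  refine Finset.sum_congr rfl fun C _ => ?_
  rw [← H17.card_filter_isConj]
  congr 1
  ext x
  simp only [Finset.mem_filter, Finset.mem_univ, true_and]
  rw [H17.isConj_rep_iff, eq_comm]

/-- **Landau's theorem**. -/
theorem landau (k : ℕ) : ∃ N : ℕ, ∀ (G : Type*) [Group G] [Finite G],
    Nat.card (ConjClasses G) ≤ k → Nat.card G ≤ N := by
  obtain ⟨N, hN⟩ := exists_bound_egyptian k 1
  refine ⟨N, fun G _ _ hk => ?_⟩
  classical
  have := Fintype.ofFinite (ConjClasses G)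
  have hG : (0 : ℚ) < Nat.card G := by exact_mod_cast Nat.card_pos
  refine hN ((Finset.univ : Finset (ConjClasses G)).val.map
    (fun C => Nat.card (Subgroup.centralizer ({H17.rep C} : Set G)))) ?_ ?_ ?_ _ ?_
  · rw [Multiset.card_map, Finset.card_val, Finset.card_univ, ← Nat.card_eq_fintype_card]
    exact hk
  · intro n hn
    obtain ⟨C, _, rfl⟩ := Multiset.mem_map.1 hn
    exact Nat.card_pos
  · rw [Multiset.map_map]
    change ∑ C : ConjClasses G, (1 : ℚ) /
      (Nat.card (Subgroup.centralizer ({H17.rep C} : Set G)) : ℕ) = 1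
    have h := sum_index_centralizer_rep G
    have h' : ∑ C : ConjClasses G, (((Subgroup.centralizer ({H17.rep C} : Set G)).index : ℕ) : ℚ) =
        Nat.card G := by exact_mod_cast h
    have : ∀ C : ConjClasses G, (1 : ℚ) /
        (Nat.card (Subgroup.centralizer ({H17.rep C} : Set G)) : ℕ) =
        (((Subgroup.centralizer ({H17.rep C} : Set G)).index : ℕ) : ℚ) / Nat.card G := by
      intro C
      have hc : (0 : ℚ) < (Nat.card (Subgroup.centralizer ({H17.rep C} : Set G)) : ℕ) := by
        exact_mod_cast Nat.card_pos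
      rw [div_eq_div_iff hc.ne' hG.ne', one_mul]
      exact_mod_cast (Subgroup.index_mul_card _).symm
    simp_rw [this]
    rw [← Finset.sum_div, h', div_self hG.ne']
  · refine Multiset.mem_map.2 ⟨ConjClasses.mk 1, Finset.mem_univ_val _, ?_⟩
    have h1 : H17.rep (ConjClasses.mk (1 : G)) = 1 := by
      have := H17.isConj_rep_mk (1 : G)
      exact isConj_one_left.1 this
    rw [h1]
    have : Subgroup.centralizer ({1} : Set G) = ⊤ := by
      rw [eq_top_iff]
      intro x _
      rw [Subgroup.mem_centralizer_iff]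
      rintro y rfl
      simp
    rw [this, Subgroup.card_top]

end Cfsg.Agent.H21
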