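import Cfsg.Agent.H25.O7Kit2
import Cfsg.Agent.H25.O7Top
import Cfsg.Agent.H21.NM7A

/-! The exceptional representation of `L₂(8)` in dimension seven: the integral model. -/

set_option autoImplicit false

namespace Cfsg.Agent.H21.NM8

open Matrix Cfsg.Geo Cfsg.Agent.H25.O7 Cfsg.Agent.H25.L45 Cfsg.Agent.H32.L45 Module
open Cfsg.Agent.H25 hiding cj
open scoped MatrixGroups

universe u

/-- seven by seven matrices -/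
abbrev M7 (α : Type*) := Matrix (Fin 7) (Fin 7) α

def A2 : M7 ℤ := !![0, 0, -1, 0, 1, 1, -1; 0, -1, 0, 1, -1, 1, 0; -1, 0, -1, -1, -1, 0, 0;
  0, 1, -1, 1, 0, 0, 1; 1, -1, -1, 0, 0, -1, 0; 1, 1, 0, 0, -1, 0, -1; -1, 0, 0, 1, 0, -1, -1]

def c0 : M7 ℤ := !![0, 0, 0, 0, 0, 0, 1; 1, 0, 0, 0, 0, 0, 0; 0, 1, 0, 0, 0, 0, 0;
  0, 0, 1, 0, 0, 0, 0; 0, 0, 0, 1, 0, 0, 0; 0, 0, 0, 0, 1, 0, 0; 0, 0, 0, 0, 0, 1, 0]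

def Na : M7 ℤ := diagonal ![1, 1, 1, -1, -1, -1, -1]

def Ta : M7 ℤ := !![2, 0, -1, 0, 1, 1, -1; 0, 1, 0, 1, -1, 1, 0; -1, 0, 1, -1, -1, 0, 0;
  2, 0, 1, 0, -1, -1, 1; 0, 3, 0, -1, 1, -1, 0; 1, 0, 3, 1, 1, 0, 0; 0, -1, 1, 1, 0, 0, -1]

def Sa : M7 ℤ := !![1, 0, 0, 1, 0, 0, 0; 0, 1, 0, 0, 1, 0, 0; 0, 0, 1, 0, 0, 1, 0;
  -1, 1, -2, 0, 0, 0, 1; 0, -1, -1, -1, 0, 1, -1; 1, 1, 1, -1, -1, 1, -2; -1, 0, -1, 0, -1, 1, -3]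

def Nb : M7 ℤ := !![1, 0, 0, 0, 0, 0, 0; 0, 0, -1, 0, 0, 0, 0; 0, 1, -1, 0, 0, 0, 0;
  0, 0, 0, 0, -1, 0, 0; 0, 0, 0, 1, -1, 0, 0; 0, 0, 0, 0, 0, 0, -1; 0, 0, 0, 0, 0, 1, -1]

def Tb : M7 ℤ := !![1, -1, 0, 1, 0, 0, 0; 2, 0, -1, -2, 1, 1, -1; 1, 0, 1, -1, -1, 2, -2;
  0, 1, 1, 1, -2, 0, 1; -1, 0, -1, 1, -1, 0, 2; -1, 0, 0, 1, -2, -1, -1; -1, -1, 0, 0, -1, -2, 1]

def Sb : M7 ℤ := !![2, 2, -1, 2, -1, 0, 0; -2, 1, -2, 2, -1, 1, -2; 0, -2, 1, 1, -2, -2, 1;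
  2, -1, -1, 0, 0, 1, -2; 0, -1, -1, -1, -1, -1, -1; 0, -1, 2, -1, 2, -1, -1; 0, 0, 0, 1, 1, -2, 1]

/-- a word of the simplex code -/
def d0 : Fin 7 → ℤˣ := ![1, -1, 1, 1, -1, -1, -1]

/-- the simplex code -/
def sg : Option (Fin 7) → Fin 7 → ℤˣ
  | none => 1
  | some i => fun k => d0 (k - i)

/-- the index set of the roots -/
abbrev Ix := ℤˣ × Fin 7 × Option (Option (Fin 7))

/-- the roots of type `E₇` -/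
def rt : Ix → Fin 7 → ℤ
  | (s, i, none) => fun k => if k = i then s * 2 else 0
  | (s, i, some j) => fun k => s * (sg j (k - i) * A2 (k - i) 0)

/-- one sign change -/
def fl (i : Fin 7) : Fin 7 → ℤˣ := fun k => if k = i then -1 else 1

theorem cert1 : A2 * A2 = (4 : ℤ) • 1 ∧ c0 * c0ᵀ = 1 ∧ c0ᵀ * c0 = 1 ∧
    A2 * c0 * (A2 * c0) * (A2 * c0) = (8 : ℤ) • 1 ∧
    A2 * c0 * c0 * (A2 * c0) * c0 * c0 * (A2 * c0) = (8 : ℤ) • diagonal (fun k => (d0 k : ℤ)) ∧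
    Ta * A2 = (2 : ℤ) • (Na * Ta) ∧ Ta * Sa = (4 : ℤ) • 1 ∧
    Tb * (A2 * c0) = (2 : ℤ) • (Nb * Tb) ∧ Tb * Sb = (6 : ℤ) • 1 := by decide +kernel

theorem cert2 : ∀ x : Ix, ∃ y : Ix, A2 *ᵥ rt x = (2 : ℤ) • rt y := by decide +kernel

theorem cert3 : ∀ x : Ix, ∃ y : Ix, (fun k => fl 0 k * rt x k) = rt y := by decide +kernel

theorem cert4 : (∀ i j : Fin 7, i ≠ j → ∃ o, sg o i = -sg o j) ∧ Function.Injective sg ∧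
    ∀ o, sg o ≠ fl 0 * fl 2 := by decide +kernel

theorem cert5 : (∀ (s : ℤˣ) (i : Fin 7) (o : Option (Option (Fin 7))),
      (fun k => rt (s, i, o) (k - 1)) = rt (s, i + 1, o)) ∧ (∀ s : ℤˣ, ∃ o, sg o 0 = s) ∧
    (∀ i, (fun k => sg (some i) (k - 1)) = sg (some (i + 1))) ∧ sg (some 0) = d0 ∧
    (fun k => fl 0 (k - 1)) = fl 1 ∧
    (fun k => (fl 0 * (fl 1)⁻¹) (k - 1)) * (fl 0 * (fl 1)⁻¹)⁻¹ = fl 0 * fl 2 ∧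
    (∀ k, ((1 : ℤ) + sg (some 4) k) * (1 + sg (some 0) k) = if k = 0 then 4 else 0) ∧
    Fintype.card Ix = 126 := by decide +kernel

end Cfsg.Agent.H21.NM8
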