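import Cfsg.Agent.H46.SKit

/-!
# The lift of the central involution in the case `ON`, second half
-/

set_option autoImplicit false
open scoped Pointwise commutatorElement
open Subgroup

namespace Cfsg.Agent.H21.OnH2
open Cfsg.Agent.H46.S95

universe u

variable {Γ : Type} [Group Γ] {G : Type u} [Group G] {φ : Γ →* G} {t : G} {O : Subgroup G}

theorem lc {a b : G} (e : a * b = b * a) (y : G) : a * (b * y) = b * (a * y) := by
  rw [← mul_assoc, e, mul_assoc]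

theorem four {z ζ c : Γ} (h1 : ζ * ζ = z) (h2 : z * z = 1) (hc : c ∈ zpowers ζ) :
    c = 1 ∨ c = z ∨ c = ζ ∨ c = z * ζ := by
  obtain ⟨k, rfl⟩ := mem_zpowers_iff.1 hc
  have h3 : ζ ^ (4 : ℤ) = 1 := by
    rw [← h2, ← h1, zpow_ofNat]; simp [pow_succ, mul_assoc]
  rw [zpow_eq_zpow_emod k h3]
  have := Int.emod_nonneg k (show (4 : ℤ) ≠ 0 by norm_num)
  have := Int.emod_lt_of_pos k (show (0 : ℤ) < 4 by norm_num)
  subst h1
  interval_cases k % 4
  · exact Or.inl (zpow_zero _)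
  · exact Or.inr (Or.inr (Or.inl (zpow_one _)))
  · exact Or.inr (Or.inl (by rw [zpow_ofNat, sq]))
  · exact Or.inr (Or.inr (Or.inr (by rw [zpow_ofNat, pow_succ, sq])))

/-- `m` moves `t` by `v` and centralises `S` and `O`. -/
structure Mv (φ : Γ →* G) (t : G) (O : Subgroup G) (m : G) (v : Γ) (S : Subgroup Γ) : Prop where
  mt : m * t * m⁻¹ = t * φ v
  mS : ∀ l ∈ S, m * φ l = φ l * m
  mO : ∀ o ∈ O, m * o = o * m

variable (h : Cx φ t O)
include h

theorem Mv.conj {m : G} {v : Γ} {S S' : Subgroup Γ} (k : Mv φ t O m v S) (g : Γ)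
    (e : ∀ l ∈ S', g⁻¹ * l * g ∈ S) : Mv φ t O (φ g * m * (φ g)⁻¹) (g * v * g⁻¹) S' := by
  refine ⟨?_, fun l hl => ?_, fun o ho => ?_⟩
  · have h1 : (φ g)⁻¹ * t * φ g = t := by rw [mul_assoc, ← h.AC, inv_mul_cancel_left]
    calc _ = φ g * (m * ((φ g)⁻¹ * t * φ g) * m⁻¹) * (φ g)⁻¹ := by group
      _ = _ := by rw [h1, k.mt, ← mul_assoc, h.AC, map_mul, map_mul, map_inv]; group
  · have h1 := k.mS _ (e l hl)
    rw [map_mul, map_mul, map_inv] at h1
    calc _ = φ g * (m * ((φ g)⁻¹ * φ l * φ g)) * (φ g)⁻¹ := by group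
      _ = _ := by rw [h1]; group
  · have h1 : Commute (φ g) o := h.oA ho g
    exact (h1.mul_left (k.mO o ho)).mul_left h1.inv_left

theorem Mv.mul_c {m : G} {v c : Γ} {S : Subgroup Γ} (k : Mv φ t O m v S)
    (e : ∀ l ∈ S, c * l = l * c) : Mv φ t O (m * φ c) v S := by
  refine ⟨?_, fun l hl => ?_, fun o ho => Commute.mul_left (k.mO o ho) (h.oA ho c)⟩
  · rw [mul_assoc m, h.AC, ← k.mt]; group
  · exact Commute.mul_left (k.mS l hl) (Commute.map (e l hl) φ)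

omit h in
theorem Mv.tm {m : G} {v : Γ} {S : Subgroup Γ} (k : Mv φ t O m v S) (hv : v ∈ S) (vv : v * v = 1) :
    t * m = m * (t * φ v) := by
  have h1 : m * t = t * φ v * m := mul_inv_eq_iff_eq_mul.1 k.mt
  rw [← mul_assoc, h1, mul_assoc, k.mS v hv, mul_assoc, ← mul_assoc (φ v), ← map_mul, vv, map_one,
    one_mul]

theorem form0 {m o : G} {v b : Γ} {S : Subgroup Γ} (k : Mv φ t O m v S) (ho : o ∈ O) (hb : b ∈ S)
    (b' : Γ) : m * (φ b * o) * (m * (φ b' * o)) = m * m * φ (b * b') * (o * o) := by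
  simp only [map_mul, mul_assoc, lc (k.mO o ho).symm, lc (k.mS b hb).symm, lc (h.oA ho b').symm]

theorem form1 {m o : G} {v b : Γ} {S : Subgroup Γ} (k : Mv φ t O m v S) (hv : v ∈ S)
    (vv : v * v = 1) (ho : o ∈ O) (hb : b ∈ S) (b' : Γ) :
    m * (φ b * t * o) * (m * (φ b' * t * o)) = m * m * φ (b * v * b') * (o * o) := by
  have h1 : ∀ y, t * (m * y) = m * (t * (φ v * y)) := fun y => by
    rw [← mul_assoc, k.tm hv vv, mul_assoc, mul_assoc]
  have h2 : ∀ y, t * (t * y) = y := fun y => by rw [← mul_assoc, h.tt, one_mul]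
  simp only [map_mul, mul_assoc, lc (k.mO o ho).symm, lc (k.mS b hb).symm, lc (h.oA ho _).symm,
    lc (h.Ot o ho), h1, lc (h.AC _).symm, h2]

theorem o_one (hb : Base Γ) {o : G} (ho : o ∈ O) {a b : Γ} (e : φ a = φ b * (o * o)) :
    o = 1 ∧ a = b := by
  obtain ⟨h1, h2⟩ := h.o_of_mul hb (a := a⁻¹ * b) (O.mul_mem ho ho) (by
    rw [map_mul, map_inv, mul_assoc, ← e, inv_mul_cancel])
  exact ⟨h.o_sq ho h2, inv_mul_eq_one.1 h1⟩

variable {z ζ x : Γ} {B V : Subgroup Γ}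

omit h in
theorem B_le (b : BV z ζ B V) : B ≤ Cz ζ := fun a ha => mem_Cz.2 (b.ab a ha ζ b.zB)

omit h in
theorem z_mem (b : BV z ζ B V) : z ∈ B := b.sq ▸ B.mul_mem b.zB b.zB

theorem odd_case (hb : Base Γ) (ob : OB z ζ x B V) {m : G} (k : Mv φ t O m z (Cz ζ))
    (mm : m * m = φ ζ) : False := by
  obtain ⟨g, hg, f, hf, fζ, ff, fy, ne, key⟩ := ob.m16
  have le := B_le ob.toBV
  have zB := z_mem ob.toBV
  have cg : ∀ b ∈ B, g * b * g⁻¹ ∈ B := fun b hb => (mem_normalizer_iff.1 hg b).1 hb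
  have cf : ∀ b ∈ B, f * b * f⁻¹ ∈ B := fun b hb => (mem_normalizer_iff.1 hf b).1 hb
  have k1 := k.conj h g (S' := B) fun l hl => le ((mem_normalizer_iff''.1 hg l).1 hl)
  have k2 := k1.conj h f (S' := B) fun l hl => (mem_normalizer_iff''.1 hf l).1 hl
  have s1 : φ g * m * (φ g)⁻¹ * (φ g * m * (φ g)⁻¹) = φ (g * ζ * g⁻¹) := by
    rw [map_mul, map_mul, map_inv, ← mm]; group
  have yy : g * z * g⁻¹ * (g * z * g⁻¹) = 1 := by
    rw [show g * z * g⁻¹ * (g * z * g⁻¹) = g * (z * z) * g⁻¹ by group, ob.zz]; group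
  have yB := cg z zB
  have eB := cg ζ ob.zB
  rw [fy] at k2
  generalize φ g * m * (φ g)⁻¹ = w at k1 k2 s1
  generalize g * z * g⁻¹ = y at k1 k2 yy yB
  generalize g * ζ * g⁻¹ = e at s1 eB ne
  have s2 : φ f * w * (φ f)⁻¹ * (φ f * w * (φ f)⁻¹) = φ (f * e * f⁻¹) := by
    rw [map_mul, map_mul, map_inv, ← s1]; group
  have s3 : φ f * (w * (φ f * w * (φ f)⁻¹)) * (φ f)⁻¹ = φ f * w * (φ f)⁻¹ * w := by
    have := k1.mS _ ff
    rw [map_mul] at this
    calc _ = φ f * w * (φ f)⁻¹ * (φ f * φ f * w) * (φ f * φ f)⁻¹ := by group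
      _ = _ := by rw [← this]; group
  have e'B := cf e eB
  generalize φ f * w * (φ f)⁻¹ = w' at k2 s2 s3
  generalize f * e * f⁻¹ = e' at s2 e'B ne
  have c1 : m⁻¹ * (w * w') * t = t * (m⁻¹ * (w * w')) := by
    have h1 : w * w' * t * (w * w')⁻¹ = m * t * m⁻¹ := by
      calc _ = w * (w' * t * w'⁻¹) * w⁻¹ := by group
        _ = w * t * w⁻¹ * (w * φ (y * z) * w⁻¹) := by rw [k2.mt]; group
        _ = _ := by
          rw [k1.mt, k1.mS _ (B.mul_mem yB zB), mul_inv_cancel_right, mul_assoc, ← map_mul,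
            ← mul_assoc, yy, one_mul, k.mt]
    calc _ = m⁻¹ * (w * w' * t * (w * w')⁻¹) * (w * w') := by group
      _ = _ := by rw [h1]; group
  obtain ⟨α, hα⟩ := h.aut c1
  obtain ⟨b, bB, rfl⟩ := ob.cB α fun b hb => h.inj (by
    rw [hα, ((Commute.inv_left (k.mS b (le hb))).mul_left
      (Commute.mul_left (k1.mS b hb) (k2.mS b hb))).eq, mul_inv_cancel_right])
  have b'B := cf b bB
  have fm : φ f * m = m * φ f := (k.mS f (mem_Cz.2 fζ)).symm
  have main : ∀ τ : G, (∀ a, φ a * τ = τ * φ a) → m⁻¹ * (w * w') = φ b * τ →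
      b * (f * b * f⁻¹) ∈ zpowers z ∧
        φ (e * e') = m * (φ b * τ) * (m * (φ (f * b * f⁻¹) * τ)) := fun τ hτ e1 => by
    have e2 : w * w' = m * (φ b * τ) := by rw [← e1, mul_inv_cancel_left]
    have e3 : w' * w = m * (φ (f * b * f⁻¹) * τ) := by
      rw [← s3, e2, ← mul_assoc, fm, map_mul, map_mul, map_inv, mul_assoc (φ f * φ b),
        ← map_inv, hτ f⁻¹]
      group
    have e4 : w' * w = w * w' * φ (b⁻¹ * (f * b * f⁻¹)) := by
      rw [e2, e3, mul_assoc m, mul_assoc (φ b), ← hτ, ← mul_assoc (φ b), ← map_mul, mul_inv_cancel_left]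
    have dB := B.mul_mem (B.inv_mem bB) b'B
    have e5 : b⁻¹ * (f * b * f⁻¹) * (b⁻¹ * (f * b * f⁻¹)) = 1 := by
      generalize b⁻¹ * (f * b * f⁻¹) = d at e4 dB
      refine h.inj (mul_left_cancel (a := w * w * w') ?_)
      rw [map_one, mul_one, map_mul]
      calc w * w * w' * (φ d * φ d) = w * (w * w' * φ d) * φ d := by group
        _ = w * w' * (w * φ d) := by rw [← e4]; group
        _ = w * w' * φ d * w := by rw [k1.mS d dB]; group
        _ = w' * (w * w) := by rw [← e4]; group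
        _ = _ := by rw [s1, k2.mS e eB]
    refine ⟨key b bB ?_, ?_⟩
    · calc _ = b * (b⁻¹ * (f * b * f⁻¹) * b) * (b⁻¹ * (f * b * f⁻¹)) := by group
        _ = b * b * (b⁻¹ * (f * b * f⁻¹) * (b⁻¹ * (f * b * f⁻¹))) := by
          rw [ob.ab _ dB _ bB]; group
        _ = _ := by rw [e5, mul_one]
    · rw [← e2, ← e3, map_mul, ← s1]
      calc w * w * φ e' = w * (w' * w') * w := by
            rw [s2, mul_assoc w w, mul_assoc w (φ e'), k1.mS _ e'B]
        _ = _ := by group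
  obtain ⟨o, ho, e1 | e1⟩ := h.split' c1 hα rfl
  · obtain ⟨h1, h2⟩ := main o (fun a => h.oA ho a) e1
    rw [form0 h k ho (le bB), mm, ← map_mul] at h2
    rw [(o_one h hb ho h2).2, mul_assoc, ob.ab _ (B.mul_mem bB b'B) _ ob.zB, ← mul_assoc,
      ob.sq] at ne
    exact ne (mul_mem (mem_zpowers z) h1)
  · obtain ⟨h1, h2⟩ := main (t * o) (fun a => Commute.mul_right (h.AC a) (h.oA ho a))
      (e1.trans (mul_assoc _ _ _))
    rw [← mul_assoc (φ b), ← mul_assoc (φ _), form1 h k (le zB) ob.zz ho (le bB), mm,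
      ← map_mul] at h2
    rw [(o_one h hb ho h2).2, mul_assoc, ob.ab _ (B.mul_mem (B.mul_mem bB zB) b'B) _ ob.zB,
      ← mul_assoc, ob.sq, ob.ab _ bB _ zB, mul_assoc z b] at ne
    exact ne (mul_mem (mem_zpowers z) (mul_mem (mem_zpowers z) h1))

omit h in
theorem hat_of (ox : OX z ζ x) {w : G} (k : Mv φ t O w z (Cz ζ)) (ww : w * w = 1)
    (wx : w * φ x = φ x * w) : Hat φ t O z w := by
  refine ⟨ww, by rw [← k.mt, inv_eq_of_mul_eq_one_right ww], fun a ha => ?_, k.mO⟩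
  rcases ox.cov a ha with e | e
  · exact k.mS a (mem_Cz.2 e)
  · have := Commute.mul_right (k.mS _ (mem_Cz.2 e)) wx
    rwa [← map_mul, mul_assoc, ox.xx, mul_one] at this

theorem even_case (hb : Base Γ) (ob : OB z ζ x B V) (i : IsConj t (t * φ z)) {m : G}
    (k : Mv φ t O m z (Cz ζ)) (mm : m * m = 1) : ∃ w, Hat φ t O z w := by
  have zL := B_le ob.toBV (z_mem ob.toBV)
  have xi : x⁻¹ = x := inv_eq_of_mul_eq_one_right ob.xx
  have mi : m⁻¹ = m := inv_eq_of_mul_eq_one_right mm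
  have XX : φ x * φ x = 1 := by rw [← map_mul, ob.xx, map_one]
  have xz : x * z * x⁻¹ = z := by
    calc _ = x * ζ * x⁻¹ * (x * ζ * x⁻¹) := by rw [← ob.sq]; group
      _ = _ := by rw [ob.inv, ← mul_inv_rev, ob.sq, inv_eq_of_mul_eq_one_right ob.zz]
  have k1 := k.conj h x (S' := Cz ζ) fun l hl => mem_Cz.2 (by
    have h1 : Commute l (x * ζ * x⁻¹) := ob.inv ▸ Commute.inv_right (mem_Cz.1 hl)
    calc _ = x⁻¹ * (l * (x * ζ * x⁻¹)) * x := by group
      _ = _ := by rw [h1.eq]; group)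
  rw [xz, ← map_inv, xi] at k1
  have c1 : φ x * m * φ x * m * t = t * (φ x * m * φ x * m) := by
    have h1 := k1.tm zL ob.zz
    have h2 : m * t = t * φ z * m := mul_inv_eq_iff_eq_mul.1 k.mt
    rw [← mul_assoc t, h1, mul_assoc _ m t, h2, mul_assoc _ (t * φ z)]
  obtain ⟨α, hα⟩ := h.aut c1
  obtain ⟨c, hc, rfl⟩ := ob.cen α fun l hl => h.inj (by
    rw [hα, (Commute.mul_left (k1.mS l hl) (k.mS l hl)).eq, mul_inv_cancel_right])
  have cL : c ∈ Cz ζ := zpowers_le.2 (mem_Cz.2 rfl) hc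
  have s1 : φ 1 = m * (φ x * m * φ x * m) * (m * (φ x * m * φ x * m)) := by
    have h1 : ∀ y, m * (m * y) = y := fun y => by rw [← mul_assoc, mm, one_mul]
    have h2 : ∀ y, φ x * (φ x * y) = y := fun y => by rw [← mul_assoc, XX, one_mul]
    simp only [map_one, mul_assoc, h1, h2, mm]
  obtain ⟨o, ho, e1 | e1⟩ := h.split' c1 hα rfl
  swap
  · rw [e1, form1 h k zL ob.zz ho cL, mm, one_mul] at s1
    obtain ⟨rfl, -⟩ := o_one h hb ho s1
    have h1 : x * c * x⁻¹ = c⁻¹ := by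
      obtain ⟨j, rfl⟩ := mem_zpowers_iff.1 hc
      rw [← conj_zpow, ob.inv, inv_zpow]
    have h2 : x * c * (x * c) = 1 := by
      nth_rewrite 2 [← xi]
      rw [← mul_assoc, h1, inv_mul_cancel]
    have h3 : x * c ≠ 1 := fun e => ob.z1 (by
      have h4 := ob.inv
      rw [eq_inv_of_mul_eq_one_left e, (Commute.inv_left (mem_Cz.1 cL)).eq,
        mul_inv_cancel_right] at h4
      rw [← ob.sq]
      exact mul_eq_one_iff_eq_inv.2 h4)
    refine absurd ((i.trans (h.isConj_mul (ob.one _ h2 h3))).trans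
      (isConj_iff.2 ⟨m, ?_⟩)) (h.not_isConj hb x)
    rw [← h.AC, map_mul, mul_assoc (φ x), ← mul_one (φ c * t), ← e1, mi]
    calc _ = m * (φ x * φ x) * m * φ x * (m * m) := by group
      _ = _ := by rw [XX, mul_one, mm, one_mul, mul_one]
  rw [e1, form0 h k ho cL, mm, one_mul] at s1
  obtain ⟨rfl, cc⟩ := o_one h hb ho s1
  rw [mul_one] at e1
  have ζz : ζ * z = z * ζ := by rw [← ob.sq, mul_assoc]
  rcases four ob.sq ob.zz hc with rfl | rfl | rfl | rfl
  · refine ⟨m, hat_of ob.toOX k mm ?_⟩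
    rw [map_one, mul_assoc, mul_eq_one_iff_eq_inv, mul_inv_rev, mi, ← map_inv, xi] at e1
    exact e1.symm
  · have ζL : ζ ∈ Cz ζ := mem_Cz.2 rfl
    have k2 := k.mul_c h (c := ζ) fun l hl => (mem_Cz.1 hl).symm
    have s : m * φ ζ * (m * φ ζ) = φ c := by
      rw [mul_assoc, ← lc (k.mS ζ ζL), ← mul_assoc, mm, one_mul, ← map_mul, ob.sq]
    refine ⟨t * (m * φ ζ), hat_of ob.toOX ⟨?_, fun l hl => Commute.mul_left (h.AC l).symm
      (k2.mS l hl), fun o ho => Commute.mul_left (h.Ot o ho).symm (k2.mO o ho)⟩ ?_ ?_⟩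
    · calc _ = t * (m * φ ζ * t * (m * φ ζ)⁻¹) * t⁻¹ := by group
        _ = _ := by rw [k2.mt, ← h.AC, mul_assoc, mul_inv_cancel_right, h.AC]
    · calc _ = t * (m * φ ζ * t * (m * φ ζ)⁻¹) * (m * φ ζ * (m * φ ζ)) := by group
        _ = _ := by
          rw [k2.mt, s, ← mul_assoc, h.tt, one_mul, ← map_mul, ob.zz, map_one]
    · have h1 : φ x * m = m * (φ c * φ x) := by
        rw [lc (k.mS c zL), ← e1]
        calc _ = φ x * m * (φ x * (m * m) * φ x) := by rw [mm, mul_one, XX, mul_one]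
          _ = _ := by group
      have h2 : c * x * ζ = ζ * x := by
        rw [mul_assoc, mul_inv_eq_iff_eq_mul.1 ob.inv, ← ob.sq]; group
      rw [lc (h.AC x), ← mul_assoc (φ x), h1, mul_assoc m, ← map_mul, ← map_mul, h2, map_mul]
      group
  · exact absurd (ob.sq.symm.trans cc.symm) ob.z1
  · rw [mul_assoc, ← mul_assoc ζ, ζz, mul_assoc, ob.sq, ← mul_assoc, ob.zz, one_mul] at cc
    exact absurd cc.symm ob.z1

omit h in
/-- **ONH2** -/
theorem onH2 (H : Hat2Stmt.{u}) : OnH2Stmt.{u} := by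
  intro Γ _ G _ _ φ t O z ζ x B V n hb oa ob h i hn hc
  have le := B_le ob.toBV
  have zB := z_mem ob.toBV
  obtain ⟨ρ, hρ, e⟩ := oa.cyc
  have yB := (mem_normalizer_iff.1 hρ z).1 zB
  have h4 : Nat.card (zpowers ζ) = 2 ^ (1 + 1) := by
    rw [Nat.card_zpowers]
    exact orderOf_eq_prime_pow (by rw [pow_one, sq, ob.sq]; exact ob.z1)
      (by rw [show 2 ^ (1 + 1) = 2 * 2 from rfl, pow_mul, sq, sq, ob.sq, ob.zz])
  have cρ : ∀ b ∈ B, ρ⁻¹ * b * ρ ∈ B := fun b hb => (mem_normalizer_iff''.1 hρ b).1 hb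
  obtain ⟨m, h1, h2, h3, c, hc, mm⟩ := H Γ G φ t O z (Cz ζ) (zpowers ζ) n hb
    ⟨ob.zz, ob.z1, le zB, zpowers_le.2 (mem_Cz.2 rfl), zpowers_le.2 fun l hl => mem_Cz.1 hl,
      IsPGroup.of_card h4, ob.cen, ⟨_, ρ, le yB, ob.ab _ yB _ zB, rfl, e, fun α hα =>
        (ob.cB α fun b hb => hα b (le hb) (le (cρ b hb)) (le (cρ _ (cρ b hb)))).imp
          fun _ e => e.2⟩⟩ h hn hc
  have k : Mv φ t O m z (Cz ζ) := ⟨h1, h2, h3⟩
  have k2 := k.mul_c h (c := ζ) fun l hl => (mem_Cz.1 hl).symm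
  have s : m * φ ζ * (m * φ ζ) = φ (c * z) := by
    rw [mul_assoc, ← lc (h2 ζ (mem_Cz.2 rfl)), ← mul_assoc, mm, ← map_mul, ← map_mul, ob.sq]
  rcases four ob.sq ob.zz hc with rfl | rfl | rfl | rfl
  · exact even_case h hb ob i k (mm.trans (map_one φ))
  · exact even_case h hb ob i k2 (by rw [s, ob.zz, map_one])
  · exact (odd_case h hb ob k mm).elim
  · exact (odd_case h hb ob k2 (by
      rw [s, mul_assoc, ob.ab _ ob.zB _ zB, ← mul_assoc, ob.zz, one_mul])).elim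

end Cfsg.Agent.H21.OnH2
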