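import Cfsg.Agent.H21.OnH2
import Cfsg.Agent.H45.SOa2

/-! The lift of the central involution in the case `ON`, for the corrected structure `OA2`. -/

set_option autoImplicit false
open Subgroup

namespace Cfsg.Agent.H21.OnH2
open Cfsg.Agent.H46.S95

universe u

/-- **ONH2** -/
theorem onH2' (H : Hat2Stmt.{u}) : H45.SOa.OnH2Stmt2.{u} := by
  intro Γ _ G _ _ φ t O z ζ x B V n hb oa ob h i hn hc
  have le := B_le ob.toBV
  have zB := z_mem ob.toBV
  obtain ⟨ρ, hρ, e⟩ := oa.cyc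
  have yB := (mem_normalizer_iff.1 hρ z).1 zB
  have h4 : Nat.card (zpowers ζ) = 2 ^ (1 + 1) := by
    rw [Nat.card_zpowers]
    exact orderOf_eq_prime_pow (by rw [pow_one, sq, ob.sq]; exact ob.z1)
      (by rw [show 2 ^ (1 + 1) = 2 * 2 from rfl, pow_mul, sq, sq, ob.sq, ob.zz])
  have cρ : ∀ b ∈ B, ρ⁻¹ * b * ρ ∈ B := fun b hb => (mem_normalizer_iff''.1 hρ b).1 hb
  obtain ⟨m, h1, h2, h3, c, hc, mm⟩ := H Γ G φ t O z (Cz ζ) (zpowers ζ) n hb
    ⟨ob.zz, ob.z1, le zB, zpowers_le.2 (mem_Cz.2 rfl), zpowers_le.2 fun l hl => mem_Cz.1 hl,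
      IsPGroup.of_card h4, ob.cen, ⟨_, ρ, le yB, ob.ab _ yB _ zB, rfl, e, fun α hα =>
        (ob.cB α fun b hb => hα b (le hb) (le (cρ b hb)) (le (cρ _ (cρ b hb)))).imp
          fun _ e => e.2⟩⟩ h hn hc
  have k : Mv φ t O m z (Cz ζ) := ⟨h1, h2, h3⟩
  have k2 := k.mul_c h (c := ζ) fun l hl => (mem_Cz.1 hl).symm
  have s : m * φ ζ * (m * φ ζ) = φ (c * z) := by
    rw [mul_assoc, ← lc (h2 ζ (mem_Cz.2 rfl)), ← mul_assoc, mm, ← map_mul, ← map_mul, ob.sq]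
  rcases four ob.sq ob.zz hc with rfl | rfl | rfl | rfl
  · exact even_case h hb ob i k (mm.trans (map_one φ))
  · exact even_case h hb ob i k2 (by rw [s, ob.zz, map_one])
  · exact (odd_case h hb ob k mm).elim
  · exact (odd_case h hb ob k2 (by
      rw [s, mul_assoc, ob.ab _ ob.zB _ zB, ← mul_assoc, ob.zz, one_mul])).elim

end Cfsg.Agent.H21.OnH2
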