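import Mathlib
import Cfsg.Agent.H21.ReeA
import Cfsg.Agent.H21.ReeB
import Cfsg.Agent.H7.JRChar
import Cfsg.Agent.H20.WardRLoc

/-!
Groups of Ree type: the exceptional characters of `C(W)`.
-/

set_option autoImplicit false
set_option linter.unusedSectionVars false

namespace Cfsg.Agent.H21.Ree

open Cfsg Cfsg.Agent.H11 Cfsg.Agent.H6 Cfsg.Agent.H63 Cfsg.Agent.H67 Cfsg.Agent.H7.JR
  Cfsg.Agent.H21.JR Subgroup
open Cfsg.Agent.H29 (KPair klein)
open scoped ComplexConjugate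

local notation "ci" => classInner

universe u

section Abs

variable {G : Type u} [Group G] [Fintype G]

theorem fam_orth {S S' : Fin 4 → G → ℂ} (hS : ∀ i, Sgn (S i)) (hS' : ∀ i, Sgn (S' i))
    (ho : ∀ i k, i ≠ k → ci (S i) (S k) = 0) (ho' : ∀ i k, i ≠ k → ci (S' i) (S' k) = 0)
    (h : ∀ k l : Fin 3, ci (S k.succ - S 0) (S' l.succ - S' 0) = 0) (i j : Fin 4) :
    ci (S i) (S' j) = 0 := by
  have h1 : ∀ a b, ci (S a) (S' b) - ci (S a) (S' 0) - ci (S 0) (S' b) + ci (S 0) (S' 0) = 0 :=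
    fun a b => Fin.cases (by ring) (fun k => Fin.cases (by ring) (fun l => by
      have := h k l
      simp only [classInner_sub_left, classInner_sub_right] at this
      linear_combination this) b) a
  have r1 : ∀ {a b b'}, ci (S a) (S' b) ≠ 0 → b ≠ b' → ci (S a) (S' b') = 0 := fun h2 h3 => by
    rcases sgn_eq_or (hS _) (hS' _) h2 with h4 | h4 <;> rw [h4]
    · exact ho' _ _ h3
    · rw [classInner_neg_left, ho' _ _ h3, neg_zero]
  have r2 : ∀ {a b a'}, ci (S a) (S' b) ≠ 0 → a ≠ a' → ci (S a') (S' b) = 0 := fun h2 h3 => by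
    rcases sgn_eq_or (hS _) (hS' _) h2 with h4 | h4
    · rw [← h4]; exact ho _ _ h3.symm
    · rw [← neg_eq_zero, ← classInner_neg_right, ← h4]; exact ho _ _ h3.symm
  by_contra h2
  have key : ∀ a b, i ≠ a → j ≠ b → ci (S a) (S' b) ≠ 0 := fun a b ha hb h3 => h2 (by
    linear_combination h1 i j - h1 i b - h1 a j + h1 a b - h3 + r1 h2 hb + r2 h2 ha)
  have d : ∀ i : Fin 4, i ≠ i + 1 ∧ i ≠ i + 2 ∧ i + 1 ≠ i + 2 := by decide
  exact key (i + 1) (j + 2) (d i).1 (d j).2.1 (r1 (key (i + 1) (j + 1) (d i).1 (d j).1) (d j).2.2)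

variable {t v b ρ : G} {E C Ω R0 R : Subgroup G} {m : ℕ} {μ μ' : G → ℂ}

theorem Psi_cross (h : Cw t v b ρ E C Ω R0 R m μ) (h' : Cw t v b ρ E C Ω R0 R m μ')
    (hTI : ∀ g ∈ C, μ g ≠ 1 → ∀ x, x * g * x⁻¹ ∈ C → ∃ n : ℕ, x * (b ^ n)⁻¹ ∈ C)
    (hne : ∀ k n, μ (cb b k ρ) ≠ μ' (cb b n ρ)) (l : E →* ℂˣ) (a a' : Option ℕ) (c c' : ℕ) :
    ci (h.Psi l a c) (h'.Psi l a' c') = ∑ n : Fin 6,
      if a.map (· % 3) = (a'.map (· + (n : ℕ))).map (· % 3) then 1 else 0 := by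
  classical
  rw [Cw.Psi, H14.classInner_indFun_left _ _ (h'.Psi_class l a' c')]
  have h1 : ci (fun x : C => h.df l a c x) (fun x : C => h'.Psi l a' c' x) =
      ci (fun x : C => h.df l a c x)
        (∑ n : Fin 6, fun x : C => h'.df l (a'.map (· + (n : ℕ))) (c' + n) x) := by
    rw [classInner_def, classInner_def]
    congr 1
    refine Finset.sum_congr rfl fun x _ => ?_
    by_cases hx : μ x = 1
    · rw [h.df_zero l a c x.2 hx, zero_mul, zero_mul]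
    · rw [Finset.sum_apply, Cw.Psi, ind_cosets (fun x hx y hy => h'.df_conj l a' c' hx hy)
        (fun n : Fin 6 => b ^ (n : ℕ)) (fun n => h.cbC n x.2)
        (fun i k hik => Fin.ext (by have := h.cosets hik; omega)) (fun y hy _ => ?_)]
      · congr 2
        exact Finset.sum_congr rfl fun n _ => h'.df_cb l a' c' n x.2
      · obtain ⟨n, hn⟩ := hTI x x.2 hx y hy
        exact ⟨⟨n % 6, Nat.mod_lt _ (by norm_num)⟩, by rwa [← pow_eq_pow_mod n h.b6]⟩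
  rw [h1, classInner_sum_right]
  refine Finset.sum_congr rfl fun n _ => ?_
  have ρC := h.ΩC h.ρΩ
  have h2 := h.ell_inner le_rfl h.tC h.vC ρC l
  have h3 := h'.ell_inner le_rfl h.tC h.vC ρC l
  change ci ((fun x : C => h.ell l a none x) - fun x : C => h.ell l a (some c) x)
    ((fun x : C => h'.ell l _ none x) - fun x : C => h'.ell l _ (some (c' + n)) x) = _
  have h4 := (h.ell_lin l a (some c)).ci_ne (h'.ell_lin l (a'.map (· + (n : ℕ))) (some (c' + n)))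
    ρC (by rw [h.ell_ρ, h'.ell_ρ]; exact hne _ _)
  have h5 : ∀ a, h'.ell l a none = h.ell l a none := fun _ => rfl
  rw [classInner_sub_left, classInner_sub_right, classInner_sub_right, h4, ← h5 a, h3, h3, h5, h2]
  simp

end Abs

variable {G : Type u} [Group G] [Finite G] {c : Par} {t v u w σ φ ρ : G}

/-- A frame in a group of Janko-Ree type without field automorphisms. -/
structure F1 (c : Par) (t v u w σ φ ρ : G) : Prop where
  L : Loc G c
  F : Fr c t v u w σ φ ρ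
  f1 : c.f = 1

namespace F1

variable (h : F1 c t v u w σ φ ρ)
include h

theorem φ1 : φ = 1 := orderOf_eq_one_iff.1 (h.F.φord.trans h.f1)

theorem zd {z : G} (hz : z ∈ zpowers ρ) (hp : (orderOf z).Prime) : Zd c t v u w σ φ ρ z :=
  ⟨h.L, h.F, hz, hp, by rw [h.φ1, one_mul, mul_one], H20.Ward.pRLoc G c h.L h.f1 _ _ _ _ _ _ _ h.F z
    hz fun h1 => by simp [h1, Nat.not_prime_one] at hp⟩

theorem C1_eq {z : G} (hz : Zd c t v u w σ φ ρ z) : C1[z] = klein t v ⊔ zpowers ρ := by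
  ext g
  rw [hz.memC, hz.memR, h.φ1, zpowers_one_eq_bot, sup_bot_eq]
  simp only [eq_comm]

theorem exists_zd {r : G} (hr : r ∈ zpowers ρ) (h1 : r ≠ 1) :
    ∃ z ∈ zpowers r, Zd c t v u w σ φ ρ z := by
  obtain ⟨s, hs, h2⟩ := Nat.exists_prime_and_dvd (mt orderOf_eq_one_iff.1 h1)
  have : Fact s.Prime := ⟨hs⟩
  obtain ⟨⟨z, hz⟩, h3⟩ := exists_prime_orderOf_dvd_card' (G := zpowers r) s
    (by rwa [Nat.card_zpowers])
  rw [← Subgroup.orderOf_coe] at h3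
  exact ⟨z, hz, h.zd (zpowers_le.2 hr hz) (h3 ▸ hs)⟩

theorem exists_zd' {z0 g : G} (h0 : Zd c t v u w σ φ ρ z0) (hg : g ∈ klein t v ⊔ zpowers ρ)
    (h1 : g ∉ klein t v) : ∃ z ∈ zpowers (g * g), Zd c t v u w σ φ ρ z := by
  obtain ⟨a, ha, r, hr, rfl⟩ := h0.memR.1 hg
  have h2 : a * r * (a * r) = r * r := by
    rw [mul_assoc, ← mul_assoc r, ← h0.WP ha hr, ← mul_assoc, ← mul_assoc, h0.WW ha, one_mul]
  rw [h2]
  refine h.exists_zd (mul_mem hr hr) fun h3 => h1 ?_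
  rw [eq_one_of_odd_of_sq (h0.oddP hr) h3, mul_one]; exact ha

theorem sq_mem {z0 g : G} (h0 : Zd c t v u w σ φ ρ z0) (hg : g ∈ klein t v ⊔ zpowers ρ) :
    g * g ∈ zpowers ρ := by
  obtain ⟨a, ha, r, hr, rfl⟩ := h0.memR.1 hg
  rw [mul_assoc, ← mul_assoc r, ← h0.WP ha hr, ← mul_assoc, ← mul_assoc, h0.WW ha, one_mul]
  exact mul_mem hr hr

theorem ti {z0 g : G} (h0 : Zd c t v u w σ φ ρ z0) (hg : g ∈ klein t v ⊔ zpowers ρ)
    (h1 : g ∉ klein t v) (x : G) (hx : x * g * x⁻¹ ∈ klein t v ⊔ zpowers ρ) :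
    ∃ n : ℕ, x * ((u * w) ^ n)⁻¹ ∈ klein t v ⊔ zpowers ρ := by
  obtain ⟨z, ⟨i, hi⟩, hz⟩ := h.exists_zd' h0 hg h1
  simp only at hi
  have z3 : x * z * x⁻¹ ∈ zpowers ρ := by
    rw [← hi, conj_zpow', show x * (g * g) * x⁻¹ = x * g * x⁻¹ * (x * g * x⁻¹) by group]
    exact zpow_mem (h.sq_mem h0 hx) i
  have h5 : x ∈ N[C1[z]] :=
    mem_N_C1 (mem_N_zpowers (mem_zpowers_of_cyc hz.zρ z3 (by rw [orderOf_conj'])))
  have h6 : ∀ a ∈ klein t v, x * a * x⁻¹ ∈ klein t v := fun a ha =>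
    hz.sqW (conj_mem_of_mem_normalizer h5 (hz.WC ha)) (by
      rw [show x * a * x⁻¹ * (x * a * x⁻¹) = x * (a * a) * x⁻¹ by group, hz.WW ha]; simp)
  have h7 : x ∈ N[klein t v] := (H29.mem_normalizer_klein h.F.tv).2
    ⟨h6 t (H29.left_mem_klein t v), h6 v (H29.right_mem_klein t v)⟩
  rw [h.F.NW] at h7
  obtain ⟨d, hd, y, hy, rfl⟩ := (mem_sup_of_le_normalizer' ((zpowers_le.2 (w_mem_NW h.F)).trans
    (normalizer_le_normalizer_centralizer _))).1 h7
  obtain ⟨i, rfl⟩ := mem_powers_iff_mem_zpowers.2 hy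
  have e4 : (u * w) ^ (4 * i) = w ^ i := by
    rw [pow_mul, hz.bpow, show 4 = 2 * 2 from rfl, pow_mul, pow_two u, h.F.uu, one_pow, one_mul,
      show 2 * 2 = 3 + 1 from rfl, pow_succ, w_cube h.F, one_mul]
  rw [← h.C1_eq hz]
  obtain ⟨a, ha, y, hy, rfl | rfl⟩ := hz.decCW hd
  · exact ⟨4 * i, by rw [e4]; simpa using mul_mem (hz.WC ha) (hz.ΩC hy)⟩
  · exact ⟨3 + 4 * i, by
      rw [pow_add, e4, hz.b3]; simpa [mul_assoc] using mul_mem (hz.WC ha) (hz.ΩC hy)⟩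

theorem exists_mu {z0 : G} (h0 : Zd c t v u w σ φ ρ z0) {ζ : ℂ} (hζ : ζ ^ c.m = 1) :
    ∃ μ, LinOn (klein t v ⊔ zpowers ρ) μ ∧ (∀ a ∈ klein t v, μ a = 1) ∧ μ ρ = ζ := by
  obtain ⟨μ, h1, h2, h3⟩ := exists_lin (X := klein t v ⊔ zpowers ρ) (Y := klein t v)
    (sup_le le_normalizer ((zpowers_le.2 (ρ_mem_CW h.F)).trans (centralizer_le_normalizer _)))
    (mem_sup_right (mem_zpowers ρ)) (fun g hg => by
      obtain ⟨a, ha, r, hr, rfl⟩ := h0.memR.1 hg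
      obtain ⟨i, rfl⟩ := mem_powers_iff_mem_zpowers.2 hr
      exact ⟨a, ha, mem_sup_left ha, i, rfl⟩) (m_pos h.L.ok).ne' (fun i hi => by
      rw [← h.F.ρord, orderOf_dvd_iff_pow_eq_one]
      exact eq_one_of_odd_of_sq (h0.oddP (pow_mem (mem_zpowers ρ) i)) (h0.WW hi)) hζ
  exact ⟨μ, h1, fun a ha => h2 a ha (mem_sup_left ha), h3⟩

theorem cw {μ : G → ℂ} (lin : LinOn (klein t v ⊔ zpowers ρ) μ) (hW : ∀ a ∈ klein t v, μ a = 1)
    (h1 : μ ρ ≠ 1) : Cw t v (u * w) ρ (Ef t φ) (klein t v ⊔ zpowers ρ) (zpowers ρ) (zpowers ρ)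
      (klein t v ⊔ zpowers ρ) c.m μ := by
  have ρA : ρ ∈ klein t v ⊔ zpowers ρ := mem_sup_right (mem_zpowers ρ)
  have hm : μ ρ ^ c.m = 1 := by rw [← lin.pow ρA, ← h.F.ρord, pow_orderOf_eq_one, lin.one]
  have fin : IsOfFinOrder (μ ρ) := isOfFinOrder_iff_pow_eq_one.2 ⟨_, m_pos h.L.ok, hm⟩
  obtain ⟨s, hs, h2⟩ := Nat.exists_prime_and_dvd (mt orderOf_eq_one_iff.1 h1)
  obtain ⟨k, hk⟩ := h2.trans (orderOf_dvd_of_pow_eq_one hm)
  have k0 : k ≠ 0 := by rintro rfl; exact (m_pos h.L.ok).ne' hk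
  have oz : orderOf (ρ ^ k) = s := by
    rw [orderOf_pow_of_dvd k0 (by rw [h.F.ρord, hk]; exact dvd_mul_left _ _), h.F.ρord, hk,
      Nat.mul_div_cancel _ (Nat.pos_of_ne_zero k0)]
  have hz := h.zd (pow_mem (mem_zpowers ρ) k) (oz ▸ hs)
  have nW : ∀ {g}, μ g ≠ 1 → g ∉ klein t v := fun h3 h4 => h3 (hW _ h4)
  refine
    { sp := H8.JRL.split_Ef h.L h.F
      tv := h.F.tv
      vE := H8.JRL.Kc_le_Ef h.F.vK
      b3 := by rw [hz.b3]; exact H8.JRL.Kc_le_Ef h.F.tuK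
      ΩE := hz.PK.trans H8.JRL.Kc_le_Ef
      memC := fun g => hz.memR.trans (by simp only [eq_comm])
      memR := fun g => hz.memR.trans (by simp only [eq_comm])
      cardR := hz.cardR
      odd := fun y hy h3 => Nat.not_even_iff_odd.2 (hz.oddP hy) (even_iff_two_dvd.2 h3)
      yv := fun y hy => (hz.WP (H29.right_mem_klein t v) hy).symm
      b6 := hz.b6
      bt := by
        rw [show u * w * t * (u * w)⁻¹ = u * (w * t * w⁻¹) * u⁻¹ by group, h.F.wt, h.F.uv,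
          mul_inv_cancel_right]
      bv := by
        rw [show u * w * v * (u * w)⁻¹ = u * (w * v * w⁻¹) * u⁻¹ by group, h.F.wv,
          ← hz.Wu (mul_mem (H29.left_mem_klein t v) (H29.right_mem_klein t v)),
          mul_inv_cancel_right]
      bΩ := fun y hy => ⟨u * w * y * (u * w)⁻¹ * y⁻¹,
        mul_mem (conj_mem_of_mem_normalizer hz.bN hy) (inv_mem hy), by group⟩
      R0Ω := le_rfl
      ρR := mem_zpowers ρ
      triv := fun l y hy =>
        H8.JRL.lin_Kc h.L h.F l y (hy.elim (fun h3 => h3 ▸ h.F.vK) fun h3 => hz.PK h3)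
      lin := lin
      μt := hW t (H29.left_mem_klein t v)
      μv := hW v (H29.right_mem_klein t v)
      μb := fun y hy h3 => ?_
      ne1 := h1
      nt := fun l hl => absurd (MonoidHom.ext fun y => H8.JRL.lin_Kc h.L h.F l y (by
        have := y.2
        simpa only [Ef, h.φ1, zpowers_one_eq_bot, sup_bot_eq] using this)) hl
      dist := fun a n h3 => hz.cbz ?_
      TI := fun g hg h3 x hx _ => h.ti hz hg (nW h3) x hx
      pc := fun g hg h3 => ⟨fun _ => ?_, fun h4 => absurd hg h4⟩ }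
  · obtain ⟨i, hi⟩ := mem_powers_iff_mem_zpowers.2
      (conj_mem_of_mem_normalizer (N_zpowers_le hy hz.bN) (mem_zpowers y))
    simp only at hi
    rw [← hi, lin.pow (mem_sup_right hy), h3, one_pow]
  · have key : ∀ n : ℕ, ∃ a : ℕ, cb (u * w) n ρ = ρ ^ a ∧ cb (u * w) n (ρ ^ k) = (ρ ^ k) ^ a :=
      fun n => by
        obtain ⟨a, ha⟩ := mem_powers_iff_mem_zpowers.2
          (conj_mem_of_mem_normalizer (pow_mem hz.bN n) (mem_zpowers ρ))
        simp only at ha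
        exact ⟨a, ha.symm, by rw [cb, conj_pow', ← ha, ← pow_mul, ← pow_mul, mul_comm]⟩
    obtain ⟨a1, e1, e2⟩ := key a
    obtain ⟨a2, e3, e4⟩ := key n
    rw [e1, e3, lin.pow ρA, lin.pow ρA, fin.pow_eq_pow_iff_modEq] at h3
    rw [e2, e4, pow_eq_pow_iff_modEq, oz]
    exact h3.of_dvd h2
  · obtain ⟨z, hz1, hz2⟩ := h.exists_zd' hz hg (nW h3)
    have zg : z ∈ zpowers g := zpowers_le.2 (mul_mem (mem_zpowers g) (mem_zpowers g)) hz1
    have gC : g ∈ C1[z] := h.C1_eq hz2 ▸ hg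
    have h4 : orderOf g ≠ 2 := fun h5 => nW h3 (hz2.sqW gC (mul_self_of_two h5))
    rw [H9.pairCount_of_not_involution h4, ← hz.cardR]
    exact Nat.card_congr ⟨fun a => ⟨a.1 * u, (hz2.inv_R gC zg a.2.1 a.2.2).1⟩,
      fun r => ⟨r.1 * u, hz2.R_inv r.2 hg⟩,
      fun a => Subtype.ext (by simp [mul_assoc, h.F.uu]),
      fun a => Subtype.ext (by simp [mul_assoc, h.F.uu])⟩

end F1

end Cfsg.Agent.H21.Ree
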