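import Mathlib
import Cfsg.Agent.H21.ReeC
import Cfsg.Agent.H65.JRBN
import Cfsg.Agent.H35.StSplit

/-!
Groups of Ree type: the elements of prime order dividing `q ^ 2 - q + 1` are real (Ward).
-/

set_option autoImplicit false
set_option linter.unusedSectionVars false

namespace Cfsg.Agent.H21.Ree

open Cfsg Cfsg.Agent.H11 Cfsg.Agent.H6 Cfsg.Agent.H63 Cfsg.Agent.H67 Cfsg.Agent.H7.JR
  Cfsg.Agent.H21.JR Subgroup
open Cfsg.Agent.H29 (KPair klein)
open scoped ComplexConjugate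

local notation "ci" => classInner

universe u

theorem deg_ne {q : ℤ} (h : 27 ≤ q) : -(1 + -q) * ((-q) ^ 2 + -q + 1) ≠ q ^ 3 + 1 ∧
    -(-(1 + -q) * ((-q) ^ 2 + -q + 1)) ≠ q ^ 3 + 1 :=
  ⟨fun h1 => by nlinarith, fun h1 => by nlinarith [sq_nonneg q]⟩

variable {G : Type u} [Group G] [Finite G] {c : Par} {t v u w σ φ ρ : G}

namespace F1

variable (h : F1 c t v u w σ φ ρ) (hp : c.p = 3)
  (hG : Nat.card G = c.q ^ 3 * (c.q ^ 3 + 1) * (c.q - 1))
include h hp hG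

theorem exists_bn : ∃ (U : Subgroup G) (g : G), BN1 N[U] U g v ∧ IsPGroup 3 U ∧
    Nat.card U = c.q ^ 3 ∧ orderOf g = c.q - 1 ∧ t ∈ zpowers g ∧
    Nat.card ↥(U ⊓ C1[t]) ≤ c.q := by
  have : Fact (Nat.Prime 3) := ⟨Nat.prime_three⟩
  have hf := h.f1
  obtain ⟨⟨e, he⟩, hq, hn⟩ := H65.BN.nums h.L.ok hf hp
  have hq3 := h.L.ok.gt
  have ht := ord_t h.F
  obtain ⟨P, d, -, B, -, -, hvd, -⟩ := h.F.borel (Q_neg_of_three h.L.ok hp)
  obtain ⟨U, hU, htU, hdU⟩ := H65.BN.exists_inv_syl h.L hf hp hG ht B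
  have hd := H65.BN.dord h.L hf hp B
  have h3 : 3 ∣ c.q := hp ▸ p_dvd_q h.L.ok
  have hUc : Nat.card U = c.q ^ 3 := by
    have h1 : ¬ 3 ∣ (c.q ^ 3 + 1) * (c.q - 1) := by
      intro h2
      rcases (Nat.Prime.dvd_mul Nat.prime_three).1 h2 with h4 | h4
      · have h5 : 3 ∣ c.q ^ 3 := dvd_pow h3 (by norm_num)
        omega
      · omega
    have h0 : (c.q ^ 3 + 1) * (c.q - 1) ≠ 0 := fun h0 => h1 (by rw [h0]; exact dvd_zero 3)
    rw [syl_card hU, card_top, hG, mul_assoc, Nat.factorization_mul (pow_ne_zero _ (by omega)) h0,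
      Finsupp.add_apply, Nat.factorization_eq_zero_of_not_dvd h1,
      he, ← pow_mul, Nat.Prime.factorization_pow Nat.prime_three]
    simp
  have hU1 : U ≠ ⊥ := by
    rintro rfl
    rw [card_bot] at hUc
    have := Nat.one_lt_pow (by norm_num : 3 ≠ 0) (by omega : 1 < c.q)
    omega
  have htv := h.F.tv
  have hvU : v ∉ N[U] := fun h1 => hU1 (H65.BN.no_four h.L hf hp (syl_isPGroup hU) htv htU h1)
  have hUv : U ⊓ cj v U = ⊥ := by
    refine H65.BN.no_four h.L hf hp ((syl_isPGroup hU).to_le inf_le_left) htv ?_ ?_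
    · rw [← cj_eq_self_iff, cj_inf, cj_cj, htv.comm, cj_mul, cj_eq_self htU]
    · rw [← cj_eq_self_iff, cj_inf, cj_cj, htv.bb, cj_one, inf_comm]
  have htd : Commute t d := (mem_centralizer_singleton_iff.1 (Kc_le t B.dK)).symm
  have hA : zpowers (t * d) ≤ N[U] := zpowers_le.2 (mul_mem htU hdU)
  have hAo : orderOf (t * d) = c.q - 1 := by
    rw [htd.orderOf_mul_eq_mul_orderOf_of_coprime
      (by rw [ht, hd]; exact Nat.coprime_two_left.2 hn), ht, hd]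
    omega
  have hdis : U ⊓ zpowers (t * d) = ⊥ := inf_eq_bot_of_coprime' (by
    rw [hUc, Nat.card_zpowers, hAo]
    refine Nat.Coprime.pow_left 3 ?_
    rw [hq, Nat.add_sub_cancel]
    simp)
  have hm := isMul_sup (H := U) (K := zpowers (t * d)) (Or.inr hA)
  have h1 := hm.card_of_inf hdis
  rw [hUc, Nat.card_zpowers, hAo] at h1
  have h2 : U ⊔ zpowers (t * d) ≤ N[U] := sup_le le_normalizer hA
  have h4 := N[U].card_mul_index
  have h5 : 0 < c.q ^ 3 * (c.q - 1) := Nat.mul_pos (by positivity) (by omega)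
  have hi : N[U].index ≤ Nat.card U + 1 := by
    refine Nat.le_of_mul_le_mul_left ?_ h5
    calc c.q ^ 3 * (c.q - 1) * N[U].index ≤ Nat.card N[U] * N[U].index :=
          Nat.mul_le_mul_right _ (h1 ▸ card_le_of_le h2)
      _ = _ := by rw [h4, hG, hUc]; ring
  obtain ⟨hidx, hreg⟩ := H65.BN.regular hU hvU hUv hi
  have h6 : U ⊔ zpowers (t * d) = N[U] := eq_of_le_of_card_ge h2 (by
    rw [hidx, hUc, hG] at h4
    rw [h1]
    exact (Nat.eq_of_mul_eq_mul_right (by positivity : 0 < c.q ^ 3 + 1) (h4.trans (by ring))).le)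
  refine ⟨U, t * d, ⟨le_normalizer, mul_mem htU hdU, le_rfl, fun b hb => ?_, hdis, ?_, hreg,
    fun y hy h7 => ?_, hidx⟩, syl_isPGroup hU, hUc, hAo, ?_, ?_⟩
  · obtain ⟨y, hy, z, hz, rfl⟩ := hm.exists_mul (h6 ▸ hb)
    obtain ⟨i, rfl⟩ := mem_powers_iff_mem_zpowers.2 hz
    exact ⟨y, hy, i, rfl⟩
  · rw [show v * (t * d) * v⁻¹ = v * t * v⁻¹ * (v * d * v⁻¹) by group, hvd, ← htv.comm,
      mul_inv_cancel_right, mul_inv_rev, inv_of_two htv.aa, htd.inv_right.eq]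
  · have h8 : zpowers (v⁻¹ * y * v⁻¹⁻¹) ≤ U := by
      refine le_of_normal_syl (hall_of_le hU le_normalizer le_top) ⟨le_normalizer, le_rfl⟩
        (zpowers_le.2 (by rwa [inv_inv])) ?_
      rw [← cj_zpowers]
      exact isPGroup_cj ((syl_isPGroup hU).to_le (zpowers_le.2 hy)) _
    have h9 := h8 (mem_zpowers _)
    rw [inv_inv] at h9
    exact mem_bot.1 (hUv ▸ ⟨hy, mem_cj.2 h9⟩)
  · obtain ⟨k, hk⟩ := hn
    refine ⟨(c.n : ℕ), ?_⟩
    simp only [zpow_natCast]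
    rw [htd.mul_pow, ← hd, pow_orderOf_eq_one, mul_one, hd, hk, pow_succ, pow_mul, pow_two,
      htv.aa, one_pow, one_mul]
  · obtain ⟨k, hk⟩ := IsPGroup.iff_card.1 ((syl_isPGroup hU).to_le (inf_le_left (b := C1[t])))
    have h7 := card_dvd_of_le (inf_le_right (a := U) (b := C1[t]))
    rw [(h.L.at' t ht).cardC, hf, hk, show 2 * 1 * (4 * c.n * c.m * c.q) =
      8 * c.n * c.m * c.q by ring] at h7
    have h8 := not_p_dvd_n h.L.ok
    have h9 := not_p_dvd_2m h.L.ok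
    rw [hp] at h8 h9
    rw [hk]
    refine Nat.le_of_dvd (by omega) (Nat.Coprime.dvd_of_dvd_mul_left (Nat.Coprime.pow_left k
      ((Nat.Prime.coprime_iff_not_dvd Nat.prime_three).2 fun h10 => ?_)) h7)
    rcases (Nat.Prime.dvd_mul Nat.prime_three).1 h10 with h11 | h11
    · rcases (Nat.Prime.dvd_mul Nat.prime_three).1 h11 with h12 | h12 <;> omega
    · omega

set_option maxHeartbeats 800000 in
theorem real (hP : commutator G = ⊤) (h27 : 27 ≤ c.q) {x : G} {p : ℕ} (pp : p.Prime)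
    (hx : orderOf x = p) (hd : (p : ℤ) ∣ (c.q : ℤ) ^ 2 - c.q + 1) :
    ∃ a : G, orderOf a = 2 ∧ a * x * a⁻¹ = x⁻¹ := by
  classical
  have := Fintype.ofFinite G
  have : Fact p.Prime := ⟨pp⟩
  refine H15.exists_inverting_of_pairCount fun hx0 => ?_
  have ok := h.L.ok
  have F := h.F
  have hf := h.f1
  have hQ := Q_neg_of_three ok hp
  obtain ⟨q1, q2, q3, q8⟩ := Q_neg ok hQ
  have h3 : 3 ∣ c.q := hp ▸ p_dvd_q ok
  have pZ := Nat.prime_iff_prime_int.1 pp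
  have nd : ∀ {a : ℤ}, IsCoprime ((c.q : ℤ) ^ 2 - c.q + 1) a → ¬ (p : ℤ) ∣ a := fun h1 h2 =>
    pZ.not_isUnit (h1.isUnit_of_dvd' hd h2)
  have p3 : p ≠ 3 := by
    rintro rfl
    obtain ⟨a, ha⟩ := h3
    exact nd (a := 3) ⟨1, -(3 * a ^ 2 - a), by rw [ha]; push_cast; ring⟩ (by simp)
  have n1 : ¬ (p : ℤ) ∣ c.q := nd ⟨1, 1 - c.q, by ring⟩
  have n2 : ¬ (p : ℤ) ∣ c.q - 1 := nd ⟨1, -c.q, by ring⟩
  have n3 : ¬ (p : ℤ) ∣ c.q + 1 := fun h1 => p3 ((Nat.prime_dvd_prime_iff_eq pp Nat.prime_three).1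
    (by
      have : (p : ℤ) ∣ 3 := by
        have h2 := dvd_sub hd (h1.mul_left ((c.q : ℤ) - 2))
        rwa [show (c.q : ℤ) ^ 2 - c.q + 1 - (c.q - 2) * (c.q + 1) = 3 by ring] at h2
      exact_mod_cast this))
  have p2 : ¬ 2 ∣ orderOf x := fun h1 => by
    rw [hx, Nat.prime_dvd_prime_iff_eq Nat.prime_two pp] at h1
    subst h1
    exact n2 (by omega)
  set k := (Nat.card G).factorization p with hk
  have hGZ : (Nat.card G : ℤ) = (c.q ^ 2 - c.q + 1) * (c.q ^ 3 * ((c.q + 1) * (c.q - 1))) := by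
    rw [hG]; push_cast [Nat.cast_sub (by omega : 1 ≤ c.q)]; ring
  have hk0 : k ≠ 0 := (pp.factorization_pos_of_dvd Nat.card_pos.ne' (by
    have : (p : ℤ) ∣ Nat.card G := hGZ ▸ hd.mul_right _
    exact_mod_cast this)).ne'
  have hN : (p : ℤ) ^ k ∣ (c.q : ℤ) ^ 2 - c.q + 1 := by
    have h1 : (p : ℤ) ^ k ∣ Nat.card G := by exact_mod_cast Nat.ordProj_dvd _ p
    rw [hGZ] at h1
    refine pZ.pow_dvd_of_dvd_mul_right k (fun h1 => ?_) h1
    rcases pZ.dvd_or_dvd h1 with h2 | h2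
    · exact n1 (pZ.dvd_of_dvd_pow h2)
    · exact (pZ.dvd_or_dvd h2).elim n3 n2
  have hv0 : ∀ (e : G → ℂ) (a : ℤ), Sgn e → e 1 = a → (p : ℤ) ^ k ∣ a → e x = 0 := by
    intro e a he h1 h2
    obtain ⟨ε, χ, hε, rfl⟩ := he.exists_irr
    obtain ⟨d, -, h4⟩ := exists_pos_degree χ.2
    have h5 : (p : ℤ) ^ k ∣ d := by
      rw [Pi.smul_apply, h4, smul_eq_mul] at h1
      rcases hε with rfl | rfl
      · rwa [show (d : ℤ) = a by exact_mod_cast (one_mul _).symm.trans h1]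
      · rw [show (d : ℤ) = -a by exact_mod_cast (by linear_combination -h1 : (d : ℂ) = -a)]
        exact h2.neg_right
    rw [Pi.smul_apply, H35.vanish_of_defect_zero χ.2 h4 (by exact_mod_cast h5) hx.symm.dvd,
      smul_zero]
  -- the system of generalized characters
  obtain ⟨M, hM⟩ := H23.exists_isPModular Nat.prime_two
  obtain ⟨-, hs, hB, -, -, hab, hNS, v₀, v₁, hv, hone, hi, hv₁, hvv, hfix⟩ :=
    H8.JRL.pLocE1 G c h.L t v u w σ φ ρ F
  obtain ⟨e, y, hK, hy, e0, e1, e2, h0⟩ := H21.JR.pLocE2 G c h.L t v u w σ φ ρ F M hM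
  have hnq : 2 * ((c.n * c.q : ℕ) : ℤ) = c.Q * (c.Q + 1) := by
    push_cast
    have : (c.q : ℤ) = 2 * c.n + 1 := by exact_mod_cast q2
    rw [q1, this]; ring
  have hH := (h.L.at' t (ord_t F)).cardC
  have hG1 := (C1[t]).index_mul_card
  have hρ1 : ρ ≠ 1 := fun h1 => by
    have := F.ρord
    rw [h1, orderOf_one] at this
    omega
  obtain ⟨z, -, hz⟩ := h.exists_zd (mem_zpowers ρ) hρ1
  have hidx : ((klein t v ⊔ zpowers ρ).index : ℤ) = (C1[t]).index * (c.Q * (c.Q + 1)) := by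
    have h1 := (klein t v ⊔ zpowers ρ).index_mul_card
    rw [hz.cardR, ← hG1, hH, hf] at h1
    have h2 : (klein t v ⊔ zpowers ρ).index = (C1[t]).index * (2 * (c.n * c.q)) :=
      Nat.eq_of_mul_eq_mul_right (Nat.mul_pos (by norm_num : 0 < 4) (m_pos ok))
        (by rw [h1]; ring)
    rw [h2, ← hnq]; push_cast; ring
  have hm : (4 * c.m : ℤ) ^ 2 = (c.Q - 1) ^ 2 := by
    rw [← Int.natAbs_sq (c.Q - 1), ok.m4]; push_cast; ring
  obtain ⟨B, hB1, hloc⟩ := H18.pBlk G M hM (Sf t v u) t F.syl hab t_mem_S (ord_t F) hNS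
    ((1 : Ef t φ →* ℂˣ).comp (H8.JRL.split_Ef h.L F).pr)
  set θ : Fin 3 → G → ℂ := fun i => (H8.JRL.split_Ef h.L F).Th (al e 1 i) with hθ
  have sys : ∀ {μ : G → ℂ} (hw : Cw t v (u * w) ρ (Ef t φ) (klein t v ⊔ zpowers ρ) (zpowers ρ)
      (zpowers ρ) (klein t v ⊔ zpowers ρ) c.m μ), Sys t c.Q y (C1[t]).index θ (hw.Psi 1 none 0)
        fun k : Fin 3 => hw.Psi 1 (some 0) (2 * k) := fun hw =>
    hw.sys hM hK hs (fun g hg h1 => h0 g ⟨g, mem_zpowers _, hz.PK hg,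
      fun h2 => h1 (by rw [h2, hw.lin.one]), F.ρord ▸ orderOf_dvd_of_mem_zpowers hg⟩) hB hy ok.Q8
      e0 e1 e2 hv hone (by rw [hi, hnq]) hv₁ hvv hfix hidx hm 1 hB1 hloc
  have roots : ∀ n : ℕ, n ≠ 0 → ∃ s : Finset ℂ, s.card = n ∧ ∀ ζ, ζ ∈ s ↔ ζ ^ n = 1 :=
    fun n hn => ⟨Polynomial.nthRootsFinset n 1,
      (Complex.isPrimitiveRoot_exp n hn).card_nthRootsFinset,
      fun ζ => Polynomial.mem_nthRootsFinset (Nat.pos_of_ne_zero hn) 1⟩
  obtain ⟨s, hs1, hs2⟩ := roots c.m (m_pos ok).ne'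
  have hs3 : (s.erase 1).card = c.m - 1 := by
    rw [Finset.card_erase_of_mem ((hs2 1).2 (one_pow _)), hs1]
  choose μ μ1 μ2 μ3 using fun ζ : s.erase 1 =>
    h.exists_mu hz ((hs2 ζ).1 (Finset.mem_of_mem_erase ζ.2))
  have hw := fun ζ : s.erase 1 => h.cw (μ1 ζ) (μ2 ζ) (by
    rw [μ3]; exact Finset.ne_of_mem_erase ζ.2)
  obtain ⟨ζ0, hζ0⟩ : (s.erase 1).Nonempty := Finset.card_pos.1 (by omega)
  have S0 := sys (hw ⟨ζ0, hζ0⟩)
  have one : ∀ i, ci (θ i) (fun _ => 1) = 1 := fun i => by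
    rw [hθ, Split.inner_Th _ _ (isClassFunction_const 1), al_one hK 1 i hs, if_pos rfl]
  obtain ⟨r, -, hr⟩ := exists_q_pow ok
  have a27 : 27 ≤ c.Q.natAbs := ok.absQ ▸ h27
  obtain ⟨hj, -⟩ := S0.principal H12.JR.arithC H12.JR.arithB hP one
    ((hw _).Psi_one _ _ _) ok.prime (ok.absQ.trans hr) a27
  obtain ⟨E, hE, hEE, hE0, hEs, hEx⟩ := principal8 S0 hP H12.JR.arithC H12.JR.arithB one
    ((hw _).Psi_one _ _ _) ok.prime (ok.absQ.trans hr) a27
  choose S SD So SΔ S1 Ss using fun ζ : s.erase 1 => S_data (sys (hw ζ)) hj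
  -- the principal series
  obtain ⟨U, g, H, -, hU, hg, htg, hUt⟩ := h.exists_bn hp hG
  obtain ⟨s', hs1', hs2'⟩ := roots (c.q - 1) (by omega)
  choose f f1 f2 f3 using fun ζ : ↥(s' \ {1, -1}) =>
    H.exists_lin (ζ := ζ) (hg ▸ (hs2' ζ).1 (Finset.mem_sdiff.1 ζ.2).1)
  obtain ⟨N, hN1, hN2⟩ := H.value (ord_t F) htg (hU ▸ (odd_q ok).pow)
  have hN3 : c.q + 1 ≤ N := by
    rw [hH, hf, hg] at hN1
    have h1 := hN1.trans (Nat.mul_le_mul_left _ (Nat.mul_le_mul_right _ hUt))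
    refine Nat.le_of_mul_le_mul_right (c := c.q * (c.q - 1)) (le_of_eq_of_le ?_ h1)
      (Nat.mul_pos (by omega) (by omega))
    rw [q3, show c.q - 1 = 2 * c.n by omega]; ring
  let X : ↥(s' \ {1, -1}) → G → ℂ := fun ζ => indFun N[U] fun b : N[U] => f ζ b
  have hX : ∀ ζ, Sgn (X ζ) := fun ζ => H.sgn (f1 ζ) (by
    have := (Finset.mem_sdiff.1 ζ.2).2
    rw [f3, Ne, sq_eq_one_iff]
    simpa using this)
  have X1 : ∀ ζ, X ζ 1 = ((c.q : ℤ) ^ 3 + 1 : ℤ) := fun ζ => by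
    simp only [X]
    rw [H14.indFun_one, H.idx, hU, coe_one, (f1 ζ).one]; push_cast; ring
  have Xt : ∀ ζ, ∃ a : ℤ, X ζ t = a ∧ |a| = N := fun ζ => by
    rcases hN2 _ (f1 ζ) (f2 ζ) with h1 | h1
    · exact ⟨N, by simpa using h1, by simp⟩
    · exact ⟨-N, by simpa using h1, by simp⟩
  refine hEx p k x pp p3 hk0 (fun h1 => ?_) (by rw [q1]; convert hN using 1; ring) p2 hv0
    (rel_of_cover hB (X := X) (Y := fun i : s.erase 1 × Fin 4 => S i.1 i.2) hE hX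
      (fun i => (SD _ _).sgn) hEE (fun i ζ => hE0 _ ?_ i) (fun i ζ => hE0 _ (SD _ _) i)
      (fun ζ i => ?_) (fun ζ => ?_) (fun i => ?_) ?_ (fun ζ => hv0 _ _ (hX ζ) (X1 ζ) ?_)
      (fun i => hv0 _ _ (SD _ _).sgn (S1 _ _) ?_) hx0)
  · rw [q1, show (-c.q : ℤ) ^ 2 + -c.q = c.q * (c.q - 1) by ring] at h1
    exact (pZ.dvd_or_dvd h1).elim n1 n2
  · obtain ⟨a, h1, h2⟩ := Xt ζ
    exact D0_of_large S0 (hX ζ) hQ h1 (by omega)
  · by_contra h1
    have h2 : (27 : ℤ) ≤ c.q := by exact_mod_cast h27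
    rcases sgn_eq_or (hX ζ) (SD _ _).sgn h1 with h4 | h4
    · have h5 := X1 ζ
      rw [h4, S1, q1] at h5
      exact (deg_ne h2).1 (by exact_mod_cast h5)
    · have h5 := X1 ζ
      rw [h4, Pi.neg_apply, S1, q1] at h5
      exact (deg_ne h2).2 (by exact_mod_cast h5)
  · refine (Finset.card_le_card_of_injOn Subtype.val (t := {ζ.1, ζ.1⁻¹}) (fun ξ hξ => ?_)
      Subtype.val_injective.injOn).trans Finset.card_le_two
    have := H.eq_or (f1 ζ) (f1 ξ) (Finset.mem_filter.1 hξ).2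
    rw [f3, f3] at this
    simpa using this
  · refine (Finset.card_le_card_of_injOn (fun j => j.1.1)
      (t := Finset.univ.image fun n : Fin 6 => μ i.1 (cb (u * w) n ρ)) (fun j hj => ?_)
      fun j hj j' hj' hjj => ?_).trans (Finset.card_image_le.trans (by simp))
    · have h1 := (Finset.mem_filter.1 hj).2
      by_contra h2
      refine h1 (fam_orth (fun a => (SD _ a).sgn) (fun a => (SD _ a).sgn) (So _) (So _)
        (fun a b => ?_) _ _)
      have hne : ∀ a b, μ i.1 (cb (u * w) a ρ) ≠ μ j.1 (cb (u * w) b ρ) := fun a b h4 => h2 (by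
        have ρA : ρ ∈ klein t v ⊔ zpowers ρ := mem_sup_right (mem_zpowers ρ)
        obtain ⟨n, hn⟩ := mem_powers_iff_mem_zpowers.2 ((hw i.1).cbΩ (5 * b) (mem_zpowers ρ))
        simp only at hn
        have h5 : ∀ a, cb (u * w) (a + 5 * b) ρ = cb (u * w) a ρ ^ n := fun a => by
          rw [← cb_cb, ← hn, cb, cb, conj_pow']
        have h6 : μ j.1 ρ = μ i.1 (cb (u * w) (a + 5 * b) ρ) := by
          rw [h5, (μ1 _).pow ((hw i.1).cbC _ ρA), h4, ← (μ1 _).pow ((hw i.1).cbC _ ρA), ← h5,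
            ← (hw i.1).cb_mod, show (b + 5 * b) % 6 = 0 by omega, cb_zero]
        refine Finset.mem_coe.2 (Finset.mem_image.2
          ⟨⟨(a + 5 * b) % 6, Nat.mod_lt _ (by norm_num)⟩, Finset.mem_univ _, ?_⟩)
        rw [(hw i.1).cb_mod, ← h6, μ3])
      have hc := Psi_cross (hw i.1) (hw j.1) (fun g hg h4 => h.ti hz hg fun h5 => h4 (μ2 _ _ h5))
        hne 1
      have Si := sys (hw i.1)
      have Sj := sys (hw j.1)
      have c1 : ∀ l, ci ((hw i.1).Psi 1 none 0) (θ l) = if l = 0 then 0 else 3 := fun l => by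
        rw [classInner_comm_of_isGen Si.gΘ (Si.gθ l), Si.θΘ]
      have c2 : ∀ l (a : Fin 3), ci ((hw i.1).Psi 1 (some 0) (2 * a)) (θ l) =
          if l = 0 then 0 else -1 := fun l a => by
        rw [classInner_comm_of_isGen (Si.gΘ' a) (Si.gθ l), Si.θΘ']
      have c3 := Sj.θΘ'
      rw [← SΔ, ← SΔ]
      simp only [classInner_sub_left, classInner_sub_right, classInner_add_left,
        classInner_add_right, hc, c1, c2, Sj.θΘ, Si.θθ] at c3 ⊢
      simp only [c3, Fin.sum_univ_six]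
      simp
      norm_num
    · have h1 := (Finset.mem_filter.1 hj).2
      have h2 := (Finset.mem_filter.1 hj').2
      obtain ⟨ξ, a⟩ := j
      obtain ⟨ξ', a'⟩ := j'
      obtain rfl : ξ = ξ' := Subtype.ext hjj
      by_contra h4
      have h5 := So ξ a a' fun h5 => h4 (by rw [h5])
      rcases sgn_eq_or (SD _ _).sgn (SD _ _).sgn h1 with h6 | h6 <;> rw [h6] at h2
      · exact h2 h5
      · exact h2 (by rw [classInner_neg_left, h5, neg_zero])
  · have h1 : ∀ ζ, ‖X ζ t‖ ^ 2 = (N : ℝ) ^ 2 := fun ζ => by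
      obtain ⟨a, h1, h2⟩ := Xt ζ
      rw [h1, Complex.norm_intCast, ← Int.cast_abs, h2, Int.cast_natCast]
    have h2 : c.q - 3 ≤ (s' \ {1, -1}).card := by
      have := Finset.le_card_sdiff ({1, -1} : Finset ℂ) s'
      have h3 : ({1, -1} : Finset ℂ).card ≤ 2 := Finset.card_le_two
      omega
    rw [hEs, Fintype.sum_prod_type, hH, hf]
    simp only [h1, Ss, Finset.sum_const, Finset.card_univ, Fintype.card_coe, hs3, nsmul_eq_mul]
    have r1 : (c.Q : ℝ) = -c.q := by exact_mod_cast q1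
    have r2 : (c.q : ℝ) = 2 * c.n + 1 := by exact_mod_cast q2
    have r3 : (c.q : ℝ) + 1 = 4 * c.m := by exact_mod_cast q3
    have r4 : (c.q : ℝ) - 3 ≤ (s' \ {1, -1}).card := by
      have : ((c.q - 3 : ℕ) : ℝ) ≤ (s' \ {1, -1}).card := by exact_mod_cast h2
      rwa [Nat.cast_sub (by omega)] at this
    have r5 : ((c.q : ℝ) + 1) ^ 2 ≤ (N : ℝ) ^ 2 :=
      pow_le_pow_left₀ (by positivity) (by exact_mod_cast hN3) 2
    have r6 : (3 : ℝ) ≤ c.q := by exact_mod_cast (by omega : 3 ≤ c.q)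
    have r7 := mul_le_mul r4 r5 (by positivity) (by positivity)
    rw [Nat.cast_sub (m_pos ok), r1]
    push_cast
    have r8 : (c.m : ℝ) = (c.q + 1) / 4 := by linear_combination -r3 / 4
    have r9 : (c.n : ℝ) = (c.q - 1) / 2 := by linear_combination -r2 / 2
    rw [r8, r9]
    linear_combination 3 * r7
  · rw [show (c.q : ℤ) ^ 3 + 1 = (c.q + 1) * (c.q ^ 2 - c.q + 1) by ring]
    exact hN.mul_left _
  · rw [q1, show (-c.q : ℤ) ^ 2 + -c.q + 1 = c.q ^ 2 - c.q + 1 by ring]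
    exact hN.mul_left _

end F1

end Cfsg.Agent.H21.Ree
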