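import Cfsg.Agent.H58.Q4K
import Cfsg.Agent.H86.RelSylow
import Cfsg.Agent.H9.BaerSuzuki

/-! Project Q4, piece RE: a real element of order three of the complement. -/

set_option autoImplicit false

namespace Cfsg.Agent.H21.Q4Re

open Subgroup Cfsg.Agent.H58.Q4 Cfsg.Agent.H86

universe u

theorem re (hF : FrStmt.{u}) (hC : CfStmt.{u}) (hO : OrdStmt.{u}) (hB : BlkStmt.{u}) :
    ReStmt.{u} := by
  intro G Ω _ _ _ _ K P hE F h4 T hT hT3 c hc hcK ho ⟨g, hg, hgc⟩
  have fr := hE.fr F h4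
  have : Fact (Nat.Prime 3) := ⟨Nat.prime_three⟩
  have pr : (orderOf c).Prime := ho ▸ Nat.prime_three
  have odd := (hB G Ω K P hE F h4).2.1
  have dv := (hF G _ _ fr).2.1 c hc hcK
  rw [ho] at dv
  have mf : orderOf c = ((K F).relIndex (St G F)).minFac := by
    have h1 := Nat.minFac_le_of_dvd (by norm_num) dv
    have h2 : ((K F).relIndex (St G F)).minFac.Prime := Nat.minFac_prime fun h => by
      rw [h] at dv; omega
    have h3 := h2.two_le
    have h5 : ((K F).relIndex (St G F)).minFac ≠ 2 := fun h =>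
      (Nat.not_even_iff_odd.2 odd) (even_iff_two_dvd.2 (h ▸ Nat.minFac_dvd _))
    omega
  obtain ⟨hl, h2, -, h6⟩ := hC G Ω K P hE F h4 c hc hcK pr
  have FΦ : F ⊆ F1 Ω c := fun x hx => mem_St.1 hc x hx
  obtain ⟨-, cp, -⟩ := h2 F FΦ h4
  have crd := hO G Ω _ _ hl.inv hl.tr F FΦ h4 T hT
  have nm : ∀ g : G, g * c * g⁻¹ ∈ zpowers c → g ∈ Nm (zpowers c) := fun g hg =>
    mem_Nm_of_finite fun _ ⟨i, hi⟩ => by
      rw [← hi, ← conj_zpow]; exact zpow_mem hg i
  have gN : g ∈ Nm (zpowers c) := nm g (hgc ▸ inv_mem (mem_zpowers c))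
  have gC : ¬ Commute g c := fun h => by
    rw [h.eq, mul_inv_cancel_right] at hgc
    have h7 : c ^ 2 = 1 := by rw [pow_two]; nth_rewrite 1 [hgc]; exact inv_mul_cancel c
    have := orderOf_dvd_of_pow_eq_one h7
    rw [ho] at this; omega
  have f6 : (F1 Ω c).ncard < 6 := by
    by_contra h
    exact gC (mem_Ce.1 (h6 mf (by omega) gN))
  have cen := cp.cen mf
  have cN : c ∈ Nm (zpowers c) := le_normalizer (mem_zpowers c)
  have CeN := Ce_le_Nm c
  have zg := cp.zg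
  have uq := cp.uniq
  have hcard := hl.card
  generalize Nm (zpowers c) = N at *
  have CD : N ⊓ St G F ≤ N ⊓ St G T := inf_le_inf_left _ (St_anti hT)
  have f5 : (F1 Ω c).ncard = 5 := by
    by_contra h
    rw [show (F1 Ω c).ncard = 4 by omega, hT3,
      show Nat.descFactorial (4 - 3) (4 - 3) = 1 from rfl, one_mul] at crd
    exact gC (cen g ((eq_of_le_of_card_ge CD crd.le).ge ⟨gN, hg⟩))
  rw [f5, hT3, show Nat.descFactorial (5 - 3) (4 - 3) = 2 from rfl] at crd
  have ix : ((N ⊓ St G F).subgroupOf (N ⊓ St G T)).index = 2 := by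
    have := ((N ⊓ St G F).subgroupOf (N ⊓ St G T)).index_mul_card
    rw [Nat.card_congr (subgroupOfEquivOfLe CD).toEquiv, crd] at this
    exact Nat.eq_of_mul_eq_mul_right Nat.card_pos this
  refine ⟨f5, le_antisymm (fun d hd => ?_) fun d hd => ⟨mem_Ce.2 (cen d hd), (CD hd).2⟩,
    fun U hU hU3 => ?_⟩
  · by_contra h
    have h7 := (mul_mem_iff_of_index_two ix (a := ⟨g, gN, hg⟩) (b := ⟨d, CeN hd.1, hd.2⟩)).2
      (iff_of_false (fun e => gC (cen g e)) h)
    have h8 := (cen _ h7).mul_left (mem_Ce.1 hd.1).inv_left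
    exact gC (by simpa using h8)
  obtain ⟨S, hS, hcS⟩ := exists_isSylowIn (p := 3) (zpowers_le.2 (CD ⟨cN, hc⟩).2)
    (H90.isPGroup_zpowers (k := 1) (by rw [pow_one, ← ho, pow_orderOf_eq_one]))
  have h7 : S ⊓ N ≤ N ⊓ St G F := fun x hx => by
    obtain ⟨n, hn⟩ := hS.isPGroup ⟨x, hx.1⟩
    have h8 : x ^ 3 ^ n = 1 := congrArg Subtype.val hn
    obtain ⟨m, hm⟩ : Odd (3 ^ n) := Odd.pow (by decide)
    have h9 : x ^ 2 ∈ N ⊓ St G F := sq_mem_of_index_two ix ⟨x, hx.2, hS.le hx.1⟩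
    rw [hm, pow_succ, pow_mul, mul_eq_one_iff_inv_eq] at h8
    exact h8 ▸ inv_mem (pow_mem h9 m)
  have h8 : S ≤ N := by
    by_contra h
    obtain ⟨x, hx, h9, h10⟩ := H9.exists_mem_normalizer_of_lt hS.isPGroup
      (lt_of_le_of_ne (inf_le_left (b := N)) fun e => h (e ▸ inf_le_right))
    exact h9 ⟨hx, nm x (uq _ (h7 (conj_mem_of_Nm h10 ⟨hcS (mem_zpowers c), cN⟩))
      (by rw [conj_pow, pow_orderOf_eq_one, mul_one, mul_inv_cancel]))⟩
  obtain ⟨y, -, h9⟩ := hS.exists_conj hU hU3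
  let φ : U →* ↥(N ⊓ St G F) :=
    { toFun := fun a => ⟨y * a * y⁻¹, h7 ⟨h9 a a.2, h8 (h9 a a.2)⟩⟩
      map_one' := Subtype.ext (by simp)
      map_mul' := fun a b => Subtype.ext (by simp) }
  have inj : Function.Injective φ := fun a b e => by
    have := congrArg Subtype.val e
    simpa [φ] using this
  have := (hU3.of_equiv (MonoidHom.ofInjective inj)).isCyclic_of_isZGroup
  exact isCyclic_of_injective (MonoidHom.ofInjective inj).toMonoidHom
    (MonoidHom.ofInjective inj).injective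

end Cfsg.Agent.H21.Q4Re
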