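import Mathlib
import Cfsg.Agent.H19.PowFixed
import Cfsg.Agent.H13.Brauer
import Cfsg.Agent.H29.PSL2Sub
import Cfsg.Agent.H53.GoldFree

/-!
# Real characters of even degree in groups without elements of order four
-/

set_option autoImplicit false

namespace Cfsg.Agent.H21

open Cfsg Cfsg.Agent.H19 Subgroup
open scoped ComplexConjugate MatrixGroups

universe u

section count

variable {G : Type*} [Group G]

open Classical in
/-- The characteristic function of the solutions of `g * g = 1`. -/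
noncomputable def sqInd (G : Type*) [Group G] : G → ℂ := fun g => if g * g = 1 then 1 else 0

theorem conj_mul_self_iff (a c : G) : c * a * c⁻¹ * (c * a * c⁻¹) = 1 ↔ a * a = 1 := by
  rw [conj_mul, conj_eq_one_iff]

theorem sqInd_class : IsClassFunction G (sqInd G) := fun a c => by
  classical
  exact if_congr (conj_mul_self_iff a c) rfl rfl

theorem sqInd_inv (a : G) : sqInd G a⁻¹ = sqInd G a := by
  classical
  exact if_congr (by rw [← mul_inv_rev, inv_eq_one]) rfl rfl

theorem mul_eq_inv_mul_of_sq {s y : G} (a : s * s = 1) (b : s * y * (s * y) = 1) :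
    s * y = y⁻¹ * s := by
  rw [eq_inv_of_mul_eq_one_left b, mul_inv_rev, ← eq_inv_of_mul_eq_one_left a]

theorem conj_eq_inv_of_sq {s y : G} (a : s * s = 1) (b : s * y * (s * y) = 1) :
    s * y * s⁻¹ = y⁻¹ := by
  rw [mul_eq_inv_mul_of_sq a b, mul_inv_cancel_right]

theorem sq_of_conj_eq_inv {s y : G} (a : s * s = 1) (b : s * y * s⁻¹ = y⁻¹) :
    s * y * (s * y) = 1 := by
  rw [← eq_inv_of_mul_eq_one_left a] at b
  rw [← mul_assoc, b, inv_mul_cancel]

variable [Finite G]

/-- The set of solutions of `s² = 1 = (s y)²` in `K` has odd size if no involution of `K`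
commutes with `y`. -/
theorem odd_ncard_inv {K : Subgroup G} {y s₀ : G} (h0 : s₀ ∈ K) (h1 : s₀ * s₀ = 1)
    (h2 : s₀ * y * (s₀ * y) = 1) (hK : ∀ k ∈ K, k * k = 1 → k * y = y * k → k = 1) :
    Odd {s | s ∈ K ∧ s * s = 1 ∧ s * y * (s * y) = 1}.ncard := by
  classical
  have := Fintype.ofFinite G
  let A : Finset G := Finset.univ.filter fun s => s ∈ K ∧ s * s = 1 ∧ s * y * (s * y) = 1
  have hA : {s | s ∈ K ∧ s * s = 1 ∧ s * y * (s * y) = 1} = (A : Set G) := by ext; simp [A]
  have hm : ∀ {s}, s ∈ A ↔ s ∈ K ∧ s * s = 1 ∧ s * y * (s * y) = 1 := by simp [A]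
  rw [hA, Set.ncard_coe_finset]
  have h0A : s₀ ∈ A := hm.2 ⟨h0, h1, h2⟩
  have c0 := conj_eq_inv_of_sq h1 h2
  have i0 : s₀⁻¹ = s₀ := (eq_inv_of_mul_eq_one_left h1).symm
  have he : Even (A.erase s₀).card := by
    have := Finset.sum_involution (s := A.erase s₀) (f := fun _ => (1 : ZMod 2))
      (fun s _ => s₀ * s * s₀⁻¹) (fun _ _ => by decide) (fun s hs _ h => ?_) (fun s hs => ?_)
      (fun s _ => ?_)
    · rwa [Finset.sum_const, nsmul_eq_mul, mul_one, ZMod.natCast_eq_zero_iff_even] at this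
    · obtain ⟨hne, hs⟩ := Finset.mem_erase.1 hs
      obtain ⟨a, b, c⟩ := hm.1 hs
      have h3 : s₀ * s = s * s₀ := by rw [← mul_inv_eq_iff_eq_mul, h]
      have c1 := conj_eq_inv_of_sq b c
      have h4 := hK (s * s₀) (mul_mem a h0) (by
        rw [mul_assoc, ← mul_assoc s₀, h3, mul_assoc, h1, mul_one, b]) (by
        rw [← mul_inv_eq_iff_eq_mul, mul_inv_rev]
        calc s * s₀ * y * (s₀⁻¹ * s⁻¹) = s * (s₀ * y * s₀⁻¹) * s⁻¹ := by group
          _ = (s * y * s⁻¹)⁻¹ := by rw [c0]; group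
          _ = y := by rw [c1, inv_inv])
      exact hne (by rw [eq_inv_of_mul_eq_one_left h4, i0])
    · obtain ⟨hne, hs⟩ := Finset.mem_erase.1 hs
      obtain ⟨a, b, c⟩ := hm.1 hs
      have c1 := conj_eq_inv_of_sq b c
      have b' := (conj_mul_self_iff s s₀).2 b
      refine Finset.mem_erase.2 ⟨fun h => hne ?_, hm.2 ⟨mul_mem (mul_mem h0 a) (inv_mem h0), b',
        sq_of_conj_eq_inv b' ?_⟩⟩
      · rw [mul_inv_eq_iff_eq_mul] at h
        exact mul_left_cancel h
      · calc s₀ * s * s₀⁻¹ * y * (s₀ * s * s₀⁻¹)⁻¹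
            = s₀ * (s * (s₀⁻¹ * y * s₀⁻¹⁻¹) * s⁻¹) * s₀⁻¹ := by group
          _ = s₀ * (s * y * s⁻¹)⁻¹ * s₀⁻¹ := by rw [i0, c0]; group
          _ = y⁻¹ := by rw [c1, inv_inv, c0]
    · show s₀ * (s₀ * s * s₀⁻¹) * s₀⁻¹ = s
      rw [← mul_assoc, ← mul_assoc, h1, one_mul, i0, mul_assoc, h1, mul_one]
  rw [← Finset.card_erase_add_one h0A]
  exact he.add_one

theorem odd_ncard_cent {K : Subgroup G} {y : G}
    (hK : ∀ k ∈ K, k * k = 1 → k * y = y * k → k = 1) :
    Odd {s | s ∈ K ∧ s ∈ centralizer ({y} : Set G)}.ncard := by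
  have h : {s | s ∈ K ∧ s ∈ centralizer ({y} : Set G)} = (K ⊓ centralizer ({y} : Set G) :
    Subgroup G) := rfl
  rw [h, ← Nat.card_coe_set_eq, ← Nat.not_even_iff_odd, even_iff_two_dvd]
  intro hd
  obtain ⟨k, hk⟩ := exists_prime_orderOf_dvd_card' (G := ↥(K ⊓ centralizer ({y} : Set G))) 2 hd
  have h1 : (k : G) * k = 1 := by
    rw [← sq, ← hk, ← coe_pow, pow_orderOf_eq_one, coe_one]
  have h2 := hK k k.2.1 h1 (mem_centralizer_singleton_iff.1 k.2.2)
  rw [show k = 1 from Subtype.ext h2, orderOf_one] at hk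
  omega

omit [Finite G] in
theorem ncard_eq_two_mul {t : G} {K C : Subgroup G} (ht : t * t = 1) (htK : t ∉ K)
    (hC : ∀ x ∈ C, x ∈ K ∨ t * x ∈ K) {A : Set G} (hf : A.Finite) (hA : A ⊆ C)
    (hm : ∀ a ∈ A, t * a ∈ A) : A.ncard = 2 * {s | s ∈ K ∧ s ∈ A}.ncard := by
  have h1 : A = {s | s ∈ K ∧ s ∈ A} ∪ (fun s => t * s) '' {s | s ∈ K ∧ s ∈ A} := by
    ext a
    refine ⟨fun ha => (hC a (hA ha)).elim (fun h => Or.inl ⟨h, ha⟩) fun h =>
      Or.inr ⟨t * a, ⟨h, hm a ha⟩, by simp only [← mul_assoc, ht, one_mul]⟩, ?_⟩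
    rintro (h | ⟨s, hs, rfl⟩)
    · exact h.2
    · exact hm s hs.2
  have h2 : {s | s ∈ K ∧ s ∈ A}.Finite := hf.subset fun _ h => h.2
  conv_lhs => rw [h1]
  rw [Set.ncard_union_eq _ h2 (h2.image _), Set.ncard_image_of_injective _ (mul_right_injective t),
    two_mul]
  rw [Set.disjoint_left]
  rintro _ h ⟨s, hs, rfl⟩
  exact htK ((K.mul_mem_cancel_right hs.1).1 h.1)

end count

section main

variable {G : Type u} [Group G] [Fintype G] {M : Ideal AlgInt}

theorem inner_sqInd_mem (hM : IsPModular 2 M) (hsq : ∀ (g : G) (k : ℕ), g ^ 2 ^ k = 1 → g * g = 1)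
    {χ : G → ℂ} (hχ : IsGeneralizedCharacter G χ) : classInner (sqInd G) χ ∈ Vr M := by
  classical
  obtain ⟨m, hm, h⟩ := H13.classInner_mem_of_restrict_p_elementary (G := G) Nat.prime_two
  have h1 := h (Vr M).toSubring.toAddSubgroup _ sqInd_class (fun E _ hE φ hφ => ?_) χ hχ
  · have h2 : val M (m : ℂ) = 1 := (val_intCast_eq_one_iff hM m).2 hm
    have h3 : (m : ℂ) ≠ 0 := fun h => by simp [h] at h2
    have h4 := div_mem_Vr (M := M) h1 h2
    rwa [mul_div_cancel_left₀ _ h3] at h4
  · have := H13.isNilpotent_of_isElementary Nat.prime_two hE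
    obtain ⟨Q⟩ : Nonempty (Sylow 2 E) := inferInstance
    have hQ : (Q : Subgroup E).Normal := inferInstance
    have hi : ¬ 2 ∣ (Q : Subgroup E).index := Q.not_dvd_index
    have hi0 : ((Q : Subgroup E).index : ℂ) ≠ 0 := Nat.cast_ne_zero.2 index_ne_zero_of_finite
    have h2 : (fun e : E => sqInd G e) =
        ((Q : Subgroup E).index : ℂ)⁻¹ • indFun (Q : Subgroup E) (fun _ => 1) := by
      funext e
      rw [Pi.smul_apply, smul_eq_mul]
      by_cases he : e ∈ (Q : Subgroup E)
      · have h3 := H14.indFun_normal_apply_of_invariant (Q : Subgroup E) (fun _ => (1 : ℂ))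
          (fun _ _ => rfl) ⟨e, he⟩
        simp only at h3
        obtain ⟨k, hk⟩ := Q.isPGroup' ⟨e, he⟩
        have h4 : (e : G) ^ 2 ^ k = 1 := congrArg (fun x : (Q : Subgroup E) => ((x : E) : G)) hk
        rw [h3, mul_one, inv_mul_cancel₀ hi0, sqInd, if_pos (hsq _ _ h4)]
      · rw [H14.indFun_normal_of_not_mem _ _ he, mul_zero, sqInd, if_neg]
        intro h3
        have h4 : IsPGroup 2 (zpowers e) := IsPGroup.of_card (n := if e = 1 then 0 else 1) (by
          rw [Nat.card_zpowers]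
          split_ifs with h5
          · simp [h5]
          · exact orderOf_eq_prime (p := 2) (Subtype.ext (by rw [sq]; exact h3)) h5)
        obtain ⟨R, hR⟩ := h4.exists_le_sylow
        have := Q.unique_of_normal hQ
        rw [Subsingleton.elim R Q] at hR
        exact he (hR (mem_zpowers e))
    obtain ⟨n, hn⟩ := H11.exists_int_classInner (H11.isGen_of_isCharacter
      (H14.IsCharacter.indFun (Q : Subgroup E) H11.isCharacter_one)) (H11.isGen_of_irr hφ)
    rw [h2, H11.classInner_smul_left, hn]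
    exact (Vr M).mul_mem _ _ (inv_natCast_mem_Vr hM hi) (intCast_mem_Vr n)

theorem inner_sqInd_eq {χ : G → ℂ} (hχ : IsCharacter G χ) :
    ∑ g, sqInd G g * χ g = Nat.card G * classInner (sqInd G) χ := by
  rw [H11.card_mul_classInner, ← Equiv.sum_comp (Equiv.inv G)]
  refine Finset.sum_congr rfl fun g _ => ?_
  rw [Equiv.inv_apply, sqInd_inv, H11.conj_apply_of_isGen (H11.isGen_of_isCharacter hχ)]

/-- The number of solutions of `s² = 1 = (s g)²`. -/
noncomputable def pairFun (g : G) : ℂ := ∑ s, sqInd G s * sqInd G (s * g)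

theorem pairFun_class : IsClassFunction G (pairFun (G := G)) := fun a c => by
  rw [pairFun, pairFun, ← Equiv.sum_comp (MulAut.conj c).toEquiv]
  refine Finset.sum_congr rfl fun s _ => ?_
  show sqInd G (c * s * c⁻¹) * sqInd G (c * s * c⁻¹ * (c * a * c⁻¹)) = _
  rw [conj_mul, sqInd_class, sqInd_class]

theorem pairFun_eq (g : G) :
    pairFun g = ({s | s * s = 1 ∧ s * g * (s * g) = 1}.ncard : ℂ) := by
  classical
  have h : {s | s * s = 1 ∧ s * g * (s * g) = 1} =
      (Finset.univ.filter fun s => s * s = 1 ∧ s * g * (s * g) = 1 : Finset G) := by ext; simp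
  rw [h, Set.ncard_coe_finset, Finset.card_filter, pairFun]
  push_cast
  refine Finset.sum_congr rfl fun s _ => ?_
  simp only [sqInd]
  by_cases h1 : s * s = 1 <;> by_cases h2 : s * g * (s * g) = 1 <;> simp [h1, h2]

theorem inner_pairFun (χ : IrrCharacter G) :
    classInner pairFun χ.1 = Nat.card G * classInner (sqInd G) χ.1 ^ 2 / χ.1 1 := by
  have hc := H11.irr_isCharacter χ
  have h0 : (Nat.card G : ℂ) ≠ 0 := H11.card_ne_zero G
  have h1 : ∑ g, pairFun g * conj (χ.1 g) = ∑ s, sqInd G s * ∑ t, sqInd G t * χ.1 (t * s) := by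
    simp only [pairFun, Finset.sum_mul, Finset.mul_sum]
    rw [Finset.sum_comm]
    refine Finset.sum_congr rfl fun s _ => ?_
    rw [← Equiv.sum_comp ((Equiv.inv G).trans (Equiv.mulLeft s⁻¹))]
    refine Finset.sum_congr rfl fun t _ => ?_
    simp only [Equiv.trans_apply, Equiv.inv_apply, Equiv.coe_mulLeft, mul_inv_cancel_left,
      sqInd_inv, H11.conj_apply_of_isGen (H11.isGen_of_isCharacter hc), mul_inv_rev, inv_inv,
      mul_assoc]
  rw [H11.classInner_def, h1]
  simp only [H11.sum_classFun_mul_irr_mul χ.2 sqInd_class, mul_left_comm (sqInd G _),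
    ← Finset.mul_sum, inner_sqInd_eq hc]
  field_simp

/-- A real character of even degree from a count of involutions inverting `y`. -/
theorem exists_real_even (hM : IsPModular 2 M)
    (hsq : ∀ (g : G) (k : ℕ), g ^ 2 ^ k = 1 → g * g = 1) {y : G} (hy : IsConj y y⁻¹)
    (hi : 2 ∣ (centralizer ({y} : Set G)).index) {a c d : ℕ} (ha : Odd a) (hc : Odd c)
    (h1 : {s | s * s = 1 ∧ s * y * (s * y) = 1}.ncard = d * a)
    (h2 : Nat.card (centralizer ({y} : Set G)) = d * c) :
    ∃ χ : IrrCharacter G, Even (charDegree χ.1) ∧ ∀ g, χ.1 g⁻¹ = χ.1 g := by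
  classical
  by_contra hno
  push Not at hno
  let _ : Fintype (IrrCharacter G) := Fintype.ofFinite _
  have := charP_kk hM
  have hd : (d : ℂ) ≠ 0 := fun h => by
    have h3 := Nat.card_pos (α := centralizer ({y} : Set G))
    rw [h2, Nat.cast_eq_zero.1 h] at h3
    simp at h3
  have hc0 : (c : ℂ) ≠ 0 := Nat.cast_ne_zero.2 hc.pos.ne'
  let F : IrrCharacter G → ℂ := fun χ => classInner (sqInd G) χ.1 ^ 2 * centralChar χ.1 y
  have hF : ∀ χ, F χ ∈ Vr M := fun χ =>
    mul_mem (pow_mem (inner_sqInd_mem hM hsq (H11.isGen_of_irr χ.2)) 2) (centralChar_mem_Vr χ y)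
  have h3 : (a : ℂ) = c * ∑ χ, F χ := by
    have h4 := H11.classFun_apply_eq_sum (pairFun_class (G := G)) y
    rw [pairFun_eq, h1] at h4
    apply mul_left_cancel₀ hd
    rw [← Nat.cast_mul, h4, ← mul_assoc, ← Nat.cast_mul, ← h2, Finset.mul_sum]
    refine Finset.sum_congr rfl fun χ _ => ?_
    rw [inner_pairFun, ← (centralizer ({y} : Set G)).card_mul_index]
    simp only [F, centralChar]
    push_cast; ring
  have h4 : ∑ χ, red M (F χ) = 0 := by
    refine Finset.sum_involution (fun χ _ => galIrr conjEquiv χ) (fun χ _ => ?_)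
      (fun χ _ h5 h6 => h5 ?_) (fun _ _ => Finset.mem_univ _)
      (fun χ _ => galIrr_conjEquiv_conjEquiv χ)
    · have h5 : F (galIrr conjEquiv χ) = F χ := by
        have h6 : classInner (sqInd G) (galIrr conjEquiv χ).1 = classInner (sqInd G) χ.1 := by
          apply mul_left_cancel₀ (H11.card_ne_zero G)
          rw [← inner_sqInd_eq (H11.irr_isCharacter _), ← inner_sqInd_eq (H11.irr_isCharacter _),
            ← Equiv.sum_comp (Equiv.inv G)]
          refine Finset.sum_congr rfl fun g _ => ?_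
          rw [Equiv.inv_apply, sqInd_inv, galIrr_conjEquiv_apply, inv_inv]
        simp only [F, h6, centralChar, galIrr_conjEquiv_apply, inv_one,
          ← H11.classFun_of_isConj (H11.isClassFunction_of_irr χ.2) hy]
      rw [h5, CharTwo.add_self_eq_zero]
    · have h7 : ∀ g, χ.1 g⁻¹ = χ.1 g := fun g => by rw [← galIrr_conjEquiv_apply, h6]
      have h8 : ¬ 2 ∣ charDegree χ.1 := fun h => by
        obtain ⟨g, hg⟩ := hno χ (even_iff_two_dvd.2 h)
        exact hg (h7 g)
      simp only [F]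
      rw [red_mul (pow_mem (inner_sqInd_mem hM hsq (H11.isGen_of_irr χ.2)) 2)
        (centralChar_mem_Vr χ y), red_centralChar_eq hM (H11.irr_isCharacter χ) h8,
        (CharP.cast_eq_zero_iff (kk M) 2 _).2 hi]
      simp
  have h5 := congrArg (red M) h3
  rw [red_mul (natCast_mem_Vr c) (sum_mem fun χ _ => hF χ), red_sum fun χ _ => hF χ, h4, mul_zero,
    red_natCast, CharP.cast_eq_zero_iff (kk M) 2] at h5
  exact ha.not_two_dvd_nat h5

/-- The principal `2`-block of a group of even order has a nontrivial real character. -/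
theorem exists_real_principal (hM : IsPModular 2 M) (h2 : 2 ∣ Nat.card G) :
    ∃ χ ∈ principalBlock M G, χ.1 ≠ (fun _ => 1) ∧ ∀ g, χ.1 g⁻¹ = χ.1 g := by
  classical
  by_contra hno
  push Not at hno
  let _ : Fintype (IrrCharacter G) := Fintype.ofFinite _
  have := charP_kk hM
  have h1 := sum_red_degree_sq hM isPBlock_principalBlock h2
  have h3 : oneIrr G ∈ Finset.univ.filter (· ∈ principalBlock M G) :=
    Finset.mem_filter.2 ⟨Finset.mem_univ _, oneIrr_mem_principalBlock hM.2.1⟩
  rw [← Finset.add_sum_erase _ _ h3, oneIrr_coe, charDegree_const_one,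
    Finset.sum_involution (fun χ _ => galIrr conjEquiv χ) (fun χ _ => ?_)
      (fun χ hχ _ h6 => ?_) (fun χ hχ => ?_) (fun χ _ => galIrr_conjEquiv_conjEquiv χ)] at h1
  · simp at h1
  · rw [charDegree_galIrr, CharTwo.add_self_eq_zero]
  · obtain ⟨h4, h5⟩ := Finset.mem_erase.1 hχ
    obtain ⟨g, hg⟩ := hno χ (Finset.mem_filter.1 h5).2 fun h => h4 (Subtype.ext h)
    exact hg (by rw [← galIrr_conjEquiv_apply, h6])
  · obtain ⟨h4, h5⟩ := Finset.mem_erase.1 hχ
    refine Finset.mem_erase.2 ⟨fun h => h4 ?_, Finset.mem_filter.2 ⟨Finset.mem_univ _,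
      (galIrr_mem_principalBlock_iff _).2 (Finset.mem_filter.1 h5).2⟩⟩
    rw [← galIrr_conjEquiv_conjEquiv χ, h, galIrr_oneIrr]

end main

section psl

variable {F : Type*} [Field F]

theorem psl_mk_eq_iff (g h : SL(2, F)) : (g : PSL(2, F)) = h ↔ g = h ∨ g = -h := by
  rw [← H29.slp_eq_slp_iff, ← H29.pslp_mk, ← H29.pslp_mk, H29.pslp_injective.eq_iff]

/-- `L₂(q)` has a strongly real element centralized by no involution. -/
theorem exists_real_odd_psl [Fintype F] (hq : 3 < Fintype.card F) :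
    ∃ x s : PSL(2, F), s * s = 1 ∧ s * x * (s * x) = 1 ∧
      ∀ k : PSL(2, F), k * k = 1 → k * x = x * k → k = 1 := by
  classical
  have hmk : ∀ g h : SL(2, F), (g : PSL(2, F)) * h = ((g * h : SL(2, F)) : PSL(2, F)) :=
    fun _ _ => rfl
  have hone : (1 : PSL(2, F)) = ((1 : SL(2, F)) : PSL(2, F)) := rfl
  by_cases h : ∀ b : F, b * b = -1 → b * b = 1
  · obtain ⟨a, ha⟩ : ∃ a : F, a ∉ ({0, 1, -1} : Finset F) := by
      by_contra h1
      push Not at h1
      have := (Finset.card_le_card (fun a _ => h1 a : Finset.univ ⊆ _)).trans Finset.card_le_three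
      rw [Finset.card_univ] at this
      omega
    simp only [Finset.mem_insert, Finset.mem_singleton, not_or] at ha
    have a1 : a * a ≠ 1 := fun h1 => by
      rcases mul_self_eq_one_iff.1 h1 with h2 | h2
      exacts [ha.2.1 h2, ha.2.2 h2]
    have a2 : a * a ≠ -1 := fun h1 => a1 (h a h1)
    have a0 := ha.1
    obtain ⟨X, hX⟩ : ∃ X : SL(2, F), X.1 = !![a, 0; 0, a⁻¹] :=
      ⟨⟨_, by simp [Matrix.det_fin_two, a0]⟩, rfl⟩
    obtain ⟨W, hW⟩ : ∃ W : SL(2, F), W.1 = !![0, 1; -1, 0] :=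
      ⟨⟨_, by simp [Matrix.det_fin_two]⟩, rfl⟩
    refine ⟨(X : PSL(2, F)), (W : PSL(2, F)), ?_, ?_, ?_⟩
    · rw [hmk, hone, psl_mk_eq_iff]
      right; ext i j; fin_cases i <;> fin_cases j <;> simp [hW]
    · rw [hmk, hmk, hone, psl_mk_eq_iff]
      right; ext i j; fin_cases i <;> fin_cases j <;> simp [a0, hW, hX]
    · intro k h1 h2
      obtain ⟨g, rfl⟩ := QuotientGroup.mk_surjective k
      have hd := H29.SL2_det g
      rw [hmk, hone, psl_mk_eq_iff] at h1
      rw [hmk, hmk, psl_mk_eq_iff] at h2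
      have h3 : g 0 1 = 0 ∧ g 1 0 = 0 := by
        rcases h2 with h2 | h2
        · have e1 := congrArg (fun m : SL(2, F) => m 0 1) h2
          have e2 := congrArg (fun m : SL(2, F) => m 1 0) h2
          simp [Matrix.mul_apply, Fin.sum_univ_two, hX] at e1 e2
          field_simp at e1 e2
          constructor <;> by_contra h4 <;> apply a1
          · exact mul_left_cancel₀ h4 (by linear_combination -e1)
          · exact mul_left_cancel₀ h4 (by linear_combination e2)
        · have e1 := congrArg (fun m : SL(2, F) => m 0 1) h2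
          have e2 := congrArg (fun m : SL(2, F) => m 1 0) h2
          simp [Matrix.mul_apply, Fin.sum_univ_two, hX, Matrix.vecMul, dotProduct] at e1 e2
          field_simp at e1 e2
          constructor <;> by_contra h4 <;> apply a2
          · exact mul_left_cancel₀ h4 (by linear_combination e1)
          · exact mul_left_cancel₀ h4 (by linear_combination e2)
      have h4 : g 0 0 * g 0 0 = 1 := by
        rcases h1 with h1 | h1
        · have e1 := congrArg (fun m : SL(2, F) => m 0 0) h1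
          simpa [Matrix.mul_apply, Fin.sum_univ_two, h3.1] using e1
        · have e1 := congrArg (fun m : SL(2, F) => m 0 0) h1
          exact h _ (by simpa [Matrix.mul_apply, Fin.sum_univ_two, h3.1] using e1)
      rw [h3.1, zero_mul, sub_zero] at hd
      rw [hone, psl_mk_eq_iff]
      rcases mul_self_eq_one_iff.1 h4 with h5 | h5 <;> rw [h5] at hd
      · left; ext i j; fin_cases i <;> fin_cases j <;> simp [h3.1, h3.2, h5]
        linear_combination hd
      · right; ext i j; fin_cases i <;> fin_cases j <;> simp [h3.1, h3.2, h5]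
        linear_combination -hd
  · push Not at h
    obtain ⟨b, hb, hb'⟩ := h
    have h2 : (2 : F) ≠ 0 := fun h => hb' (by linear_combination hb - h)
    obtain ⟨X, hX⟩ : ∃ X : SL(2, F), X.1 = !![1, 1; 0, 1] :=
      ⟨⟨_, by simp [Matrix.det_fin_two]⟩, rfl⟩
    obtain ⟨W, hW⟩ : ∃ W : SL(2, F), W.1 = !![b, 0; 0, -b] :=
      ⟨⟨_, by simp [Matrix.det_fin_two, hb]⟩, rfl⟩
    refine ⟨(X : PSL(2, F)), (W : PSL(2, F)), ?_, ?_, ?_⟩
    · rw [hmk, hone, psl_mk_eq_iff]
      right; ext i j; fin_cases i <;> fin_cases j <;> simp [hb, hW]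
    · rw [hmk, hmk, hone, psl_mk_eq_iff]
      right; ext i j; fin_cases i <;> fin_cases j <;> simp [hb, hW, hX]
    · intro k h1 h3
      obtain ⟨g, rfl⟩ := QuotientGroup.mk_surjective k
      have hd := H29.SL2_det g
      rw [hmk, hone, psl_mk_eq_iff] at h1
      rw [hmk, hmk, psl_mk_eq_iff] at h3
      have h4 : g 1 0 = 0 ∧ g 0 0 = g 1 1 := by
        rcases h3 with h3 | h3
        · have e1 := congrArg (fun m : SL(2, F) => m 0 0) h3
          have e2 := congrArg (fun m : SL(2, F) => m 0 1) h3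
          simp [Matrix.mul_apply, Fin.sum_univ_two, hX] at e1 e2
          exact ⟨e1, by linear_combination e2⟩
        · exfalso
          have e1 := congrArg (fun m : SL(2, F) => m 0 0) h3
          have e2 := congrArg (fun m : SL(2, F) => m 1 0) h3
          simp [Matrix.mul_apply, Fin.sum_univ_two, hX, Matrix.vecMul, dotProduct] at e1 e2
          have e3 : g 1 0 = 0 := mul_left_cancel₀ h2 (by linear_combination e2)
          have e4 : g 0 0 = 0 := mul_left_cancel₀ h2 (by linear_combination e1 - e3)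
          simp [e3, e4] at hd
      rw [h4.1, mul_zero, sub_zero, ← h4.2] at hd
      have h5 : g 0 1 = 0 := by
        have h6 : g 0 0 * g 0 1 + g 0 1 * g 1 1 = 0 := by
          rcases h1 with h1 | h1 <;>
          · have e1 := congrArg (fun m : SL(2, F) => m 0 1) h1
            simpa [Matrix.mul_apply, Fin.sum_univ_two] using e1
        rw [← h4.2] at h6
        exact mul_left_cancel₀ h2 (by linear_combination g 0 0 * h6 - 2 * g 0 1 * hd)
      rw [hone, psl_mk_eq_iff]
      rcases mul_self_eq_one_iff.1 hd with h6 | h6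
      · left; ext i j; fin_cases i <;> fin_cases j <;> simp [h4.1, ← h4.2, h5, h6]
      · right; ext i j; fin_cases i <;> fin_cases j <;> simp [h4.1, ← h4.2, h5, h6]

end psl

section final

variable {G : Type u} [Group G] [Finite G] {M : Ideal AlgInt}

/-- `K` contains a strongly real element centralized by no involution of `K`. -/
def RealOddIn {G : Type*} [Group G] (K : Subgroup G) : Prop :=
  ∃ x ∈ K, ∃ s ∈ K, s * s = 1 ∧ s * x * (s * x) = 1 ∧ ∀ k ∈ K, k * k = 1 → k * x = x * k → k = 1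

omit [Finite G] in
theorem realOddIn_of_psl {K : Subgroup G} {F : Type*} [Field F] [Fintype F]
    (hq : 3 < Fintype.card F) (e : K ≃* PSL(2, F)) : RealOddIn K := by
  obtain ⟨x, s, h1, h2, h3⟩ := exists_real_odd_psl hq
  refine ⟨e.symm x, (e.symm x).2, e.symm s, (e.symm s).2, ?_, ?_, fun k hk a b => ?_⟩
  · rw [← coe_mul, ← map_mul, h1, map_one, coe_one]
  · rw [← coe_mul, ← coe_mul, ← map_mul, ← map_mul, h2, map_one, coe_one]
  · have h4 := h3 (e ⟨k, hk⟩) (by rw [← map_mul, ← e.map_one]; congr 1; exact Subtype.ext a) (by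
      rw [← e.apply_symm_apply x, ← map_mul, ← map_mul]; congr 1; exact Subtype.ext b)
    exact congrArg Subtype.val ((map_eq_one_iff e e.injective).1 h4)

theorem exists_real_even_of_top (hM : IsPModular 2 M)
    (hsq : ∀ (g : G) (k : ℕ), g ^ 2 ^ k = 1 → g * g = 1) (h2 : 2 ∣ Nat.card G)
    (h : RealOddIn (⊤ : Subgroup G)) :
    ∃ χ : IrrCharacter G, Even (charDegree χ.1) ∧ ∀ g, χ.1 g⁻¹ = χ.1 g := by
  have := Fintype.ofFinite G
  obtain ⟨x, -, s, -, h1, h3, h4⟩ := h
  have a := odd_ncard_inv (mem_top s) h1 h3 h4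
  have c := odd_ncard_cent h4
  simp only [mem_top, true_and] at a c
  have c' : Odd (Nat.card (centralizer ({x} : Set G))) := c
  refine exists_real_even hM hsq (isConj_iff.2 ⟨s, conj_eq_inv_of_sq h1 h3⟩) ?_ a c' (d := 1)
    (one_mul _).symm (one_mul _).symm
  rw [← (centralizer ({x} : Set G)).card_mul_index] at h2
  exact (Nat.prime_two.dvd_mul.1 h2).resolve_left c'.not_two_dvd_nat

theorem exists_real_even_of_dp (hM : IsPModular 2 M)
    (hsq : ∀ (g : G) (k : ℕ), g ^ 2 ^ k = 1 → g * g = 1) (h4 : 4 ∣ Nat.card G) {t : G}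
    {K : Subgroup G} (ht : orderOf t = 2)
    (hd : IsInternalDirectProduct (zpowers t) K (centralizer ({t} : Set G))) (h : RealOddIn K) :
    ∃ χ : IrrCharacter G, Even (charDegree χ.1) ∧ ∀ g, χ.1 g⁻¹ = χ.1 g := by
  have := Fintype.ofFinite G
  obtain ⟨x, hx, s, hs, h1, h3, h5⟩ := h
  have tt : t * t = 1 := by rw [← sq, ← ht, pow_orderOf_eq_one]
  have t1 : t ≠ 1 := fun h => by simp [h] at ht
  have tc : ∀ k ∈ K, Commute t k := fun k hk => hd.2.2.1 t (mem_zpowers t) k hk
  have tK : t ∉ K := fun h => t1 (mem_bot.1 (hd.2.2.2.1 ▸ (⟨mem_zpowers t, h⟩ : t ∈ zpowers t ⊓ K)))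
  have hC : ∀ c ∈ centralizer ({t} : Set G), c ∈ K ∨ t * c ∈ K := fun c hc =>
    H53.mem_or_of_dp ht hd hc
  have ti : t⁻¹ = t := (eq_inv_of_mul_eq_one_left tt).symm
  have h5' : ∀ k ∈ K, k * k = 1 → k * (t * x) = t * x * k → k = 1 := fun k hk a b =>
    h5 k hk a (mul_left_cancel (a := t) (by rw [← mul_assoc, (tc k hk).eq, mul_assoc, b, mul_assoc]))
  have c1 : s * (t * x) * s⁻¹ = (t * x)⁻¹ := by
    rw [← mul_assoc, ← (tc s hs).eq, mul_assoc t, mul_assoc t, conj_eq_inv_of_sq h1 h3,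
      (tc x hx).eq, mul_inv_rev, ti]
  have a := odd_ncard_inv hs h1 (sq_of_conj_eq_inv h1 c1) h5'
  have c := odd_ncard_cent h5'
  have ox : Odd (orderOf x) := by
    rw [← Nat.not_even_iff_odd]
    rintro ⟨n, hn⟩
    have h6 := h5 (x ^ n) (pow_mem hx n) (by rw [← pow_add, ← hn, pow_orderOf_eq_one])
      ((Commute.refl x).pow_left n).eq
    have h7 := orderOf_pos x
    have h8 := Nat.le_of_dvd (by omega) (orderOf_dvd_of_pow_eq_one h6)
    omega
  have tz : (t * x) ^ orderOf x = t := by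
    obtain ⟨n, hn⟩ := ox
    rw [(tc x hx).mul_pow, pow_orderOf_eq_one, mul_one, hn, pow_succ, pow_mul, sq, tt, one_pow,
      one_mul]
  have ty : Commute t (t * x) := (Commute.refl t).mul_right (tc x hx)
  have c' : Nat.card (centralizer ({t * x} : Set G)) =
      2 * {s | s ∈ K ∧ s ∈ centralizer ({t * x} : Set G)}.ncard :=
    ncard_eq_two_mul tt tK hC (A := centralizer ({t * x} : Set G)) (Set.toFinite _)
      (fun g hg => mem_centralizer_singleton_iff.2 (by
        rw [← tz]
        exact (Commute.pow_right (mem_centralizer_singleton_iff.1 hg) _).eq))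
      fun g hg => mul_mem (mem_centralizer_singleton_iff.2 ty.eq) hg
  have hA : ∀ g, g * g = 1 → g * (t * x) * (g * (t * x)) = 1 → Commute t g := fun g b d => by
    have h6 := congrArg (· ^ orderOf x) (conj_eq_inv_of_sq b d)
    simp only [conj_pow, inv_pow, tz, ti] at h6
    exact (mul_inv_eq_iff_eq_mul.1 h6).symm
  refine exists_real_even hM hsq (isConj_iff.2 ⟨s, c1⟩) ?_ a c (d := 2) ?_ c'
  · rw [← (centralizer ({t * x} : Set G)).card_mul_index, c', mul_assoc] at h4
    have h6 : 2 ∣ _ := Nat.dvd_of_mul_dvd_mul_left (k := 2) (by norm_num) h4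
    exact (Nat.prime_two.dvd_mul.1 h6).resolve_left c.not_two_dvd_nat
  · refine ncard_eq_two_mul tt tK hC (Set.toFinite _)
      (fun g hg => mem_centralizer_singleton_iff.2 (hA g hg.1 hg.2).eq.symm) fun g hg => ?_
    have h6 := hA g hg.1 hg.2
    have h7 : t * g * (t * g) = 1 := by rw [h6.symm.mul_mul_mul_comm, tt, hg.1, mul_one]
    refine ⟨h7, sq_of_conj_eq_inv h7 ?_⟩
    calc t * g * (t * x) * (t * g)⁻¹ = t * (g * (t * x) * g⁻¹) * t⁻¹ := by group
      _ = (t * x)⁻¹ := by rw [conj_eq_inv_of_sq hg.1 hg.2, ty.inv_right.eq, mul_inv_cancel_right]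

end final

end Cfsg.Agent.H21
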