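import Cfsg.Agent.H46.J2Defs
import Cfsg.Agent.H46.THat1
import Cfsg.Agent.H86.S94Sp

/-! The group of order 64 in the centraliser of `A₄`. -/

set_option autoImplicit false
open scoped Pointwise commutatorElement
open Subgroup

namespace Cfsg.Agent.H21.S94Hp
open Cfsg.Agent.H46.S94

universe u

local notation "C[" A "]" => Subgroup.centralizer (SetLike.coe A)
local notation "N[" A "]" => Subgroup.normalizer (SetLike.coe A)

section amb
variable {G : Type u} [Group G]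

theorem norm_sub {H K : Subgroup G} {g : H} (hg : (g : G) ∈ N[K]) : g ∈ N[K.subgroupOf H] :=
  le_normalizer_comap H.subtype hg

theorem norm_map {H : Subgroup G} {K : Subgroup H} {g : H} (hg : g ∈ N[K]) :
    (g : G) ∈ N[K.map H.subtype] := le_normalizer_map H.subtype ⟨g, hg, rfl⟩

theorem card_sub {H K : Subgroup G} (h : K ≤ H) : Nat.card (K.subgroupOf H) = Nat.card K :=
  Nat.card_congr (subgroupOfEquivOfLe h).toEquiv

/-- the pieces `P5a`, `Sp`, `PU` inside a subgroup `H` -/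
theorem amb (p5 : P5aStmt.{u}) (sp : SpStmt.{u}) (pu : PUStmt.{u}) [Finite G] (H : Subgroup G)
    {t σ ζ : G} {Λ O Z D : Subgroup G} (ht : t ∈ H) (hΛ : Λ ≤ H) (hO : O ≤ H) (hD : D ≤ H)
    (tt : t * t = 1) (t1 : t ≠ 1) (iso : Nonempty (Λ ≃* alternatingGroup (Fin 5)))
    (Lt : ∀ l ∈ Λ, l * t = t * l) (Ot : ∀ o ∈ O, o * t = t * o) (odd : Odd (Nat.card O))
    (OC : O ≤ C[Λ])
    (cen : ∀ c ∈ H, c * t = t * c → ∃ l ∈ Λ, ∃ o ∈ O, c = l * o ∨ c = l * t * o)
    (ZL : Z ≤ Λ) (cZ : Nat.card Z = 4) (sL : σ ∈ Λ) (so : orderOf σ = 3) (sZ : σ ∈ N[Z])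
    (d4 : D4 t σ Z D) (hζ : ζ ∈ D) (oζ : orderOf ζ = 4)
    (hr : ∀ r ∈ H, r ∈ C[Z] → r * r ∈ Z → r * t * r⁻¹ = ζ * t → r * r ∈ zpowers (ζ * ζ)) :
    ∃ P ≤ H, IV t σ Z P ∧ Sp Z P ∧ L34 P ∧ D ≤ P := by
  have hZ : Z ≤ H := ZL.trans hΛ
  let t' : H := ⟨t, ht⟩
  let σ' : H := ⟨σ, hΛ sL⟩
  have a5 : A5C t' σ' (Λ.subgroupOf H) (O.subgroupOf H) (Z.subgroupOf H) :=
    { tt := Subtype.ext tt
      t1 := fun e => t1 (congrArg Subtype.val e)
      iso := iso.map (subgroupOfEquivOfLe hΛ).trans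
      Lt := fun l hl => Subtype.ext (Lt l hl)
      Ot := fun o ho => Subtype.ext (Ot o ho)
      odd := by rwa [card_sub hO]
      OC := fun o ho l hl => Subtype.ext (OC ho l hl)
      cen := fun c hc => by
        obtain ⟨l, hl, o, ho, e⟩ := cen c c.2 (congrArg Subtype.val hc)
        exact ⟨⟨l, hΛ hl⟩, hl, ⟨o, hO ho⟩, ho, e.imp Subtype.ext Subtype.ext⟩
      ZL := fun x hx => ZL hx
      cZ := by rwa [card_sub hZ]
      sL := sL
      so := by rw [← orderOf_coe]; exact so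
      sZ := norm_sub sZ }
  obtain ⟨d, hd, od⟩ := d4.four
  have ti : t⁻¹ = t := inv_eq_of_mul_eq_one_right tt
  have d4' : D4 t' σ' (Z.subgroupOf H) (D.subgroupOf H) :=
    { ab := fun x hx y hy => Subtype.ext (d4.ab x hx y hy)
      card := by rw [card_sub hD, d4.card]
      ZD := fun x hx => d4.ZD hx
      inv := fun x hx => Subtype.ext (d4.inv x hx)
      sN := norm_sub d4.sN
      four := ⟨⟨d, hD hd⟩, hd, by rw [← orderOf_coe]; exact od⟩ }
  have iv : IV t' σ' (Z.subgroupOf H) (D.subgroupOf H) :=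
    { two := IsPGroup.of_card (n := 4) d4'.card
      ZP := d4'.ZD
      tN := norm_sub (mem_normalizer_fintype fun x hx => by
        rw [ti, d4.inv x hx]; exact inv_mem hx)
      sN := d4'.sN
      tP := fun h => by
        have e := d4.inv d hd
        rw [d4.ab t h d hd, mul_assoc, tt, mul_one] at e
        have : orderOf d ∣ 2 := orderOf_dvd_of_pow_eq_one (by
          rw [sq]; exact mul_eq_one_iff_eq_inv.2 e)
        rw [od] at this
        exact absurd this (by decide) }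
  obtain ⟨P, DP, ivP, ty⟩ := p5 H t' σ' _ _ _ _ a5 iv d4'.four
  have spP := sp H t' σ' _ _ _ P a5 ivP ty
  have mm : ∀ x : H, (x : G) ∈ P.map H.subtype ↔ x ∈ P := fun x =>
    mem_map_iff_mem (f := H.subtype) H.subtype_injective
  rcases ty with ty | ty
  · refine ⟨P.map H.subtype, map_subtype_le _, ⟨ivP.two.map _, fun x hx => ?_, norm_map ivP.tN,
      norm_map ivP.sN, fun h => ivP.tP ((mm t').1 h)⟩, ⟨?_, ?_, ?_, ?_⟩, ?_, fun x hx => ?_⟩
    · exact (mm ⟨x, hZ hx⟩).2 (ivP.ZP hx)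
    · rw [card_map_of_injective H.subtype_injective, spP.card]
    · rintro x hx _ ⟨p, hp, rfl⟩
      exact congrArg Subtype.val (spP.ZC (x := ⟨x, hZ hx⟩) hx p hp)
    · rintro _ ⟨⟨x, hx, rfl⟩, hc⟩
      exact spP.cZ ⟨hx, fun p hp => Subtype.ext (hc p ⟨p, hp, rfl⟩)⟩
    · rintro _ ⟨x, hx, rfl⟩
      exact spP.sq x hx
    · obtain ⟨F, i1, i2, h4, S, ⟨e⟩⟩ := ty
      exact ⟨F, i1, i2, h4, S, ⟨(P.equivMapOfInjective _ H.subtype_injective).symm.trans e⟩⟩
    · exact (mm ⟨x, hD hx⟩).2 (DP hx)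
  · exfalso
    refine pu H t' σ' ⟨ζ, hD hζ⟩ _ _ _ _ P a5 ivP spP ty d4' DP hζ
      (by rw [← orderOf_coe]; exact oζ) fun r hrP e => ?_
    obtain ⟨k, hk⟩ := hr r r.2
      (fun x hx => (congrArg Subtype.val (spP.ZC (x := ⟨x, hZ hx⟩) hx r hrP)).symm)
      (spP.sq r hrP) (congrArg Subtype.val e)
    exact ⟨k, Subtype.ext hk⟩

end amb

section facts
variable {Γ : Type} [Group Γ] {z y σ τ : Γ} {E Λ : Subgroup Γ}

theorem split (jf : JF z y σ τ E Λ) {c : Γ} (hc : c ∈ E ⊔ Λ) : ∃ e ∈ E, ∃ l ∈ Λ, c = e * l := by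
  have := coe_mul_of_left_le_normalizer_right E Λ (jf.EC.trans (centralizer_le_normalizer _))
  have h : c ∈ ((E ⊔ Λ : Subgroup Γ) : Set Γ) := hc
  rw [this] at h
  obtain ⟨e, he, l, hl, rfl⟩ := h
  exact ⟨e, he, l, hl, rfl⟩

theorem exists_ne (jf : JF z y σ τ E Λ) (e : Γ) : ∃ b ∈ E, b ≠ 1 ∧ b ≠ e := by
  by_contra h
  push Not at h
  have h1 : (E : Set Γ) ⊆ {1, e} := fun b hb => by
    by_cases e1 : b = 1
    · exact .inl e1
    · exact .inr (h b hb e1)
  have h2 := Set.ncard_le_ncard h1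
  have h3 := Set.ncard_insert_le (1 : Γ) {e}
  have h4 : (E : Set Γ).ncard = 4 := jf.cE4
  rw [Set.ncard_singleton] at h3
  omega

theorem eq_one_of_tau (jf : JF z y σ τ E Λ) {e : Γ} (he : e ∈ E) (h : τ * e = e * τ) : e = 1 := by
  by_contra e1
  obtain ⟨b, hb, b1, be⟩ := exists_ne jf e
  obtain ⟨i, hi⟩ := jf.tE e he e1 b hb b1
  rw [((Commute.pow_left h i).eq), mul_inv_cancel_right] at hi
  exact be hi.symm

theorem pow_L (jf : JF z y σ τ E Λ) {l : Γ} (hl : l ∈ Λ) : l ^ 2 = 1 ∨ l ^ 3 = 1 ∨ l ^ 5 = 1 := by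
  obtain ⟨e⟩ := jf.iso
  have k : ∀ n : ℕ, e ⟨l, hl⟩ ^ n = 1 → l ^ n = 1 := fun n hn => by
    rw [← map_pow, map_eq_one_iff _ e.injective] at hn
    exact congrArg Subtype.val hn
  exact (H86.S94.a5_pow (e ⟨l, hl⟩)).imp (k 2) (Or.imp (k 3) (k 5))

theorem sq_L (jf : JF z y σ τ E Λ) (zz : z * z = 1) (z1 : z ≠ 1) {l : Γ} (hl : l ∈ Λ)
    (h : l * z = z * l) : l * l = 1 := by
  have c : Commute l z := h
  have z2 : z ^ 2 = 1 := by rw [sq, zz]
  have z3 : z ^ 3 = z := by rw [pow_succ, z2, one_mul]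
  have z5 : z ^ 5 = z := by rw [show 5 = 2 * 2 + 1 from rfl, pow_succ, pow_mul, z2, one_pow, one_mul]
  have zi : z⁻¹ = z := inv_eq_of_mul_eq_one_right zz
  have one : ∀ m n : ℕ, Nat.Coprime m n → l ^ m = 1 → l ^ n = 1 → l * l = 1 := fun m n hc a b => by
    have : l = 1 := (pow_gcd_eq_one.2 ⟨a, b⟩ |> fun e => by rwa [hc, pow_one] at e)
    rw [this, mul_one]
  rcases pow_L jf (mul_mem hl jf.zL) with a | a | a
  · rwa [c.mul_pow, z2, mul_one, sq] at a
  · rw [c.mul_pow, z3, mul_eq_one_iff_eq_inv, zi] at a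
    rcases pow_L jf hl with b | b | b
    · rwa [sq] at b
    · exact absurd (a.symm.trans b) z1
    · exact one 6 5 (by decide) (by rw [show 6 = 3 * 2 from rfl, pow_mul, a, z2]) b
  · rw [c.mul_pow, z5, mul_eq_one_iff_eq_inv, zi] at a
    rcases pow_L jf hl with b | b | b
    · rwa [sq] at b
    · exact one 10 3 (by decide) (by rw [show 10 = 5 * 2 from rfl, pow_mul, a, z2]) b
    · exact absurd (a.symm.trans b) z1

end facts

theorem hp (p5 : P5aStmt.{u}) (sp : SpStmt.{u}) (pu : PUStmt.{u}) : HPStmt.{u} := by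
  intro Γ _ G _ _ φ t O D f z y σ τ E Λ y' x' ja hf hy hx cx lf ds
  have hb := ja.base
  have jf := ja.jf
  have := hb.fin
  have yL : y ∈ Λ := ja.ln.s1 ▸ mul_mem (mul_mem jf.sL jf.zL) (inv_mem jf.sL)
  have ZL : Z2 z y ≤ Λ := (closure_le _).2 (by
    rintro _ (rfl | rfl)
    exacts [jf.zL, yL])
  have zZ : z ∈ Z2 z y := subset_closure (by simp)
  have yZ : y ∈ Z2 z y := subset_closure (by simp)
  let H : Subgroup G := C[E.map φ] ⊓ centralizer {φ τ}
  have mH : ∀ g, g ∈ H ↔ (∀ e ∈ E, φ e * g = g * φ e) ∧ g * φ τ = φ τ * g := fun g => by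
    rw [mem_inf, mem_centralizer_singleton_iff]
    refine and_congr_left fun _ => ⟨fun h e he => h _ ⟨e, he, rfl⟩, ?_⟩
    rintro h _ ⟨e, he, rfl⟩
    exact h e he
  have zz := hf.zz
  have fz : IsConj z z := IsConj.refl z
  have sζ : f z * t * (f z * t) = φ z := by
    rw [← mul_assoc, lf.br z fz, ← cx.AC, mul_assoc, cx.tt, mul_one]
  obtain ⟨P, PH, iv, s, l34, DP⟩ := amb p5 sp pu H (t := t) (σ := φ σ) (ζ := f z * t)
    (Λ := Λ.map φ) (O := O) (Z := (Z2 z y).map φ) (D := D)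
    ((mH t).2 ⟨fun e _ => cx.AC e, (cx.AC τ).symm⟩)
    (by
      rintro _ ⟨l, hl, rfl⟩
      refine (mH _).2 ⟨fun e he => ?_, ?_⟩
      · rw [← map_mul, ← map_mul, jf.EC he l hl]
      · rw [← map_mul, ← map_mul, jf.tC l hl])
    (fun o ho => (mH o).2 ⟨fun e _ => cx.oA ho e, (cx.oA ho τ).symm⟩)
    (fun d hd => (mH d).2 ⟨fun e he =>
      (ds.cC e (jf.EC he z jf.zL).symm (jf.EC he y yL).symm d hd).symm,
      ds.cC τ (jf.tC z jf.zL).symm (jf.tC y yL).symm d hd⟩)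
    cx.tt cx.t1 (jf.iso.map (Λ.equivMapOfInjective φ cx.inj).symm.trans)
    (by rintro _ ⟨l, -, rfl⟩; exact cx.AC l) cx.Ot cx.odd
    (by rintro o ho _ ⟨l, -, rfl⟩; exact cx.oA ho l)
    (fun c hc e => by
      obtain ⟨α, hα⟩ := cx.aut e
      obtain ⟨h1, h2⟩ := (mH c).1 hc
      obtain ⟨c0, hc0, rfl⟩ := jf.cE α fun a ha => cx.inj (by
        rw [hα, ← h1 a ha, mul_inv_cancel_right])
      obtain ⟨a, ha, l, hl, rfl⟩ := split jf hc0
      have h3 : a * l * τ * (a * l)⁻¹ = τ := cx.inj (by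
        rw [← MulAut.conj_apply, hα, h2, mul_inv_cancel_right])
      have h4 : a = 1 := eq_one_of_tau jf ha (by
        rw [mul_inv_eq_iff_eq_mul, mul_assoc, jf.tC l hl, ← mul_assoc, ← mul_assoc,
          mul_left_inj] at h3
        exact h3.symm)
      obtain ⟨o, ho, e'⟩ := cx.split' e hα rfl
      rw [h4, one_mul] at e'
      exact ⟨φ l, ⟨l, hl, rfl⟩, o, ho, e'⟩)
    (map_mono ZL) (by rw [card_map_of_injective cx.inj, ja.wf.cZ]) ⟨σ, jf.sL, rfl⟩
    (by rw [orderOf_injective φ cx.inj, jf.so])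
    (le_normalizer_map φ ⟨σ, mem_normalizer_fintype fun a ha => by
      have : Z2 z y ≤ (Z2 z y).comap (MulAut.conj σ).toMonoidHom := (closure_le _).2 (by
        rintro _ (rfl | rfl)
        · change σ * _ * σ⁻¹ ∈ Z2 _ _
          rw [ja.ln.s1]; exact yZ
        · change σ * _ * σ⁻¹ ∈ Z2 _ _
          rw [ja.ln.s2]; exact mul_mem zZ yZ)
      exact this ha, rfl⟩)
    ds.d4 ds.mem
    (by
      refine orderOf_eq_prime_pow (p := 2) (n := 1) ?_ ?_
      · rw [pow_one, sq, sζ]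
        exact fun e => hf.z1 (cx.inj (e.trans (map_one φ).symm))
      · rw [show 2 ^ (1 + 1) = 2 * 2 from rfl, pow_mul, sq (f z * t), sζ, sq, ← map_mul, zz,
          map_one])
    (fun r hr hZ hs e => by
      rw [mul_assoc (f z), cx.tt, mul_one] at e
      obtain ⟨h1, h2⟩ := (mH r).1 hr
      have k := H46.THat1.into cx hb hf.perf hf.gen (g := r) fun l hl => by
        have := lf.eq l z fz
        rw [mem_Cz.1 hl, mul_inv_cancel_right, eq_mul_inv_iff_mul_eq] at this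
        rw [e, this]
      have rz : φ z * r = r * φ z := hZ _ ⟨z, zZ, rfl⟩
      have ry : φ y * r = r * φ y := hZ _ ⟨y, yZ, rfl⟩
      have fx : ∀ a, φ a * r = r * φ a → r⁻¹ * φ a * r = φ a := fun a h => by
        rw [mul_assoc, h, inv_mul_cancel_left]
      have k' : ∀ l : Cz z, ∃ b : Cz z, φ b = r⁻¹ * φ l * r := fun l => by
        obtain ⟨b, hb'⟩ := k l l.2
        refine ⟨⟨b, mem_Cz.2 (cx.inj ?_)⟩, hb'⟩
        have h3 := congrArg φ (mem_Cz.1 l.2)
        rw [map_mul, map_mul] at h3 ⊢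
        rw [hb', ← fx z rz]
        calc r⁻¹ * φ l * r * (r⁻¹ * φ z * r) = r⁻¹ * (φ l * φ z) * r := by group
          _ = _ := by rw [h3]; group
      choose g hg using k'
      let θ0 : Cz z →* Cz z := MonoidHom.mk' g fun a b => Subtype.ext (cx.inj (by
        rw [hg, Subgroup.coe_mul, Subgroup.coe_mul, map_mul, map_mul, hg, hg]; group))
      have inj : Function.Injective θ0 := fun a b h => Subtype.ext (cx.inj (by
        have h3 : φ (g a) = φ (g b) := congrArg (fun x : Cz z => φ x) h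
        rw [hg, hg] at h3
        simpa using h3))
      let θ : MulAut (Cz z) := MulEquiv.ofBijective θ0 (Finite.injective_iff_bijective.1 inj)
      have hθ : ∀ l : Cz z, φ (θ l) = r⁻¹ * φ l * r := hg
      have fix : ∀ l : Cz z, φ l * r = r * φ l → θ l = l := fun l h =>
        Subtype.ext (cx.inj ((hθ l).trans (fx l h)))
      obtain ⟨c, hc⟩ := hf.inn θ (fix y' (hy ▸ ry)) ⟨1, by simp, by
        rw [fix x' (hx ▸ h2.symm)]; simp⟩
      have cf : ∀ l : Cz z, φ l * r = r * φ l → (c : Γ) * l = l * c := fun l h => by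
        have h3 := fix l h
        rw [hc, MulAut.conj_apply, mul_inv_eq_iff_eq_mul] at h3
        exact congrArg Subtype.val h3
      obtain ⟨e0, he0, e1, -⟩ := exists_ne jf 1
      obtain ⟨a, ha, l, hl, ec⟩ := split jf (jf.cze e0 he0 e1 (mem_Cz.2
        (cf ⟨e0, mem_Cz.2 (jf.EC he0 z jf.zL).symm⟩ (h1 e0 he0))))
      have al : l * a = a * l := jf.EC ha l hl
      have lz : l * z = z * l := by
        have h3 := mem_Cz.1 c.2
        rw [ec, mul_assoc, ← mul_assoc z, jf.EC ha z jf.zL, mul_assoc] at h3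
        exact mul_left_cancel h3
      have cc : c * c = 1 := Subtype.ext (by
        change (c : Γ) * c = 1
        rw [ec, mul_assoc, ← mul_assoc l, al, mul_assoc, sq_L jf zz hf.z1 hl lz, mul_one,
          ja.wf.el a (mem_sup_left ha)])
      obtain ⟨b, -, eb⟩ := hs
      obtain ⟨c', hc', e'⟩ := hf.cL (MulAut.conj b) fun l hl => cx.inj (by
        have h3 : θ (θ ⟨l, hl⟩) = ⟨l, hl⟩ := by
          rw [← MulAut.mul_apply, hc, ← map_mul, cc, map_one, MulAut.one_apply]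
        have h4 := hθ (θ ⟨l, hl⟩)
        rw [h3, hθ] at h4
        rw [MulAut.conj_apply, map_mul, map_mul, map_inv, eb]
        change φ l = r⁻¹ * (r⁻¹ * φ l * r) * r at h4
        conv_lhs => rw [h4]
        group)
      rw [sζ, ← eb, hb.conj_inj e']
      obtain ⟨n, rfl⟩ := hc'
      exact ⟨n, (map_zpow φ z n).symm⟩)
  exact ⟨P, iv, s, l34, DP, fun p hp => (PH hp).1, fun p hp => ((mH p).1 (PH hp)).2⟩

end Cfsg.Agent.H21.S94Hp
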