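import Cfsg.Agent.H29.SpKit

/-!
# Standard subgroups of type `Sp₂ₖ(2ⁿ)`: involutions among the movers of transvections
-/

set_option autoImplicit false

namespace Cfsg.Agent.H21.SpC3a

open Cfsg Cfsg.Agent.H63 Cfsg.Agent.H63.SL Cfsg.Agent.H26 Cfsg.Agent.H68.Sp
open Cfsg.Agent.H78 hiding tv tv_zero
open Cfsg.Agent.H29.SpK
open Subgroup Module
open scoped commutatorElement

universe u v

section Gen

variable {G : Type u} [Group G]

theorem comm_of_odd_pow {a b : G} {n m : ℕ} (hn : Odd n) (h2 : a ^ 2 ^ m = 1)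
    (h : Commute (a ^ n) b) : Commute a b := by
  have hc : n.Coprime (orderOf a) :=
    Nat.Coprime.coprime_dvd_right (orderOf_dvd_of_pow_eq_one h2)
      (Nat.Coprime.pow_right m ((Nat.coprime_two_right).2 hn))
  obtain ⟨j, hj⟩ := exists_pow_eq_self_of_coprime hc
  rw [← hj]
  exact h.pow_left j

theorem mem_of_sq {H : Subgroup G} {g : G} (ho : Odd (orderOf g)) (h : g * g ∈ H) : g ∈ H := by
  obtain ⟨j, hj⟩ := exists_pow_eq_self_of_coprime ((Nat.coprime_two_left).2 ho)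
  rw [← hj, pow_two]
  exact pow_mem h j

theorem cl {L : Subgroup G} {κ l : G} (hκ : κ ∈ C[L]) (hl : l ∈ L) : Commute κ l :=
  (mem_centralizer_iff.1 hκ l hl).symm

theorem tsq {L : Subgroup G} {t : G} (tc : Tc L t) : t * t = 1 := by
  rw [← pow_two, ← tc.t2, pow_orderOf_eq_one]

/-- An element of `C(L) ∩ C(t)` is `o` or `t o` with `o` of odd order. -/
theorem split [Finite G] {L : Subgroup G} {t κ : G} (tc : Tc L t) (r2 : R2 L t) (hκ : κ ∈ C[L])
    (ht : Commute κ t) :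
    ∃ o ∈ C[L], Commute o t ∧ Odd (orderOf o) ∧ (κ = o ∨ κ = t * o) := by
  obtain ⟨a, m, hm, e⟩ := Nat.exists_eq_two_pow_mul_odd (orderOf_pos κ).ne'
  have h1 : (κ ^ m) ^ 2 ^ a = 1 := by rw [← pow_mul, mul_comm, ← e, pow_orderOf_eq_one]
  rcases r2 _ (pow_mem hκ m) (ht.pow_left m) ⟨a, h1⟩ with h | h
  · exact ⟨κ, hκ, ht, hm.of_dvd_nat (orderOf_dvd_of_pow_eq_one h), Or.inl rfl⟩
  · refine ⟨t * κ, mul_mem tc.tc hκ, (Commute.refl t).mul_left ht,
      hm.of_dvd_nat (orderOf_dvd_of_pow_eq_one ?_), Or.inr (by rw [← mul_assoc, tsq tc, one_mul])⟩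
    obtain ⟨j, rfl⟩ := hm
    rw [ht.symm.mul_pow, h, pow_succ, pow_mul, pow_two, tsq tc, one_pow, one_mul, tsq tc]

theorem dt_conj {t d : G} (hd : d ∈ Dt t) (g : G) : g * d * g⁻¹ ∈ Dt t := by
  obtain ⟨x, rfl⟩ := hd
  exact ⟨g * x, by group⟩

end Gen

variable {F V : Type v} [Field F] [AddCommGroup V] [Module F V] {G : Type u} [Group G]
  {P : PForm F V} {φ : P.E →* G} {L : Subgroup G} {k : ℕ} {t : G}

theorem third (hk : 3 ≤ k) (a b : BI k) : ∃ g : BI k, g.1 ≠ a.1 ∧ g.1 ≠ b.1 := by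
  by_contra! H
  have h0 := H (⟨0, by omega⟩, false)
  have h1 := H (⟨1, by omega⟩, false)
  have h2 := H (⟨2, by omega⟩, false)
  simp only [ne_eq, Fin.ext_iff] at h0 h1 h2
  omega

theorem orth1 (Fr : Frame P k) {a b : BI k} (h : a.1 ≠ b.1) : P.f (Fr.e a) (Fr.e b) = 0 :=
  Fr.orth a b (fst_ne_iff.1 h).2

theorem pair1 (h : SG P φ L k) {Fr : Frame P k} (hN : Fr.Norm) (a : BI k) :
    P.f (Fr.e a) (Fr.e (ng a)) = 1 := by
  rcases a with ⟨i, _ | _⟩
  · exact hN i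
  · rw [fc h]; exact hN i

theorem pair2 (h : SG P φ L k) {Fr : Frame P k} (hN : Fr.Norm) (a : BI k) :
    P.f (Fr.e (ng a)) (Fr.e a) = 1 := by rw [fc h, pair1 h hN]

theorem i2_fr (Fr : Frame P k) {a b : BI k} (hab : a.1 ≠ b.1) : I2 P (Fr.e a) (Fr.e b) := by
  refine ⟨orth1 Fr hab, LinearIndependent.pair_iff.2 fun s r hs => ⟨?_, ?_⟩⟩
  · have := congrArg (fun x => P.f x (Fr.e (ng a))) hs
    simp only [P.f_add_left, P.f_smul_left, P.f_zero_left,
      orth1 Fr (a := b) (b := ng a) hab.symm, mul_zero, add_zero] at this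
    exact (mul_eq_zero.1 this).resolve_right (Fr.pair a)
  · have := congrArg (fun x => P.f x (Fr.e (ng b))) hs
    simp only [P.f_add_left, P.f_smul_left, P.f_zero_left,
      orth1 Fr (a := a) (b := ng b) hab, mul_zero, zero_add] at this
    exact (mul_eq_zero.1 this).resolve_right (Fr.pair b)

theorem i2_smul {u w : V} (h : SG P φ L k) (huw : I2 P u w) {c : F} (hc : c ≠ 0) :
    I2 P u (c • w) := by
  refine ⟨by rw [fr h, huw.1, mul_zero], LinearIndependent.pair_iff.2 fun s r hs => ?_⟩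
  rw [smul_smul] at hs
  obtain ⟨h1, h2⟩ := LinearIndependent.pair_iff.1 huw.2 _ _ hs
  exact ⟨h1, (mul_eq_zero.1 h2).resolve_right hc⟩

theorem expand (g1 : G1 P k) (Fr : Frame P k) (x : V) :
    x = ∑ a, (P.f x (Fr.e (ng a)) / P.f (Fr.e a) (Fr.e (ng a))) • Fr.e a := by
  have := Fr.sub_sum_mem x
  rwa [g1.v0, Submodule.mem_bot, sub_eq_zero] at this

theorem in_line (g1 : G1 P k) (Fr : Frame P k) {y : V} {b : BI k}
    (hy : ∀ c, c ≠ ng b → P.f y (Fr.e c) = 0) : ∃ r : F, y = r • Fr.e b := by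
  refine ⟨_, (expand g1 Fr y).trans (Finset.sum_eq_single b ?_ (by simp))⟩
  intro c _ hc
  rw [hy _ (by simpa using hc), zero_div, zero_smul]

theorem fix_of (g1 : G1 P k) (Fr : Frame P k) {e : P.E} {a b : BI k}
    (he : ∀ c, c ≠ a → c ≠ ng b → e.1 (Fr.e c) = Fr.e c) {x : V}
    (h1 : P.f x (Fr.e (ng a)) = 0) (h2 : P.f x (Fr.e b) = 0) : e.1 x = x := by
  rw [expand g1 Fr x, map_sum]
  refine Finset.sum_congr rfl fun c _ => ?_
  by_cases hc : c = a
  · rw [hc, h1, zero_div, zero_smul, map_zero]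
  by_cases hc' : c = ng b
  · rw [hc', ng_ng, h2, zero_div, zero_smul, map_zero]
  rw [map_smul, he c hc hc']

theorem exists_sqrt [Finite F] (h : SG P φ L k) (c : F) : ∃ r, c = r * r := by
  have : CharP F 2 := CharTwo.of_one_ne_zero_of_two_eq_zero one_ne_zero h.two
  exact FiniteField.isSquare_of_char_two (ringChar.eq F 2) c

theorem zl (h : SG P φ L k) (nf : NF P φ L) {l : G} (hl : l ∈ L) (hc : l ∈ C[L]) : l = 1 := by
  obtain ⟨e, rfl⟩ := exists_φ h hl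
  refine (φ_eq_one h).2 fun x => ?_
  by_cases hx : x = 0
  · rw [hx, map_zero]
  · exact nf.ct e x 1 hx one_ne_zero (cl hc (ET_mem h _ _ _))

theorem cq {v : V} {p : G} (hp : p ∈ C[QW P φ {v}]) (y : V) (c : F) :
    Commute p (ET P φ v y c) := by
  by_cases hy : P.f v y = 0
  · exact cl hp (ET_mem_QW (Submodule.mem_span_singleton_self v)
      (by rintro s rfl; exact PForm.f_symm_zero hy) c)
  · rw [ET_of_ne hy]; exact Commute.one_right _

theorem QW_le (h : SG P φ L k) (S : Set V) : QW P φ S ≤ L := by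
  refine (closure_le _).2 ?_
  rintro _ ⟨e, -, y, -, c, rfl⟩
  exact ET_mem h _ _ _

theorem mv_inv (h : SG P φ L k) {v : V} {p : G} {a : F} (hp : p ∈ C[QW P φ {v}])
    (hm : p * t * p⁻¹ = t * tv P φ v a) : p⁻¹ * t * p = t * tv P φ v a := by
  have h1 := (cq hp 0 a).eq
  have h2 := tv_sq (φ := φ) h v a
  unfold tv at *
  generalize ET P φ v 0 a = τ at *
  calc p⁻¹ * t * p = p⁻¹ * (t * τ) * (τ * p) := by
        rw [mul_assoc p⁻¹ (t * τ), mul_assoc t, ← mul_assoc τ, h2, one_mul, mul_assoc]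
    _ = p⁻¹ * (p * t * p⁻¹) * (p * τ) := by rw [hm, h1]
    _ = t * τ := by group

/-- The kernel lemma for `Q_v`. -/
theorem kerQ (c : Ctx P φ L k t) {v : V} (hv : v ≠ 0) {g : G} (hg : g ∈ C[QW P φ {v}])
    (ht : Commute g t) :
    ∃ y a, P.f y v = 0 ∧ ∃ κ ∈ C[L], Commute κ t ∧ g = ET P φ v y a * κ := by
  obtain ⟨s, hs, κ, hκ, rfl⟩ := c.nf.cQ1 v hv g
    ⟨c.tc.cN (mem_centralizer_singleton_iff.2 ht.eq), hg⟩
  obtain ⟨y, a, hy, rfl⟩ := (c.g2.crdQ v s).1 hs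
  refine ⟨y, a, hy, κ, hκ, ?_, rfl⟩
  have := (cl c.tc.tc (ET_mem c.toSG v y a)).symm.inv_left.mul_left ht
  rwa [inv_mul_cancel_left] at this

/-- A mover normalizes the set of elements of odd order of `C(L) ∩ C(t)`. -/
theorem normO (c : Ctx P φ L k t) {v : V} (hv : v ≠ 0) {p : G} {a : F} (hp : p ∈ C[QW P φ {v}])
    (hm : p * t * p⁻¹ = t * tv P φ v a) {o : G} (ho : o ∈ C[L]) (hot : Commute o t)
    (hodd : Odd (orderOf o)) : p⁻¹ * o * p ∈ C[L] := by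
  have h := c.toSG
  have h1 : p⁻¹ * o * p ∈ C[QW P φ {v}] :=
    mul_mem (mul_mem (inv_mem hp) (centralizer_le (QW_le h _) ho)) hp
  have h2 : Commute (p⁻¹ * o * p) t := by
    have h3 := (hot.mul_right (cl ho (ET_mem h v 0 a))).eq
    change o * (t * tv P φ v a) = t * tv P φ v a * o at h3
    rw [← hm] at h3
    calc p⁻¹ * o * p * t = p⁻¹ * (o * (p * t * p⁻¹)) * p := by group
      _ = t * (p⁻¹ * o * p) := by rw [h3]; group
  obtain ⟨y, b, -, κ, hκ, -, e⟩ := kerQ c hv h1 h2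
  refine mem_of_sq ?_ ?_
  · have : SemiconjBy p⁻¹ o (p⁻¹ * o * p) := by simp [SemiconjBy]
    rwa [← this.orderOf_eq]
  · rw [e, mul_assoc, ← mul_assoc κ, (cl hκ (ET_mem h v y b)).eq, mul_assoc, ← mul_assoc,
      ET_sq h, one_mul]
    exact mul_mem hκ hκ


section MB

variable {Fr : Frame P k}

theorem conj_of_cm {a b c : G} (h : ⁅a, b⁆ = c) : a * b * a⁻¹ = c * b := by
  rw [← h, commutatorElement_def, inv_mul_cancel_right]

theorem conj_of_comm {a b : G} (h : Commute a b) : a * b * a⁻¹ = b := by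
  rw [h.eq, mul_inv_cancel_right]

theorem conj_mul' (g a b : G) : g * (a * b) * g⁻¹ = g * a * g⁻¹ * (g * b * g⁻¹) := by group

/-- The constant of the movers is `1`. -/
theorem l1_eq (c : Ctx P φ L k t) (ns : NoS P φ t) (hN : Fr.Norm) {l1 : F}
    (hM : ∀ b s, ∃ p, MB P φ Fr t l1 b s p) (b : BI k) : l1 = 1 := by
  have h := c.toSG
  obtain ⟨g, hg, -⟩ := third c.k3 b b
  obtain ⟨p, hp⟩ := hM b 1
  obtain ⟨p', hp'⟩ := hM g 1
  have hgb : g ≠ ng b := (fst_ne_iff.1 hg.symm).2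
  have o1 : P.f (Fr.e b) (Fr.e g) = 0 := orth1 Fr hg.symm
  have o2 : P.f (Fr.e (ng b)) (Fr.e g) = 0 := orth1 Fr (a := ng b) hg.symm
  have d0 : t * tv P φ (Fr.e g) (1 * 1) ∈ Dt t := ⟨p', hp'.mv.symm⟩
  have d1 := dt_conj d0 p
  rw [conj_mul', hp.mv, conj_of_cm (hp.comT g hgb 1)] at d1
  simp only [mul_one] at d1
  have d2 := dt_conj d1 (φ (eE P (Fr.e (ng b)) (Fr.e g) 0))
  have x1 : (eE P (Fr.e (ng b)) (Fr.e g) 0).1 (Fr.e b) = Fr.e b + Fr.e g := by
    rw [Es_apply h o2, pair1 h hN, o1, one_smul, zero_smul, add_zero]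
  have x2 : (eE P (Fr.e (ng b)) (Fr.e g) 0).1 (Fr.e g) = Fr.e g :=
    eE_fix h (PForm.f_symm_zero o2) (fs h _) 0
  rw [conj_mul', conj_mul', conj_mul', conj_of_comm (cl c.tc.tc (φ_mem h _)).symm, conj_tv h,
    conj_tv h, conj_Es h, map_smul, x1, x2, tv_add_vec h o1] at d2
  have e1 : Es P φ (Fr.e b + Fr.e g) (l1 • Fr.e g) = Es P φ (Fr.e b) (l1 • Fr.e g) := by
    rw [← Es_smul h, ← Es_smul h, smul_add, Es_shear' h]
  have e2 : t * (tv P φ (Fr.e b) 1 * tv P φ (Fr.e g) 1 * Es P φ (Fr.e b) ((1 : F) • Fr.e g)) *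
      (Es P φ (Fr.e b) (l1 • Fr.e g) * tv P φ (Fr.e g) 1) =
      t * tv P φ (Fr.e b) 1 * Es P φ (Fr.e b) ((1 + l1) • Fr.e g) := by
    have c1 : Commute (tv P φ (Fr.e g) 1) (Es P φ (Fr.e b) ((1 + l1) • Fr.e g)) :=
      comm_tv_ET h (PForm.f_symm_zero o1) (by rw [fr h, fs h, mul_zero]) _ _
    calc _ = t * tv P φ (Fr.e b) 1 * (tv P φ (Fr.e g) 1 * Es P φ (Fr.e b) ((1 + l1) • Fr.e g) *
          tv P φ (Fr.e g) 1) := by rw [Es_adds h o1]; simp only [mul_assoc]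
      _ = _ := by rw [c1.eq, mul_assoc (Es _ _ _ _), tv_sq h, mul_one]
  rw [e1, e2] at d2
  have d3 := dt_conj d2 p
  rw [conj_mul', conj_mul', hp.mv, conj_of_comm (cq hp.cent _ _), conj_of_comm (cq hp.cent _ _),
    mul_one, mul_assoc t, tv_sq h, mul_one] at d3
  by_contra hl
  refine ns _ _ (i2_smul h (i2_fr Fr hg.symm) fun e => hl ?_) d3
  rw [add_eq_zero_iff_eq_neg, fneg h] at e
  exact e.symm

/-- The square of a mover is a transvection. -/
theorem sq_eq (c : Ctx P φ L k t) (r2 : R2 L t) {l1 s : F} {b : BI k} {p : G}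
    (hp : MB P φ Fr t l1 b s p) (hs : s ≠ 0) : ∃ μ, p * p = tv P φ (Fr.e b) μ := by
  have h := c.toSG
  have hv := Fr.e_ne_zero b
  have h1 : Commute (p * p) t := by
    have : p * p * t * (p * p)⁻¹ = t := by
      calc _ = p * (p * t * p⁻¹) * p⁻¹ := by group
        _ = t := by
          rw [hp.mv, conj_mul', hp.mv, conj_of_comm (cq hp.cent _ _), mul_assoc, tv_sq h, mul_one]
    exact mul_inv_eq_iff_eq_mul.1 this
  obtain ⟨y, a, hy, κ, hκ, hκt, e⟩ := kerQ c hv (mul_mem hp.cent hp.cent) h1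
  obtain ⟨m, hm⟩ := hp.two
  have h2 : κ ^ 2 ^ (m + 1) = 1 := by
    have h3 : (p * p) ^ 2 ^ (m + 1) = 1 := by
      rw [(Commute.refl p).mul_pow, pow_succ 2, pow_mul, hm, one_pow, one_mul]
    rw [e, (cl hκ (ET_mem h _ _ _)).symm.mul_pow, pow_succ' 2, pow_mul, pow_two, ET_sq h, one_pow,
      one_mul] at h3
    rwa [pow_succ']
  rcases r2 κ hκ hκt ⟨_, h2⟩ with rfl | rfl
  · rw [mul_one] at e
    have h4 : ∀ g, g ≠ ng b → P.f y (Fr.e g) = 0 := by
      intro g hg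
      by_cases hgb : g = b
      · rw [hgb, hy]
      have hg1 : b.1 ≠ g.1 := fst_ne_iff.2 ⟨Ne.symm hgb, hg⟩
      obtain ⟨g', h5, h6⟩ := third c.k3 g b
      have h7 := hp.comS g g' h5.symm hg (fst_ne_iff.1 h6.symm).2 1
      rw [one_smul] at h7
      have h8 := (h7.mul_left h7).symm.commutator_eq
      have o1 := orth1 Fr h5.symm
      rw [e, Es, ET_eq, cm_φ_ET h (eE_fix h (orth1 Fr hg1) (orth1 Fr h6.symm) 0)
        (PForm.f_symm_zero hy)] at h8
      obtain ⟨-, r, hr⟩ := ET_eq_one h hv (by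
        rw [P.f_add_right, PForm.f_symm_zero hy, add_zero, Es_apply h o1, P.f_add_right,
          P.f_add_right, fr h, fr h, PForm.f_symm_zero hy, orth1 Fr hg1, orth1 Fr h6.symm]
        simp) h8
      have h9 := congrArg (fun x => P.f x (Fr.e (ng g'))) hr
      simp only [Es_apply h o1, P.f_add_left, P.f_smul_left,
        orth1 Fr (a := g) (b := ng g') h5.symm, orth1 Fr (a := b) (b := ng g') h6.symm] at h9
      have h10 : P.f y (Fr.e g) * P.f (Fr.e g') (Fr.e (ng g')) = 0 := by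
        linear_combination h9 - P.f y (Fr.e (ng g')) * h.two
      exact (mul_eq_zero.1 h10).resolve_right (Fr.pair g')
    obtain ⟨r, rfl⟩ := in_line c.g1 Fr h4
    exact ⟨a, by rw [e, ET_self h]⟩
  · exfalso
    have h3 : Commute p κ := by
      have := (cq hp.cent y a).inv_right.mul_right (e ▸ (Commute.refl p).mul_right (Commute.refl p))
      rwa [inv_mul_cancel_left] at this
    have h4 := hp.mv
    rw [conj_of_comm h3, left_eq_mul, tv_eq_one h hv] at h4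
    exact hs (mul_self_eq_zero.1 h4)

theorem comm_gam {x p y : G} (h1 : Commute p y) (h2 : Commute p (x⁻¹ * y * x)) :
    Commute (x * p * x⁻¹ * p⁻¹) y := by
  have h3 : p⁻¹ * y = y * p⁻¹ := h1.inv_left.eq
  calc x * p * x⁻¹ * p⁻¹ * y = x * (p * (x⁻¹ * y * x)) * x⁻¹ * p⁻¹ := by
        rw [mul_assoc _ p⁻¹, h3]; group
    _ = y * (x * p * x⁻¹ * p⁻¹) := by rw [h2.eq]; group

/-- The element `γ` and its decomposition. -/
theorem gam [Finite F] (c : Ctx P φ L k t) (hN : Fr.Norm) {s : F} {a b : BI k} (hab : a.1 ≠ b.1)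
    {p p' : G} (hp : MB P φ Fr t 1 b s p) (hp' : MB P φ Fr t 1 (ng a) s p') :
    ∃ γ, γ * (Es P φ (Fr.e a) (Fr.e b) * γ * (Es P φ (Fr.e a) (Fr.e b))⁻¹) = 1 ∧
      (∀ o ∈ C[L], Commute o t → Odd (orderOf o) → Commute γ o) ∧
      ∃ σ ∈ S2 P φ {Fr.e (ng a), Fr.e b}, ∃ κ ∈ C[L], Commute κ t ∧ γ = σ * κ * p := by
  have h := c.toSG
  have hv := Fr.e_ne_zero b
  have o1 : P.f (Fr.e a) (Fr.e b) = 0 := orth1 Fr hab
  have o2 : P.f (Fr.e (ng a)) (Fr.e b) = 0 := orth1 Fr (a := ng a) hab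
  have hba : b ≠ ng (ng a) := by rw [ng_ng]; exact (fst_ne_iff.1 hab).1.symm
  obtain ⟨ex, hex⟩ : ∃ ex : P.E, ex = eE P (Fr.e a) (Fr.e b) 0 := ⟨_, rfl⟩
  have hx : Es P φ (Fr.e a) (Fr.e b) = φ ex := by rw [hex]; rfl
  have hx2 : φ ex * φ ex = 1 := by rw [← hx, Es_sq h]
  have hxi : (φ ex)⁻¹ = φ ex := inv_eq_of_mul_eq_one_left hx2
  have x1 : ex.1 (Fr.e (ng a)) = Fr.e (ng a) + Fr.e b := by
    rw [hex, Es_apply h o1, pair2 h hN, o2, one_smul, zero_smul, add_zero]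
  have x2 : ∀ g, g ≠ ng a → g ≠ ng b → ex.1 (Fr.e g) = Fr.e g := fun g h1 h2 => by
    rw [hex]
    exact eE_fix h (Fr.orth _ _ (ne_ng_symm h1)) (Fr.orth _ _ (ne_ng_symm h2)) 0
  have x3 : ex.1 (Fr.e b) = Fr.e b := x2 b (fst_ne_iff.1 hab).2 (ne_ng b)
  have cx : ∀ u w d, (φ ex)⁻¹ * ET P φ u w d * φ ex = ET P φ (ex.1 u) (ex.1 w) d :=
    fun u w d => by rw [← conj_ET h, hxi]
  rw [hx]
  obtain ⟨γ, hγ⟩ : ∃ γ, γ = φ ex * p' * (φ ex)⁻¹ * p'⁻¹ := ⟨_, rfl⟩
  have g1 : γ * t * γ⁻¹ = t * tv P φ (Fr.e b) (s * s) := by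
    have e1 : (φ ex)⁻¹ * (t * tv P φ (Fr.e (ng a)) (s * s)) * φ ex = t *
        (tv P φ (Fr.e (ng a)) (s * s) * tv P φ (Fr.e b) (s * s) *
          Es P φ (Fr.e (ng a)) ((s * s) • Fr.e b)) := by
      rw [← mul_assoc, (cl c.tc.tc (inv_mem (φ_mem h ex))).symm.eq, mul_assoc t, mul_assoc t, tv,
        cx, x1, map_zero, ← tv, tv_add_vec h o2]
    have c1 : Commute (Es P φ (Fr.e (ng a)) ((s * s) • Fr.e b)) (tv P φ (Fr.e b) (s * s)) :=
      (comm_tv_ET h (PForm.f_symm_zero o2) (by rw [fr h, fs h, mul_zero]) _ _).symm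
    calc γ * t * γ⁻¹ = φ ex * (p' * ((φ ex)⁻¹ * (p'⁻¹ * t * p') * φ ex) * p'⁻¹) * (φ ex)⁻¹ := by
          rw [hγ]; group
      _ = φ ex * (t * tv P φ (Fr.e b) (s * s)) * (φ ex)⁻¹ := by
          rw [mv_inv h hp'.cent hp'.mv, e1, conj_mul' p', conj_mul' p', conj_mul' p', hp'.mv,
            conj_of_comm (cq hp'.cent _ _), conj_of_comm (cq hp'.cent _ _),
            conj_of_cm (hp'.comT b hba s), one_mul, c1.eq, mul_assoc t,
            mul_assoc (tv P φ (Fr.e (ng a)) (s * s)), ← mul_assoc (tv P φ (Fr.e (ng a)) (s * s)),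
            tv_sq h, one_mul, mul_assoc (tv P φ (Fr.e b) (s * s)), ET_sq h, mul_one]
      _ = _ := by rw [conj_mul', conj_of_comm (cl c.tc.tc (φ_mem h _)).symm, conj_tv h, x3]
  have g2 : ∀ d, Commute γ (tv P φ (Fr.e b) d) := by
    intro d
    obtain ⟨r, rfl⟩ := exists_sqrt h d
    have e0 := conj_of_cm (hp'.comT b hba r)
    have c0 := cq hp'.cent ((1 * s * r) • Fr.e b) 0
    have q0 := Es_sq (φ := φ) h (Fr.e (ng a)) ((1 * s * r) • Fr.e b)
    have c1 : Commute (φ ex) (Es P φ (Fr.e (ng a)) ((1 * s * r) • Fr.e b)) := by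
      rw [Es_symm h, Es_smul h]
      have := conj_Es h ex (Fr.e b) ((1 * s * r) • Fr.e (ng a))
      rw [x3, map_smul, x1, smul_add, Es_shear h] at this
      exact mul_inv_eq_iff_eq_mul.1 this
    have c2 : Commute (φ ex) (tv P φ (Fr.e b) (r * r)) := comm_of_fix h x3 (map_zero _) _
    unfold Es tv at *
    generalize ET P φ (Fr.e (ng a)) ((1 * s * r) • Fr.e b) 0 = E0 at *
    generalize ET P φ (Fr.e b) 0 (r * r) = τ at *
    have e1 : p' * (E0 * τ) * p'⁻¹ = τ := by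
      rw [conj_mul', conj_of_comm c0, e0, ← mul_assoc, q0, one_mul]
    refine mul_inv_eq_iff_eq_mul.1 ?_
    calc γ * τ * γ⁻¹ = φ ex * (p' * ((φ ex)⁻¹ * (p'⁻¹ * (p' * (E0 * τ) * p'⁻¹) * p') *
          (φ ex)⁻¹⁻¹) * p'⁻¹) * (φ ex)⁻¹ := by rw [hγ, e1]; group
      _ = φ ex * (p' * ((φ ex)⁻¹ * (E0 * τ) * (φ ex)⁻¹⁻¹) * p'⁻¹) * (φ ex)⁻¹ := by group
      _ = τ := by rw [conj_of_comm (c1.mul_right c2).inv_left, e1, conj_of_comm c2]
  have g3 : Commute (γ * p⁻¹) t := by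
    refine mul_inv_eq_iff_eq_mul.1 ?_
    calc γ * p⁻¹ * t * (γ * p⁻¹)⁻¹ = γ * (p⁻¹ * t * p) * γ⁻¹ := by group
      _ = t := by
        rw [mv_inv h hp.cent hp.mv, conj_mul', g1, conj_of_comm (g2 _), mul_assoc, tv_sq h, mul_one]
  obtain ⟨e, κ, hκ, he, hγp⟩ := c.nf.cT (γ * p⁻¹)
    (c.tc.cN (mem_centralizer_singleton_iff.2 g3.eq)) _ hv
    fun d => (g2 d).mul_left (cq hp.cent _ _).inv_left
  have g4 : ∀ y ∈ L, Commute γ y → Commute p y → Commute (φ e) y := fun y hy h1 h2 => by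
    have := (h1.mul_left h2.inv_left).mul_left (cl hκ hy).inv_left
    rwa [hγp, mul_inv_cancel_right] at this
  -- the action of `e` on the frame
  have g5 : ∀ g, g.1 ≠ b.1 → g ≠ a → ∃ r : F, e.1 (Fr.e g) = Fr.e g + r • Fr.e b := by
    intro g hg hga
    have og := orth1 Fr hg.symm
    have c1 : Commute p' (Es P φ (Fr.e b) (Fr.e g)) := by
      have := hp'.comS b g hg.symm hba (by rwa [ng_ng]) 1
      rwa [one_smul] at this
    have c2 : (φ ex)⁻¹ * Es P φ (Fr.e b) (Fr.e g) * φ ex = Es P φ (Fr.e b) (Fr.e g) := by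
      rw [Es, cx, x3]
      by_cases hg' : g = ng a
      · rw [hg', x1, ← one_smul F (Fr.e b), ← Es, ← Es]
        simpa using Es_shear (φ := φ) h (Fr.e b) (Fr.e (ng a)) 1
      · rw [x2 g hg' (fst_ne_iff.1 hg.symm).2]
    have c3 := (g4 _ (ET_mem h _ _ _) (hγ ▸ comm_gam c1 (c2.symm ▸ c1))
      (cq hp.cent _ _)).commutator_eq
    rw [cm_φ_ET h he og] at c3
    obtain ⟨-, r, hr⟩ := ET_eq_one h hv (by
      rw [P.f_add_right, og, add_zero, ← he, ef, og]) c3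
    exact ⟨r, by rw [← hr, add_comm (e.1 _), ← add_assoc, vadd_self h, zero_add]⟩
  have g6 : ∀ g, g.1 ≠ b.1 → g.1 ≠ a.1 →
      e.1 (Fr.e (ng a)) = Fr.e (ng a) ∧ e.1 (Fr.e g) = Fr.e g := by
    intro g hg hga
    have hga' : (ng a).1 ≠ g.1 := hga.symm
    have og := orth1 Fr hga'
    have n1 : g ≠ ng b := (fst_ne_iff.1 hg.symm).2
    have n2 : g ≠ ng a := (fst_ne_iff.1 hga.symm).2
    have n3 : g ≠ a := (fst_ne_iff.1 hga).1
    have c1 : Commute p' (Es P φ (Fr.e (ng a)) (Fr.e g)) := cq hp'.cent _ _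
    have c2 : Commute p' ((φ ex)⁻¹ * Es P φ (Fr.e (ng a)) (Fr.e g) * φ ex) := by
      rw [Es, cx, x1, x2 g n2 n1, ← Es, Es_symm h,
        Es_add0 h (PForm.f_symm_zero og) (orth1 Fr hg) o2, Es_symm h]
      refine c1.mul_right ?_
      have := hp'.comS g b hg (by rwa [ng_ng]) hba 1
      rwa [one_smul] at this
    have c3 : Commute p (Es P φ (Fr.e (ng a)) (Fr.e g)) := by
      have := hp.comS (ng a) g hga' (by simpa using (fst_ne_iff.1 hab).1) n1 1
      rwa [one_smul] at this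
    obtain ⟨a1, a2, a3, a4, -, e1, e2⟩ := (c.nf.cs e _ _ (i2_fr Fr hga')).1
      (g4 _ (ET_mem h _ _ _) (hγ ▸ comm_gam c1 c2) c3)
    obtain ⟨r, hr⟩ := g5 (ng a) hab (ng_ne a)
    obtain ⟨r', hr'⟩ := g5 g hg n3
    have z1 := orth1 Fr (a := ng a) (b := ng b) hab
    have z2 := orth1 Fr (a := g) (b := ng b) hg
    have f1 := congrArg (fun x => P.f x (Fr.e (ng b))) (hr.symm.trans e1)
    have f2 := congrArg (fun x => P.f x (Fr.e (ng b))) (hr'.symm.trans e2)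
    simp only [P.f_add_left, P.f_smul_left, z1, z2, pair1 h hN, mul_zero, add_zero, zero_add,
      mul_one] at f1 f2
    rw [hr, hr', f1, f2, zero_smul, add_zero, add_zero]
    exact ⟨rfl, rfl⟩
  have g7 : ∀ g, g ≠ a → g ≠ ng b → e.1 (Fr.e g) = Fr.e g := by
    intro g h1 h2
    by_cases h3 : g = b
    · rw [h3, he]
    by_cases h4 : g = ng a
    · obtain ⟨g', h5, h6⟩ := third c.k3 b a
      rw [h4, (g6 g' h5 h6).1]
    exact (g6 g (fst_ne_iff.2 ⟨Ne.symm h3, h2⟩).symm (fst_ne_iff.2 ⟨Ne.symm h1, h4⟩).symm).2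
  refine ⟨γ, ?_, fun o ho hot hodd => ?_, φ e, (c.g2.memS _ e).2 fun x hx => ?_, κ, hκ, ?_,
    by rw [← hγp, inv_mul_cancel_right]⟩
  · rw [hγ, hxi]
    calc _ = φ ex * p' * φ ex * p'⁻¹ * (φ ex * φ ex) * p' * φ ex * p'⁻¹ * φ ex := by group
      _ = φ ex * p' * (φ ex * φ ex) * p'⁻¹ * φ ex := by
          conv_lhs => rw [hx2]
          group
      _ = 1 := by rw [hx2, mul_one, mul_inv_cancel_right, hx2]
  · have n1 := normO c (Fr.e_ne_zero _) hp'.cent hp'.mv ho hot hodd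
    refine mul_inv_eq_iff_eq_mul.1 ?_
    calc γ * o * γ⁻¹ = φ ex * (p' * ((φ ex)⁻¹ * (p'⁻¹ * o * p') * (φ ex)⁻¹⁻¹) * p'⁻¹) *
          (φ ex)⁻¹ := by rw [hγ]; group
      _ = φ ex * o * (φ ex)⁻¹ := by
          rw [conj_of_comm (cl n1 (inv_mem (φ_mem h ex))).symm]; group
      _ = o := conj_of_comm (cl ho (φ_mem h ex)).symm
  · rw [PForm.mem_perp_span] at hx
    exact fix_of c.g1 Fr g7 (hx _ (by simp)) (hx _ (by simp))
  · have := (cl c.tc.tc (φ_mem h e)).symm.inv_left.mul_left g3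
    rwa [hγp, inv_mul_cancel_left] at this

variable (P φ) in
/-- The coordinates of `S2 {u, w}`. -/
noncomputable def S3 (u w : V) (a b c : F) : G := tv P φ u a * tv P φ w b * Es P φ u (c • w)

theorem S3_mem (h : SG P φ L k) (u w : V) (a b c : F) : S3 P φ u w a b c ∈ L :=
  mul_mem (mul_mem (ET_mem h _ _ _) (ET_mem h _ _ _)) (ET_mem h _ _ _)

theorem S3_mul (h : SG P φ L k) {u w : V} (huw : P.f u w = 0) (a b c a' b' c' : F) :
    S3 P φ u w a b c * S3 P φ u w a' b' c' = S3 P φ u w (a + a') (b + b') (c + c') := by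
  have c1 : Commute (tv P φ w b) (tv P φ u a') := comm_tv_tv h (PForm.f_symm_zero huw) _ _
  have c2 : Commute (Es P φ u (c • w)) (tv P φ u a') := comm_same h _ _ _ _ _
  have c3 : Commute (Es P φ u (c • w)) (tv P φ w b') :=
    (comm_tv_ET h (PForm.f_symm_zero huw) (by rw [fr h, fs h, mul_zero]) _ _).symm
  rw [S3, S3, S3, tv_add h, tv_add h, Es_adds h huw]
  calc _ = tv P φ u a * (tv P φ w b * (Es P φ u (c • w) * tv P φ u a')) * tv P φ w b' *
        Es P φ u (c' • w) := by simp only [mul_assoc]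
    _ = tv P φ u a * tv P φ u a' * tv P φ w b * (Es P φ u (c • w) * tv P φ w b') *
        Es P φ u (c' • w) := by rw [c2.eq, ← mul_assoc (tv P φ w b), c1.eq]; simp only [mul_assoc]
    _ = _ := by rw [c3.eq]; simp only [mul_assoc]

theorem S3_tv (u w : V) (b : F) : tv P φ w b = S3 P φ u w 0 b 0 := by
  rw [S3, tv_zero, zero_smul, Es_zero, one_mul, mul_one]

theorem S3_Es (u w : V) (c : F) : Es P φ u (c • w) = S3 P φ u w 0 0 c := by
  rw [S3, tv_zero, tv_zero, one_mul, one_mul]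

theorem S3_tv' (u w : V) (a : F) : tv P φ u a = S3 P φ u w a 0 0 := by
  rw [S3, tv_zero, zero_smul, Es_zero, mul_one, mul_one]

theorem main [Finite F] [Finite G] (c : Ctx P φ L k t) (r2 : R2 L t) (hN : Fr.Norm)
    (hM : ∀ b s, ∃ p, MB P φ Fr t 1 b s p) {b : BI k} {s : F} (hs : s ≠ 0) {p : G}
    (hp : MB P φ Fr t 1 b s p) :
    CO L t p ∧ (p * p = 1 ∨ p * p = tv P φ (Fr.e b) (s * s)) := by
  have h := c.toSG
  obtain ⟨a, hab, -⟩ := third c.k3 b b
  obtain ⟨p', hp'⟩ := hM (ng a) s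
  obtain ⟨γ, h1, h2, σ, hσ, κ, hκ, hκt, hγ⟩ := gam c hN hab hp hp'
  have hi : I2 P (Fr.e (ng a)) (Fr.e b) := i2_fr Fr (a := ng a) hab
  obtain ⟨ζ, ν, β, hσ'⟩ := (c.g2.crd2 _ _ hi.1 σ).1 hσ
  change σ = S3 P φ _ _ ζ ν β at hσ'
  have hσL : σ ∈ L := hσ' ▸ S3_mem h _ _ _ _ _
  obtain ⟨o, ho, hot, hodd, hko⟩ := split c.tc r2 hκ hκt
  have hco : CO L t p := by
    have key : ∀ o' ∈ C[L], Commute o' t → Odd (orderOf o') → Commute (o * p) o' := by
      intro o' ho' ht' hodd'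
      have h3 := (cl ho' hσL).symm.inv_left.mul_left (h2 o' ho' ht' hodd')
      rw [hγ, mul_assoc σ, inv_mul_cancel_left] at h3
      rcases hko with rfl | rfl
      · exact h3
      · have := ht'.symm.inv_left.mul_left h3
        rwa [mul_assoc t, inv_mul_cancel_left] at this
    have h3 : Commute o p := by
      have := (Commute.refl o).inv_left.mul_left (key o ho hot hodd)
      rw [inv_mul_cancel_left] at this
      exact this.symm
    intro o' ho' ht' hodd'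
    obtain ⟨m, hm⟩ := hp.two
    refine (comm_of_odd_pow hodd hm ?_).symm
    have := (key o' ho' ht' hodd').pow_left (orderOf o)
    rwa [h3.mul_pow, pow_orderOf_eq_one, one_mul] at this
  refine ⟨hco, ?_⟩
  obtain ⟨μ, hμ⟩ := sq_eq c r2 hp hs
  obtain ⟨z, rfl⟩ := exists_sqrt h ζ
  have o1 : P.f (Fr.e a) (Fr.e b) = 0 := orth1 Fr hab
  obtain ⟨η, hη, hpk⟩ : ∃ η : F, (η = 0 ∨ η = s * s) ∧
      p * κ * p⁻¹ = κ * tv P φ (Fr.e b) η := by
    have h3 := conj_of_comm (hco o ho hot hodd).symm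
    rcases hko with rfl | rfl
    · exact ⟨0, Or.inl rfl, by rw [h3, tv_zero, mul_one]⟩
    · exact ⟨s * s, Or.inr rfl, by
        rw [conj_mul', hp.mv, h3, mul_assoc, mul_assoc, (cl ho (ET_mem h _ _ _)).eq]⟩
  have x1 : (eE P (Fr.e a) (Fr.e b) 0).1 (Fr.e (ng a)) = Fr.e (ng a) + Fr.e b := by
    rw [Es_apply h o1, pair2 h hN, hi.1, one_smul, zero_smul, add_zero]
  have x3 : (eE P (Fr.e a) (Fr.e b) 0).1 (Fr.e b) = Fr.e b :=
    eE_fix h (PForm.f_symm_zero o1) (fs h _) 0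
  have e1 : Es P φ (Fr.e a) (Fr.e b) * σ * (Es P φ (Fr.e a) (Fr.e b))⁻¹ =
      S3 P φ (Fr.e (ng a)) (Fr.e b) (z * z) (z * z + ν) (z * z + β) := by
    rw [hσ', S3, Es, ET_eq, conj_mul', conj_mul', conj_tv h, conj_tv h, conj_Es h, map_smul, x1, x3,
      tv_add_vec h hi.1, ← Es_smul h β, smul_add, Es_shear' h, Es_smul h, ← S3,
      S3_tv (Fr.e (ng a)), S3_Es, S3_mul h hi.1, S3_mul h hi.1]
    simp only [add_zero]
  have e2 : ∀ ν' β', p * S3 P φ (Fr.e (ng a)) (Fr.e b) (z * z) ν' β' * p⁻¹ =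
      S3 P φ (Fr.e (ng a)) (Fr.e b) (z * z) ν' (s * z + β') := by
    intro ν' β'
    have c1 : Commute p (Es P φ (Fr.e (ng a)) (β' • Fr.e b)) := by
      rw [← Es_smul h, Es_symm h]; exact cq hp.cent _ _
    rw [S3, conj_mul', conj_mul', conj_of_comm c1, conj_of_comm (cq hp.cent _ _),
      conj_of_cm (hp.comT (ng a) (by simpa using (fst_ne_iff.1 hab).1) z), one_mul, Es_symm h,
      Es_smul h, ← tv, S3_Es, S3_Es, S3_tv (Fr.e (ng a)) (Fr.e b),
      S3_tv' (Fr.e (ng a)) (Fr.e b), S3_mul h hi.1, S3_mul h hi.1, S3_mul h hi.1]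
    simp only [add_zero, zero_add]
  have c1 : Commute p (Es P φ (Fr.e a) (Fr.e b)) := by rw [Es_symm h]; exact cq hp.cent _ _
  rw [hγ, conj_mul', conj_mul', e1, conj_of_comm c1.symm,
    conj_of_comm (cl hκ (ET_mem h _ _ _)).symm] at h1
  have e3 : κ * κ * (σ * S3 P φ (Fr.e (ng a)) (Fr.e b) (z * z) (z * z + ν) (s * z + (z * z + β)) *
      tv P φ (Fr.e b) η * tv P φ (Fr.e b) μ) = 1 := by
    have k1 := (cl hκ hσL).eq
    have k2 := (cl hκ (S3_mem h (Fr.e (ng a)) (Fr.e b) (z * z) (z * z + ν)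
      (s * z + (z * z + β)))).eq
    have e4 := e2 (z * z + ν) (z * z + β)
    generalize S3 P φ (Fr.e (ng a)) (Fr.e b) (z * z) (z * z + ν) (s * z + (z * z + β)) = A at *
    generalize S3 P φ (Fr.e (ng a)) (Fr.e b) (z * z) (z * z + ν) (z * z + β) = B at *
    calc _ = κ * (κ * σ) * A * tv P φ (Fr.e b) η * tv P φ (Fr.e b) μ := by simp only [mul_assoc]
      _ = (κ * σ) * (κ * A) * tv P φ (Fr.e b) η * tv P φ (Fr.e b) μ := by
          conv_lhs => rw [k1]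
          simp only [mul_assoc]
      _ = σ * κ * A * (κ * tv P φ (Fr.e b) η) * tv P φ (Fr.e b) μ := by
          rw [k1, k2]; simp only [mul_assoc]
      _ = σ * κ * p * (B * κ * p) := by rw [← hpk, ← e4, ← hμ]; group
      _ = 1 := h1
  rw [hσ', S3_tv (Fr.e (ng a)), S3_tv (Fr.e (ng a)), S3_mul h hi.1, S3_mul h hi.1,
    S3_mul h hi.1] at e3
  have e5 := zl h c.nf (S3_mem h _ _ _ _ _)
    (by rw [eq_inv_of_mul_eq_one_right e3]; exact inv_mem (mul_mem hκ hκ))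
  obtain ⟨-, e6, e7⟩ := c.g2.uni2 _ _ hi _ _ _ e5
  have e8 : z * (z + s) = 0 := by linear_combination e7 - β * h.two
  have e9 : μ = z * z + η := by linear_combination e6 - (ν + z * z + η) * h.two
  have e10 : z * z = 0 ∨ z * z = s * s := by
    rcases mul_eq_zero.1 e8 with e | e
    · left; rw [e, mul_zero]
    · right; rw [add_eq_zero_iff_eq_neg, fneg h] at e; rw [e]
  rw [hμ, e9]
  rcases e10 with e | e <;> rcases hη with e' | e' <;> rw [e, e']
  · left; rw [add_zero, tv_zero]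
  · right; rw [zero_add]
  · right; rw [add_zero]
  · left; rw [fadd_self h, tv_zero]

end MB

theorem c3a : C3aStmt.{u, v} := by
  intro F V _ _ _ _ _ G _ _ P φ L k t c r2 ns Fr hN l1 hM b s
  have h := c.toSG
  obtain rfl := l1_eq c ns hN hM b
  by_cases hs : s = 0
  · refine ⟨1, ⟨one_mem _, ⟨0, one_pow _⟩, ?_, fun _ _ _ _ _ _ => Commute.one_left _,
      fun _ _ _ => ?_⟩, mul_one 1, fun _ _ _ _ => Commute.one_right _, fun _ => rfl⟩
    · rw [hs, mul_zero, tv_zero, one_mul, inv_one]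
    · rw [hs, mul_zero, zero_mul, zero_smul, Es_zero, commutatorElement_one_left]
  obtain ⟨p, hp⟩ := hM b s
  obtain ⟨hco, h1 | h1⟩ := main c r2 hN hM hs hp
  · exact ⟨p, hp, h1, hco, fun e => absurd e hs⟩
  have h2 : p * t * (p * t) = 1 := by
    calc _ = p * p * (p⁻¹ * t * p) * t := by group
      _ = 1 := by
        rw [h1, mv_inv h hp.cent hp.mv, (cl c.tc.tc (ET_mem h _ _ _)).eq, ← mul_assoc, tv_sq h,
          one_mul, tsq c.tc]
  refine ⟨p * t, ⟨mul_mem hp.cent (centralizer_le (QW_le h _) c.tc.tc), ⟨1, by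
    rw [pow_one, pow_two, h2]⟩, ?_, fun a e h3 h4 h5 r => (hp.comS a e h3 h4 h5 r).mul_left
      (cl c.tc.tc (ET_mem h _ _ _)), fun a ha r => ?_⟩, h2,
    fun κ h3 h4 h5 => (hco κ h3 h4 h5).mul_right h4, fun e => absurd e hs⟩
  · rw [← hp.mv]; group
  · rw [← hp.comT a ha r, commutatorElement_def, commutatorElement_def, mul_assoc p,
      (cl c.tc.tc (ET_mem h _ _ _)).eq]
    group

end Cfsg.Agent.H21.SpC3a
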