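import Cfsg.Agent.H97.U5Defs
import Cfsg.Agent.H96.Alperin
import Cfsg.Agent.H82.SPE

/-! Essential subgroups of a saturated fusion system over a finite `p`-group satisfy `Cp`. -/

set_option autoImplicit false
set_option linter.unusedSectionVars false

namespace Cfsg.Agent.H21.U5E

open Cfsg Cfsg.Agent.H97 Cfsg.Agent.H97.U5 Cfsg.Agent.H96 Cfsg.Agent.H96.VB Subgroup
open scoped commutatorElement IsMulCommutative

universe u

variable {G : Type u} [Group G] {P X Y : Subgroup G} {p : ℕ}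

/-- The automorphisms acting trivially on `X / Y`. -/
def stp (h : Ch P X) (Y : Subgroup G) : Subgroup (MulAut P) where
  carrier := {α | ∀ x ∈ X, x⁻¹ * ext α x ∈ Y}
  one_mem' := fun x _ => by simp
  mul_mem' := fun {α β} ha hb x hx => by
    have := Y.mul_mem (hb x hx) (ha _ (h.2 β x (h.1 hx) hx))
    rwa [mul_assoc, mul_inv_cancel_left, ← ext_mul] at this
  inv_mem' := fun {α} ha x hx => by
    simpa using Y.inv_mem (ha _ (h.2 α⁻¹ x (h.1 hx) hx))

theorem stp_normal (h : Ch P X) (k : Ch P Y) : (stp h Y).Normal := ⟨fun α ha γ x hx => by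
  have h1 := ext_mem γ⁻¹ (h.1 hx)
  have h2 := ha _ (h.2 γ⁻¹ x (h.1 hx) hx)
  have h3 := k.2 γ _ (k.1 h2) h2
  rwa [ext_map_mul γ (inv_mem h1) (ext_mem α h1), ext_map_inv γ h1, ext_ext_inv, ← ext_mul,
    ← ext_mul] at h3⟩

theorem mem_stp_bot (h : Ch P X) {α : MulAut P} : α ∈ stp h ⊥ ↔ ∀ x ∈ X, ext α x = x :=
  forall₂_congr fun _ _ => mem_bot.trans (inv_mul_eq_one.trans eq_comm)

theorem conj_mem_stp (h : Ch P X) {g : G} (hg : g ∈ normalizer (P : Set G))
    (e : ∀ x ∈ X, ⁅g, x⁆ ∈ Y) : conjAut P hg ∈ stp h Y := fun x hx => by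
  have := Y.inv_mem (e _ (X.inv_mem hx))
  rw [ext_conjAut hg (h.1 hx)]
  simpa [commutatorElement_def, mul_assoc] using this

theorem pow_stp (h : Ch P X) (k : Ch P Y) {α : MulAut P} (ha : α ∈ stp h Y) (hb : α ∈ stp k ⊥) :
    α ^ Nat.card G ∈ stp h ⊥ := by
  refine (mem_stp_bot h).2 fun x hx => ?_
  have h1 := ha x hx
  have key : ∀ n : ℕ, ext (α ^ n) x = x * (x⁻¹ * ext α x) ^ n := fun n => by
    induction n with
    | zero => simp
    | succ n ih =>
      rw [pow_succ', ext_mul, ih, ext_map_mul α (h.1 hx) (k.1 (pow_mem h1 n)),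
        (mem_stp_bot k).1 hb _ (pow_mem h1 n), pow_succ', ← mul_assoc, mul_inv_cancel_left]
  rw [key, pow_card_eq_one', mul_one]

variable [Finite G] [Fact p.Prime]

theorem exists_stab (hG : IsPGroup p G) : ∀ (L : List (Subgroup G)) {X : Subgroup G} (h : Ch P X),
    (∀ Y ∈ L, Ch P Y) → ∃ M : Subgroup (MulAut P), M.Normal ∧
      (∀ α ∈ M, ∃ k, α ^ p ^ k ∈ stp h ⊥) ∧
      ∀ g (hg : g ∈ normalizer (P : Set G)), St g X L → conjAut P hg ∈ M
  | [], _, h, _ => ⟨stp h ⊥, stp_normal h Ch.bot, fun _ ha => ⟨0, by simpa using ha⟩,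
      fun _ hg e => conj_mem_stp h hg e⟩
  | Y :: L, _, h, hL => by
    have k := hL Y List.mem_cons_self
    obtain ⟨M, h1, h2, h3⟩ := exists_stab hG L k fun Z hZ => hL Z (List.mem_cons_of_mem _ hZ)
    have := stp_normal h k
    refine ⟨stp h Y ⊓ M, inferInstance, fun α ha => ?_,
      fun g hg e => ⟨conj_mem_stp h hg e.1, h3 g hg e.2⟩⟩
    obtain ⟨i, hi⟩ := h2 α ha.2
    obtain ⟨j, hj⟩ := IsPGroup.iff_card.1 hG
    exact ⟨i + j, by rw [pow_add, pow_mul, ← hj]; exact pow_stp h k (pow_mem ha.1 _) hi⟩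

/-- Restriction to a characteristic subgroup. -/
noncomputable def res (h : Ch P X) : MulAut P →* MulAut X where
  toFun α :=
    { toFun := fun x => ⟨ext α x, h.2 α x (h.1 x.2) x.2⟩
      invFun := fun x => ⟨ext α⁻¹ x, h.2 α⁻¹ x (h.1 x.2) x.2⟩
      left_inv := fun x => Subtype.ext (ext_inv_ext α x)
      right_inv := fun x => Subtype.ext (ext_ext_inv α x)
      map_mul' := fun x y => Subtype.ext (ext_map_mul α (h.1 x.2) (h.1 y.2)) }
  map_one' := MulEquiv.ext fun _ => Subtype.ext (ext_one _)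
  map_mul' α β := MulEquiv.ext fun x => Subtype.ext (ext_mul α β x)

theorem cp_of_data (off : OffStmt.{u} p) (hG : IsPGroup p G) (hP : P ≠ ⊤)
    (hC : centralizer (P : Set G) ≤ P) {A : Subgroup (MulAut P)} (le : autInducedBy ⊤ P ≤ A)
    {Γ : Type u} [Group Γ] [Finite Γ] {π : A →* Γ} (surj : Function.Surjective π)
    (ker : ∀ a : A, π a = 1 ↔ a.1 ∈ Inn P) {H : Subgroup Γ} (se : IsStronglyPEmbedded p H)
    (mem : ∀ a : A, a.1 ∈ autInducedBy ⊤ P → π a ∈ H) : Cp p P := by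
  have m0 : ∀ n : normalizer (P : Set G), P.normalizerMonoidHom n ∈ autInducedBy ⊤ P := fun n =>
    conjAut_mem_autInducedBy (mem_top _) n.2
  let ν : normalizer (P : Set G) →* A := P.normalizerMonoidHom.codRestrict A fun n => le (m0 n)
  let η := π.comp ν
  have η1 : ∀ n, η n = 1 ↔ (n : G) ∈ P := fun n => by
    refine (ker _).trans (mem_inn_iff.trans ⟨fun ⟨x, hx, e⟩ => ?_,
      fun h => ⟨n, h, fun x hx => ext_conjAut n.2 hx⟩⟩)
    have : x⁻¹ * n ∈ P := hC fun y hy => by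
      have := (ext_conjAut n.2 hy).symm.trans (e y hy)
      calc y * (x⁻¹ * n) = x⁻¹ * (x * y * x⁻¹) * n := by group
        _ = _ := by rw [← this]; group
    simpa using P.mul_mem hx this
  have key : ∀ M : Subgroup (MulAut P), M.Normal → (∀ α ∈ M, ∃ k, α ^ p ^ k ∈ stp Ch.self ⊥) →
      ∀ a : A, a.1 ∈ M → π a = 1 := fun M hM h a ha => by
    have : ((M.subgroupOf A).map π).Normal := Normal.map inferInstance π surj
    refine mem_bot.1 (H82.eq_bot_of_normal_of_isStronglyPEmbedded se ((M.subgroupOf A).map π)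
      (IsPGroup.map (fun b => (h b.1.1 b.2).imp fun k e => Subtype.ext (Subtype.ext ?_)) π) ▸
        ⟨a, ha, rfl⟩)
    exact aut_eq_one ((mem_stp_bot _).1 e)
  refine ⟨hP, fun L hL g hg => ?_, fun B b hB h1 h2 h3 h4 g hg => ?_⟩
  · have hn : g ∈ normalizer (P : Set G) := mem_normalizer_of_comm fun x hx => by
      cases L with
      | nil => rw [hg x hx]; exact one_mem _
      | cons Y L => exact (hL Y (by simp)).1 (hg.1 x hx)
    obtain ⟨M, k1, k2, k3⟩ := exists_stab hG L Ch.self hL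
    exact (η1 ⟨g, hn⟩).1 (key M k1 k2 _ (k3 g hn hg))
  have h : Ch P (zp p P) := ch_zp
  have : IsMulCommutative (zp p P) := ⟨⟨fun x y => Subtype.ext (x.2.2.2 y y.2.1)⟩⟩
  have hN : B ≤ normalizer (P : Set G) := fun c hc =>
    mem_normalizer_of_comm fun x hx => (h1 c hc x hx).1
  let ρ : Γ →* MulAut (zp p P) := π.liftOfSurjective surj ⟨(res h).comp A.subtype, fun a ha => by
    obtain ⟨y, hy, e⟩ := mem_inn_iff.1 ((ker a).1 ha)
    exact MulEquiv.ext fun x => Subtype.ext ((e x x.2.1).trans (by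
      rw [← x.2.2.2 y hy, mul_inv_cancel_right]; rfl))⟩
  have ρπ : ∀ a, ρ (π a) = res h a.1 := fun a => π.liftOfRightInverse_comp_apply _ _ _ a
  have ρη : ∀ n x, (ρ (η n) x : G) = n * x * (n : G)⁻¹ := fun n x => by
    rw [show η n = π (ν n) from rfl, ρπ]
    exact ext_conjAut n.2 x.2.1
  have n1 := stp_normal Ch.self h
  have n2 := stp_normal h Ch.bot
  have mC : ∀ x : zp p P, x ∈ (centralizer (B : Set G)).subgroupOf (zp p P) ↔
      ∀ c ∈ B, ⁅c, (x : G)⁆ = 1 := fun x =>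
    forall₂_congr fun _ _ => commutatorElement_eq_one_iff_mul_comm.symm
  obtain ⟨c, hc, e⟩ := off Γ (zp p P) ρ H (((stp Ch.self (zp p P)).subgroupOf A).map π)
    ((B.subgroupOf _).map η) η.range ((centralizer (B : Set G)).subgroupOf _) (hG.to_subgroup _) se
    (Normal.map inferInstance π surj)
    (by
      rintro _ ⟨a, ha, rfl⟩ e
      obtain ⟨j, hj⟩ := IsPGroup.iff_card.1 hG
      refine key (stp Ch.self (zp p P) ⊓ stp h ⊥) inferInstance
        (fun α hα => ⟨j, hj ▸ pow_stp _ h hα.1 hα.2⟩) a ⟨ha, (mem_stp_bot h).2 fun x hx => ?_⟩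
      exact congrArg Subtype.val (MulEquiv.congr_fun ((ρπ a).symm.trans e) ⟨x, hx⟩))
    (by rintro _ ⟨c, hc, rfl⟩; exact ⟨ν c, conj_mem_stp Ch.self c.2 (h1 c hc), rfl⟩)
    (fun e => hB fun c hc => (η1 ⟨c, hN hc⟩).1 (mem_bot.1 (e ▸ ⟨_, hc, rfl⟩)))
    ((hG.to_subgroup _).of_surjective _ η.rangeRestrict_surjective) (map_le_range _ _)
    (by rintro _ ⟨c, rfl⟩; exact mem _ (m0 c))
    (fun x => (mC x).trans ⟨by
        rintro e _ ⟨c, hc, rfl⟩
        exact Subtype.ext ((ρη c x).trans (mul_inv_eq_one.1 (e c hc))),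
      fun e c hc => by
        have := ρη ⟨c, hN hc⟩ x
        rw [e _ ⟨⟨c, hN hc⟩, hc, rfl⟩] at this
        rw [commutatorElement_def, ← this, mul_inv_cancel]⟩)
    (by
      rintro _ ⟨c, hc, rfl⟩ x
      refine (mC _).2 fun d hd => ?_
      rw [mul_comm, Subgroup.coe_mul, ρη]
      exact h2 c hc d hd x x.2)
    (Nat.card_le_card_of_injective
      (fun q => (⟨η ⟨b (q.out : zp p P), hN (h3 _ q.out.2)⟩, _, h3 _ q.out.2, rfl⟩ :
        (B.subgroupOf _).map η)) fun q q' e => by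
      rw [← q.out_eq', ← q'.out_eq', QuotientGroup.eq, mC]
      refine h4 _ q.out.2 _ q'.out.2 ((η1 (⟨_, hN (h3 _ q.out.2)⟩⁻¹ * ⟨_, hN (h3 _ q'.out.2)⟩)).1 ?_)
      rw [map_mul, map_inv, inv_mul_eq_one]
      exact congrArg Subtype.val e)
    ⟨⟨g, mem_normalizer_of_comm hg⟩, rfl⟩
  exact ⟨c, hc, (η1 (c⁻¹ * ⟨g, _⟩)).1 (by rw [map_mul, map_inv, e, inv_mul_cancel])⟩

/-- Essential subgroups are critical. -/
theorem ess (h : OffStmt.{u} p) : EssStmt.{u} p := by
  intro G _ _ hG F hF P hP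
  have hS : IsPGroup p (⊤ : Subgroup G) := hG.to_subgroup _
  have hl := lt_of_isEssential hS hF hP
  have hse := ((sat_extAut_dichotomy hS hF hl hP.2.1).resolve_left fun h => h.1 hP).2
  exact cp_of_data h hG hl.ne (fun g hg => hP.1.2 P (isConj_refl F le_top) ⟨trivial, hg⟩)
    (autInducedBy_le_autGroup F le_top le_rfl) (π := outMk F P) (QuotientGroup.mk'_surjective _)
    (fun _ => outMk_eq_one_iff) hse
    fun a ha => (outMk_mem_outImg (inn_le_extAut hl)).2 (autInducedBy_le_extAut hl ha)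

end Cfsg.Agent.H21.U5E
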