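import Cfsg.Agent.H97.XSBase

/-! Project XS, piece C2b: the anisotropic quadratic form and the order `p ^ 6`. -/

set_option autoImplicit false

namespace Cfsg.Agent.H21.XS

open Cfsg Cfsg.FusionSystem Cfsg.Agent.H97 Cfsg.Agent.H97.XS Cfsg.Agent.H98 Cfsg.Agent.H96
  Cfsg.Agent.H5 Subgroup
open scoped commutatorElement

universe u

theorem idx_le {G A : Type*} [Group G] [Group A] [Finite A] {H : Subgroup G} (θ : G →* A)
    (hk : θ.ker ≤ H) : H.index ≤ Nat.card A := by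
  have h1 := index_dvd_of_le hk
  rw [index_ker] at h1
  exact (Nat.le_of_dvd Nat.card_pos h1).trans (card_le_card_group _)

theorem exists_quad {p : ℕ} [hp : Fact p.Prime] (hp2 : p ≠ 2) {a b : ZMod p} (ha : a ≠ 0)
    (hb : b ≠ 0) (c : ZMod p) : ∃ s t, a * s ^ 2 + (b * t ^ 2 + c) = 0 := by
  obtain ⟨s, t, e⟩ := FiniteField.exists_root_sum_quadratic (R := ZMod p)
    (f := Polynomial.C a * Polynomial.X ^ 2) (g := Polynomial.C b * Polynomial.X ^ 2 + Polynomial.C c)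
    (Polynomial.degree_C_mul_X_pow 2 ha) (by
      rw [Polynomial.degree_add_C (by rw [Polynomial.degree_C_mul_X_pow 2 hb]; norm_num),
        Polynomial.degree_C_mul_X_pow 2 hb]; rfl)
    (by rw [ZMod.card]; exact (hp.out.eq_two_or_odd).resolve_left hp2)
  exact ⟨s, t, by simpa using e⟩

/-- a quadratic function without zeros outside `H`. -/
theorem alg {G : Type*} [Group G] {p : ℕ} [hp : Fact p.Prime] (hp2 : p ≠ 2) (H : Subgroup G)
    (f : G → ZMod p) (b : G → G → ZMod p) (hf : ∀ x y, f (x * y) = f x + f y + b x y)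
    (hb : ∀ x y w, b (x * y) w = b x w + b y w) (hs : ∀ x y, b x y = b y x)
    (h0 : ∀ x, f x = 0 ↔ x ∈ H) (hH : ∀ x ∈ H, ∀ y, b x y = 0) (hi : ¬ H.index ≤ p) :
    (∀ x, 2 * f x = b x x) ∧ H.index ≤ p ^ 2 := by
  have two : (2 : ZMod p) ≠ 0 := fun e => hp2 ((Nat.prime_dvd_prime_iff_eq hp.out Nat.prime_two).1
    ((ZMod.natCast_eq_zero_iff 2 p).1 (by exact_mod_cast e)))
  have hb' : ∀ w x y, b w (x * y) = b w x + b w y := fun w x y => by rw [hs, hb, hs x, hs y]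
  let B : G → G →* Multiplicative (ZMod p) := fun w =>
    MonoidHom.mk' (fun x => Multiplicative.ofAdd (b x w)) fun x y => by rw [hb, ofAdd_add]
  let L : G →* Multiplicative (ZMod p) :=
    MonoidHom.mk' (fun x => Multiplicative.ofAdd (2 * f x - b x x)) fun x y => by
      rw [← ofAdd_add, hf, hb, hb', hb', hs y x]; congr 1; ring
  have bp : ∀ x w (t : ZMod p), b (x ^ t.val) w = t * b x w := fun x w t => by
    have := congrArg Multiplicative.toAdd (map_pow (B w) x t.val)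
    simpa [B] using this
  have bp' : ∀ x w (t : ZMod p), b w (x ^ t.val) = t * b w x := fun x w t => by rw [hs, bp, hs]
  have lp : ∀ x (t : ZMod p), 2 * f (x ^ t.val) - b (x ^ t.val) (x ^ t.val) =
      t * (2 * f x - b x x) := fun x t => by
    have := congrArg Multiplicative.toAdd (map_pow L x t.val)
    simpa [L] using this
  have lm : ∀ x y, 2 * f (x * y) - b (x * y) (x * y) = (2 * f x - b x x) + (2 * f y - b y y) :=
    fun x y => congrArg Multiplicative.toAdd (map_mul L x y)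
  have one : ∀ x, 2 * f x - b x x ≠ 0 → b x x = 0 := fun x hl => by
    by_contra hx
    have h1 := lp x (-(2 * f x - b x x) / b x x)
    rw [bp, bp'] at h1
    have h2 : f (x ^ (-(2 * f x - b x x) / b x x).val) = 0 :=
      mul_left_cancel₀ two (by rw [sub_eq_iff_eq_add.1 h1]; field_simp; ring)
    have h3 := hH _ ((h0 _).1 h2) x
    rw [bp, div_mul_cancel₀ _ hx, neg_eq_zero] at h3
    exact hl h3
  have cK : Nat.card (Multiplicative (ZMod p)) = p := Nat.card_zmod p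
  have ex : ∀ θ : G →* Multiplicative (ZMod p), ∃ y, θ y = 1 ∧ y ∉ H := fun θ => by
    by_contra! h
    exact hi ((idx_le θ h).trans cK.le)
  have l0 : ∀ x, 2 * f x = b x x := fun x => by
    by_contra hx
    have hx' := sub_ne_zero.2 hx
    obtain ⟨y, hy, hyH⟩ := ex L
    have hy' : 2 * f y - b y y = 0 := congrArg Multiplicative.toAdd hy
    have k : ∀ t : ZMod p, 2 * t * b x y + t ^ 2 * b y y = 0 := fun t => by
      have h1 := one (x * y ^ t.val) (by rwa [lm, lp, hy', mul_zero, add_zero])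
      rw [hb, hb', hb', one x hx', bp', bp, bp, bp', hs y x] at h1
      linear_combination h1
    have h2 : b y y = 0 := mul_left_cancel₀ two (by linear_combination k 1 + k (-1))
    rw [h2, sub_zero] at hy'
    exact hyH ((h0 y).1 ((mul_eq_zero.1 hy').resolve_left two))
  have an : ∀ x, b x x = 0 → x ∈ H := fun x hx =>
    (h0 x).1 ((mul_eq_zero.1 ((l0 x).trans hx)).resolve_left two)
  refine ⟨l0, ?_⟩
  obtain ⟨y1, -, h1⟩ := ex 1
  obtain ⟨y2, h12, h2⟩ := ex (B y1)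
  have h12' : b y2 y1 = 0 := congrArg Multiplicative.toAdd h12
  refine (idx_le ((B y1).prod (B y2)) fun y3 h3 => ?_).trans (by rw [Nat.card_prod, cK, pow_two])
  have h31 : b y3 y1 = 0 := congrArg (fun w => Multiplicative.toAdd w.1) (MonoidHom.mem_ker.1 h3)
  have h32 : b y3 y2 = 0 := congrArg (fun w => Multiplicative.toAdd w.2) (MonoidHom.mem_ker.1 h3)
  obtain ⟨s, t, e⟩ := exists_quad hp2 (fun e => h1 (an _ e)) (fun e => h2 (an _ e)) (b y3 y3)
  have h4 := hH _ (an (y1 ^ s.val * y2 ^ t.val * y3) (by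
    simp only [hb, hb', bp, bp', hs y1 y2, hs y1 y3, hs y2 y3, h12', h31, h32]
    linear_combination e)) y3
  simp only [hb, bp, hs y1 y3, hs y2 y3, h31, h32, mul_zero, zero_add] at h4
  exact an _ h4

variable {Ω : Type*} [Group Ω] {p : ℕ} [hp : Fact p.Prime] {S Q E : Subgroup Ω} [Finite S]
  {F : FusionSystem S} {z : Ω}

theorem exists_chi (h : XQ p S Q z) : ∃ χ : Ω → ZMod p,
    (∀ x ∈ S, ∀ y ∈ S, χ (x * y) = χ x + χ y) ∧ ∀ x ∈ S, χ x = 0 ↔ x ∈ Q := by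
  classical
  have : (Q.subgroupOf S).Normal := (normal_subgroupOf_iff_le_normalizer h.le).2 h.nQ
  let e : S ⧸ Q.subgroupOf S ≃* Multiplicative (ZMod p) :=
    mulEquivOfPrimeCardEq h.idx (Nat.card_zmod p)
  refine ⟨fun x => if hx : x ∈ S then (e (QuotientGroup.mk ⟨x, hx⟩)).toAdd else 0,
    fun x hx y hy => ?_, fun x hx => ?_⟩
  · beta_reduce
    rw [dif_pos hx, dif_pos hy, dif_pos (S.mul_mem hx hy), ← toAdd_mul, ← map_mul]
    rfl
  · beta_reduce
    rw [dif_pos hx, toAdd_eq_zero, map_eq_one_iff e e.injective, QuotientGroup.eq_one_iff,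
      mem_subgroupOf]

section
variable (h : Loc p F Q E z) (ho : Out2 F Q E z) (ha : ∀ x ∈ E, ∀ y ∈ E, Commute x y)
  (hc : ∀ y ∈ Q, (∀ x ∈ E, x ∈ Q → Commute x y) → y ∈ E)
  {β : MulAut E} (hβ : β ∈ F.autGroup E) (hm : ext β z ∉ zpowers z)
include h ha hc

theorem phi_mem {e y : Ω} (he : e ∈ E) (hy : y ∈ Q) : ⁅y, e⁆ ∈ E :=
  hc _ (h.comm_mem hy (h.ES he)) fun x hx hxQ => by
    have := h.invar hy hxQ (h.ES he)
    rw [commutatorElement_eq_one_iff_commute.2 (ha x hx e he), commutatorElement_one_right,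
      commutatorElement_one_right, mul_one] at this
    exact (commutatorElement_eq_one_iff_commute.1 this).symm

theorem comm_H : ∀ g ∈ S, ∀ x ∈ E, ⁅g, x⁆ ∈ E ⊓ Q := by
  intro g hg x hx
  obtain ⟨e, he, heQ⟩ := SetLike.not_le_iff_exists.1 h.not_le
  obtain ⟨q, hq, k, rfl⟩ := h.exists_eq (h.ES he) heQ hg
  have : ⁅q * e ^ k, x⁆ = ⁅q, x⁆ := by
    have := (ha _ (E.pow_mem he k) x hx).eq
    simp only [commutatorElement_def]
    calc _ = q * (e ^ k * x) * (e ^ k)⁻¹ * q⁻¹ * x⁻¹ := by group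
      _ = _ := by rw [this]; group
  rw [this]
  exact ⟨phi_mem h ha hc hx hq, h.comm_mem hq (h.ES hx)⟩

include ho hβ hm

theorem mem_of_Q {y : Ω} (hy : y ∈ Q) (h1 : ext β⁻¹ ⁅y, ext β z⁆ ∈ Q) : y ∈ E := by
  have := finite_of_le h.ES
  have he := ext_mem β h.zE
  have hn : y ∈ normalizer (E : Set Ω) := mem_normalizer_fintype fun x hx => by
    have := E.mul_mem (phi_mem h ha hc hx hy) hx
    rwa [commutatorElement_def, inv_mul_cancel_right] at this
  have ht := autInducedBy_le_autGroup F h.ES le_rfl (conjAut_mem_autInducedBy (h.le hy) hn)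
  have e1 : ext (β⁻¹ * conjAut E hn * β) z = ext β⁻¹ ⁅y, ext β z⁆ * z := by
    rw [ext_mul, ext_mul, ext_conjAut _ he]
    conv_rhs => rw [← ext_inv_ext β z, ← homOn_ext β⁻¹ _ (by
      rw [ext_ext_inv]; exact phi_mem h ha hc he hy) _ he]
    rw [ext_ext_inv, commutatorElement_def, inv_mul_cancel_right]
  have h2 := ho _ (Subgroup.mul_mem _ (Subgroup.mul_mem _ (Subgroup.inv_mem _ hβ) ht) hβ)
    (e1 ▸ Q.mul_mem h1 h.zQ)
  rw [e1, (zpowers z).mul_mem_cancel_right (mem_zpowers z)] at h2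
  have h3 : ⁅y, ext β z⁆ ∈ zpowers (ext β z) := by
    have := Loc.ext_zpowers (β := β) h.zE (mem_zpowers _) h2
    rwa [ext_ext_inv] at this
  refine h.cent hβ hm (h.le hy) (commutatorElement_eq_one_iff_commute.1 ?_)
  by_contra hne
  exact hm (ho β hβ (zpowers_le.2 (h.comm_mem hy (h.ES he))
    (mem_zpowers_of_card_eq (h.card_ext β) h3 hne (mem_zpowers _))))

theorem main : (E ⊓ Q).relIndex Q ≤ p ^ 2 ∧ (∀ y ∈ Q, ⁅y, ⁅y, ext β z⁆⁆ = 1 → y ∈ E) ∧
    ∀ y ∈ Q, ext β⁻¹ (⁅y, ⁅y, ext β z⁆⁆⁻¹ * ⁅y, ext β z⁆ ^ 2) ∈ Q := by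
  obtain ⟨χ, hχ, hχ0⟩ := exists_chi h.toXQ
  have he := ext_mem β h.zE
  have lam : ∀ x ∈ E, ∀ y ∈ E, χ (ext β⁻¹ (x * y)) = χ (ext β⁻¹ x) + χ (ext β⁻¹ y) :=
    fun x hx y hy => by
      rw [homOn_ext β⁻¹ x hx y hy, hχ _ (h.ES (ext_mem _ hx)) _ (h.ES (ext_mem _ hy))]
  have lam0 : ∀ x ∈ E, χ (ext β⁻¹ x) = 0 ↔ ext β⁻¹ x ∈ Q := fun x hx =>
    hχ0 _ (h.ES (ext_mem _ hx))
  have lam1 : χ (ext β⁻¹ 1) = 0 := (lam0 1 E.one_mem).2 (by
    rw [(homOn_ext β⁻¹).map_one]; exact Q.one_mem)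
  have pE : ∀ {y}, y ∈ Q → ⁅y, ext β z⁆ ∈ E := fun hy => phi_mem h ha hc he hy
  have pQ : ∀ {y}, y ∈ Q → ⁅y, ext β z⁆ ∈ Q := fun hy => h.comm_mem hy (h.ES he)
  have cE : ∀ {x y}, x ∈ Q → y ∈ Q → ⁅x, y⁆ ∈ E := fun hx hy => h.zleE (h.comm _ hx _ hy)
  have pp : ∀ {x y}, x ∈ Q → y ∈ Q → ⁅⁅x, ext β z⁆, ⁅y, ext β z⁆⁆ = 1 := fun hx hy =>
    commutatorElement_eq_one_iff_commute.2 (ha _ (pE hx) _ (pE hy))
  have sy : ∀ {x y}, x ∈ Q → y ∈ Q → ⁅x, ⁅y, ext β z⁆⁆ = ⁅y, ⁅x, ext β z⁆⁆ := fun hx hy => by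
    have := h.invar hx hy (h.ES he)
    rw [pp hx hy, mul_eq_one_iff_inv_eq, commutatorElement_inv] at this
    exact this.symm
  have p1 : ∀ {x}, x ∈ E → ⁅x, ext β z⁆ = 1 := fun hx =>
    commutatorElement_eq_one_iff_commute.2 (ha _ hx _ he)
  have h0 : ∀ y ∈ Q, χ (ext β⁻¹ ⁅y, ext β z⁆) = 0 ↔ y ∈ E := fun y hy =>
    ⟨fun e => mem_of_Q h ho ha hc hβ hm hy ((lam0 _ (pE hy)).1 e), fun e => by rw [p1 e, lam1]⟩
  obtain ⟨a1, a2⟩ := alg h.odd ((E ⊓ Q).subgroupOf Q) (fun y => χ (ext β⁻¹ ⁅(y : Ω), ext β z⁆))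
    (fun x y => χ (ext β⁻¹ ⁅(x : Ω), ⁅(y : Ω), ext β z⁆⁆))
    (fun x y => by
      rw [coe_mul, h.comm_mul_S x.2 y.2 (h.ES he), pp y.2 x.2, mul_one,
        lam _ (E.mul_mem (pE x.2) (pE y.2)) _ (cE x.2 (pQ y.2)), lam _ (pE x.2) _ (pE y.2)])
    (fun x y w => by
      rw [coe_mul, h.comm_mul_left x.2 y.2 (pQ w.2), lam _ (cE x.2 (pQ w.2)) _ (cE y.2 (pQ w.2))])
    (fun x y => by rw [sy x.2 y.2])
    (fun x => (h0 x x.2).trans (by rw [mem_subgroupOf, mem_inf, and_iff_left x.2]))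
    (fun x hx y => by rw [sy x.2 y.2, p1 (x := x) hx.1, commutatorElement_one_right, lam1])
    (fun hi => h.not_comm_of_relIndex_le inf_le_right ⟨h.zE, h.zQ⟩ hi
      fun x hx y hy => ha x hx.1 y hy.1)
  have two : (2 : ZMod p) ≠ 0 := fun e => h.odd ((Nat.prime_dvd_prime_iff_eq hp.out
    Nat.prime_two).1 ((ZMod.natCast_eq_zero_iff 2 p).1 (by exact_mod_cast e)))
  refine ⟨a2, fun y hy e => ?_, fun y hy => ?_⟩
  · have := a1 ⟨y, hy⟩
    simp only [e, lam1] at this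
    exact (h0 y hy).1 ((mul_eq_zero.1 this).resolve_left two)
  · have m1 := cE hy (pQ hy)
    rw [← lam0 _ (E.mul_mem (E.inv_mem m1) (E.pow_mem (pE hy) 2)),
      lam _ (E.inv_mem m1) _ (E.pow_mem (pE hy) 2), pow_two, lam _ (pE hy) _ (pE hy)]
    have a3 := lam _ (E.inv_mem m1) _ m1
    rw [inv_mul_cancel, lam1] at a3
    linear_combination a1 ⟨y, hy⟩ - a3

end

/-- **C2b** -/
theorem c2b : C2bStmt.{u} := by
  intro Ω _ p hp S Q E _ F z h ho ha _ hc
  obtain ⟨γ, hγ, hm⟩ := h.mov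
  have h1 := (main h ho ha hc hγ hm).1
  have := finite_of_le h.le
  have h2 : (zpowers z).relIndex (E ⊓ Q) ≤ p ^ 2 := by
    refine (h.dual inf_le_right).trans (le_trans ?_ h1)
    refine relIndex_le_of_le_left ?_ FiniteIndex.index_ne_zero
    exact fun x hx => mem_centralizerIn_comm.2 ⟨hx.2, fun y hy => ha y hy.1 x hx.1⟩
  have h3 := card_mul_relIndex' (show zpowers z ≤ E ⊓ Q from le_inf h.zleE h.zle)
  have h4 := card_mul_relIndex' (show E ⊓ Q ≤ Q from inf_le_right)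
  have h5 := card_mul_relIndex' (show E ⊓ Q ≤ E from inf_le_left)
  have h6 := h.card_Q_ge
  have h7 := h.card_Q
  have p0 := hp.out.pos
  rw [h.card_z] at h3
  rw [h.idxH] at h5
  have h8 : Nat.card ↥(E ⊓ Q) ≤ p ^ 3 := by
    rw [← h3, pow_succ' p 2]; exact Nat.mul_le_mul_left _ h2
  have h9 : p ^ 3 ≤ Nat.card ↥(E ⊓ Q) := by
    refine Nat.le_of_mul_le_mul_right (c := p ^ 2) ?_ (pow_pos p0 2)
    rw [← pow_add]
    exact h6.trans (h4 ▸ Nat.mul_le_mul_left _ h1)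
  have h10 : Nat.card Q ≤ p ^ 5 := by
    rw [← h4, show 5 = 3 + 2 from rfl, pow_add]; exact Nat.mul_le_mul h8 h1
  refine ⟨by rw [← h7, le_antisymm h10 h6, ← pow_succ], by rw [← h5, le_antisymm h8 h9, ← pow_succ],
    comm_H h ha hc, fun β hβ hm => (main h ho ha hc hβ hm).2⟩

end Cfsg.Agent.H21.XS
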